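import Cfsg.Agent.Core.Frattini

/-!
# Core library: action on abelian groups, fixed-point-free action, generation by centralizers
-/

set_option autoImplicit false

namespace Cfsg.Agent.Core

open Subgroup
open scoped Pointwise commutatorElement

universe u v

variable {G : Type u} [Group G] {G' : Type v} [Group G']

section Abstract

variable {L : Type u} [Group L] {V : Type v} [CommGroup V] (ρ : L →* MulAut V)

theorem norm_fixed (K : Subgroup L) [Fintype K] (v : V) {k : L} (hk : k ∈ K) :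
    ρ k (∏ x : K, ρ x v) = ∏ x : K, ρ x v := by
  rw [map_prod]
  refine Fintype.prod_equiv (Equiv.mulLeft (⟨k, hk⟩ : K)) _ _ fun x => ?_
  simp

theorem norm_smul (K : Subgroup L) [Fintype K] (v : V) {k : L} (hk : k ∈ K) :
    ∏ x : K, ρ x (ρ k v) = ∏ x : K, ρ x v := by
  refine Fintype.prod_equiv (Equiv.mulRight (⟨k, hk⟩ : K)) _ _ fun x => ?_
  simp

/-- A Frobenius group `K R` acting on an abelian group with neither `K` nor `R` fixing a
nonidentity element: the exponent divides `|K|`. -/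
theorem pow_card_eq_one_of_frobenius [Finite L] {K R : Subgroup L}
    (hRK : R ≤ normalizer (K : Set L)) (hf : ∀ r ∈ R, r ≠ 1 → K ⊓ centralizer {r} = ⊥)
    (hK : ∀ v, (∀ k ∈ K, ρ k v = v) → v = 1) (hR : ∀ v, (∀ r ∈ R, ρ r v = v) → v = 1) (v : V) :
    v ^ Nat.card K = 1 := by
  classical
  let _ : Fintype K := Fintype.ofFinite _
  let _ : Fintype R := Fintype.ofFinite _
  have nK : ∀ w, ∏ x : K, ρ x w = 1 := fun w => hK _ fun k hk => norm_fixed ρ K w hk
  have nR : ∀ w, ∏ x : R, ρ x w = 1 := fun w => hR _ fun k hk => norm_fixed ρ R w hk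
  have h1 : ∏ k : K, ∏ r : R, ρ (k * r * (k : L)⁻¹) v = 1 := by
    refine Finset.prod_eq_one fun k _ => ?_
    simp only [map_mul, MulAut.mul_apply]
    rw [← map_prod, nR, map_one]
  have h2 : ∀ r : R, r ≠ 1 → ∏ k : K, ρ (k * r * (k : L)⁻¹) v = 1 := by
    intro r hr
    let f : K → K := fun k => ⟨k * (r * (k : L)⁻¹ * (r : L)⁻¹),
      K.mul_mem k.2 (conj_mem_of_mem_normalizer (hRK r.2) (K.inv_mem k.2))⟩
    have hinj : Function.Injective f := by
      intro a b hab
      have e : (a : L) * (r * (a : L)⁻¹ * (r : L)⁻¹) = b * (r * (b : L)⁻¹ * (r : L)⁻¹) :=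
        congrArg Subtype.val hab
      have : (b : L)⁻¹ * a ∈ K ⊓ centralizer {(r : L)} := by
        refine ⟨K.mul_mem (K.inv_mem b.2) a.2, mem_centralizer_singleton_iff.mpr ?_⟩
        calc (b : L)⁻¹ * a * r = (b : L)⁻¹ * (a * (r * (a : L)⁻¹ * (r : L)⁻¹)) * r * a := by group
          _ = (b : L)⁻¹ * (b * (r * (b : L)⁻¹ * (r : L)⁻¹)) * r * a := by rw [e]
          _ = _ := by group
      rw [hf r r.2 (fun h => hr (Subtype.ext h)), mem_bot, inv_mul_eq_one] at this
      exact Subtype.ext this.symm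
    rw [← nK (ρ r v)]
    refine Fintype.prod_bijective f (Finite.injective_iff_bijective.mp hinj) _ _ fun k => ?_
    rw [← MulAut.mul_apply, ← map_mul]
    congr 2
    simp only [f]
    group
  rw [Finset.prod_comm, Finset.prod_eq_single (1 : R) (fun r _ hr => h2 r hr) (by simp)] at h1
  simpa [Nat.card_eq_fintype_card] using h1

/-- A group of type `(p, p)` generated by `x, y` acting on an abelian group. -/
theorem pow_eq_one_of_pp [Finite L] {p : ℕ} (hp : p.Prime) {x y : L} (hxy : Commute x y)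
    (hx : x ^ p = 1) (hy : y ^ p = 1)
    (h1 : ∀ t ∈ zpowers y, ∀ v, ρ (x * t) v = v → v = 1) (h2 : ∀ v, ρ y v = v → v = 1) (v : V) :
    v ^ p = 1 := by
  classical
  let _ : Fintype (zpowers y) := Fintype.ofFinite _
  by_cases hy1 : y = 1
  · rw [h2 v (by simp [hy1]), one_pow]
  have hcard : Nat.card (zpowers y) = p := by
    rw [Nat.card_zpowers, orderOf_eq_prime_of_pow_eq_one hp hy hy1]
  have nY : ∀ w, ∏ t : zpowers y, ρ t w = 1 :=
    fun w => h2 _ (norm_fixed ρ _ w (mem_zpowers y))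
  have hcomm : ∀ t : zpowers y, Commute x t := by
    rintro ⟨_, k, rfl⟩
    exact hxy.zpow_right k
  have htp : ∀ t : zpowers y, (t : L) ^ p = 1 := by
    intro t
    rw [← hcard, ← coe_pow, pow_card_eq_one', coe_one]
  have e1 : ∏ t : zpowers y, ∏ j ∈ Finset.range p, ρ ((x * t) ^ j) v = 1 := by
    refine Finset.prod_eq_one fun t _ => h1 t t.2 _ ?_
    have hz : (x * t) ^ p = 1 := by rw [(hcomm t).mul_pow, hx, htp, one_mul]
    have a := Finset.prod_range_succ (fun j => ρ ((x * t) ^ j) v) p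
    have b := Finset.prod_range_succ' (fun j => ρ ((x * t) ^ j) v) p
    rw [a, hz, pow_zero, mul_left_inj] at b
    rw [map_prod, b]
    refine Finset.prod_congr rfl fun j _ => ?_
    rw [pow_succ', map_mul ρ (x * t), MulAut.mul_apply]
  have e2 : ∀ j ∈ Finset.range p, j ≠ 0 → ∏ t : zpowers y, ρ ((x * t) ^ j) v = 1 := by
    intro j hj hj0
    have hc : (Nat.card (zpowers y)).Coprime j := by
      rw [hcard, hp.coprime_iff_not_dvd]
      exact Nat.not_dvd_of_pos_of_lt (Nat.pos_of_ne_zero hj0) (Finset.mem_range.mp hj)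
    rw [← nY (ρ (x ^ j) v)]
    refine Fintype.prod_equiv (powCoprime hc) _ _ fun t => ?_
    rw [powCoprime_apply, ← MulAut.mul_apply, ← map_mul, (hcomm t).eq, (hcomm t).symm.mul_pow,
      coe_pow]
  rw [Finset.prod_comm, Finset.prod_eq_single 0 e2 (by simp [hp.pos])] at e1
  simpa [← Nat.card_eq_fintype_card, hcard] using e1

end Abstract

section Internal

open scoped IsMulCommutative

theorem eq_one_of_pow_eq_one_of_coprime {V : Subgroup G} {n : ℕ} (hc : (Nat.card V).Coprime n)
    {v : G} (hv : v ∈ V) (h : v ^ n = 1) : v = 1 := by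
  rw [← orderOf_eq_one_iff]
  exact Nat.eq_one_of_dvd_coprimes hc (orderOf_dvd_natCard V hv) (orderOf_dvd_of_pow_eq_one h)

theorem normalizerMonoidHom_fixed_iff {V : Subgroup G} (g : normalizer (V : Set G)) (v : V) :
    V.normalizerMonoidHom g v = v ↔ (v : G) ∈ centralizer {(g : G)} := by
  rw [Subtype.ext_iff, mem_centralizer_singleton_iff]
  change (g : G) * v * (g : G)⁻¹ = v ↔ _
  rw [mul_inv_eq_iff_eq_mul, eq_comm]

/-- Coprime action on an abelian group: `C_V(A) ∩ [V, A] = 1`. -/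
theorem centralizer_inf_commutator_eq_bot [Finite G] {A V : Subgroup G} (hV : IsMulCommutative V)
    (hA : A ≤ normalizer (V : Set G)) (hc : (Nat.card A).Coprime (Nat.card V)) :
    (V ⊓ centralizer (A : Set G)) ⊓ ⁅V, A⁆ = ⊥ := by
  classical
  let A' := A.subgroupOf (normalizer (V : Set G))
  let _ : Fintype A' := Fintype.ofFinite _
  let ρ := V.normalizerMonoidHom
  let θ : V →* V := ∏ a : A', (ρ a).toMonoidHom
  have hθ : ∀ v, θ v = ∏ a : A', ρ a v := fun v => by
    simp only [θ, MonoidHom.finsetProd_apply]; rfl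
  have h1 : ⁅V, A⁆ ≤ θ.ker.map V.subtype := by
    rw [commutator_le]
    intro v hv a ha
    refine ⟨⟨v, hv⟩ * (ρ ⟨a, hA ha⟩ ⟨v, hv⟩)⁻¹, ?_, ?_⟩
    · rw [SetLike.mem_coe, MonoidHom.mem_ker, map_mul, map_inv, hθ, hθ,
        norm_smul ρ A' _ (show (⟨a, hA ha⟩ : normalizer (V : Set G)) ∈ A' from ha), mul_inv_cancel]
    · change v * (a * v * a⁻¹)⁻¹ = _
      rw [commutatorElement_def]; group
  rw [eq_bot_iff]
  rintro v ⟨⟨hv, hvA⟩, hv'⟩
  obtain ⟨w, hw, rfl⟩ := h1 hv'
  rw [SetLike.mem_coe, MonoidHom.mem_ker, hθ] at hw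
  have h2 : ∀ a : A', ρ a w = w := fun a =>
    (normalizerMonoidHom_fixed_iff _ _).mpr 
      (centralizer_le_centralizer_singleton (H := A) a.2 hvA)
  simp only [h2, Finset.prod_const, Finset.card_univ, ← Nat.card_eq_fintype_card] at hw
  rw [card_subgroupOf_of_le hA] at hw
  exact eq_one_of_pow_eq_one_of_coprime hc.symm hv (congrArg Subtype.val hw)

theorem le_centralizer_of_prime_order [Finite G] {A V : Subgroup G} (hV : IsMulCommutative V)
    (hA : A ≤ normalizer (V : Set G)) (hc : (Nat.card A).Coprime (Nat.card V))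
    (h : ∀ v ∈ V, (orderOf v).Prime → v ∈ centralizer (A : Set G)) :
    A ≤ centralizer (V : Set G) := by
  rw [le_centralizer_iff, ← commutator_eq_bot_iff_le_centralizer]
  by_contra hne
  obtain ⟨p, hp, hd⟩ := exists_prime_dvd_card hne
  obtain ⟨x, hx, hxp⟩ := exists_prime_orderOf_mem hp hd
  have hxV := commutator_le_of_le_normalizer hA hx
  have : x ∈ (V ⊓ centralizer (A : Set G)) ⊓ ⁅V, A⁆ := ⟨⟨hxV, h x hxV (hxp ▸ hp)⟩, hx⟩
  rw [centralizer_inf_commutator_eq_bot hV hA hc, mem_bot] at this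
  rw [this, orderOf_one] at hxp
  exact hp.ne_one hxp.symm

/-- A Frobenius group `K R` acts on an abelian group `V` of order prime to `|K|`; if neither `K`
nor `R` has fixed points then `V = 1`. -/
theorem eq_bot_of_frobenius_action [Finite G] {K R V : Subgroup G} (hV : IsMulCommutative V)
    (hRK : R ≤ normalizer (K : Set G)) (hf : ∀ r ∈ R, r ≠ 1 → K ⊓ centralizer {r} = ⊥)
    (hKV : K ≤ normalizer (V : Set G)) (hRV : R ≤ normalizer (V : Set G))
    (hc : (Nat.card K).Coprime (Nat.card V)) (h1 : V ⊓ centralizer (K : Set G) = ⊥)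
    (h2 : V ⊓ centralizer (R : Set G) = ⊥) : V = ⊥ := by
  have key : ∀ X : Subgroup G, X ≤ normalizer (V : Set G) → V ⊓ centralizer (X : Set G) = ⊥ →
      ∀ v : V, (∀ k ∈ X.subgroupOf (normalizer (V : Set G)), V.normalizerMonoidHom k v = v) →
        v = 1 := by
    intro X hX h v hv
    have : (v : G) ∈ V ⊓ centralizer (X : Set G) := ⟨v.2, fun k hk =>
      (mem_centralizer_singleton_iff.mp
        ((normalizerMonoidHom_fixed_iff ⟨k, hX hk⟩ v).mp (hv _ hk))).symm⟩
    rw [h, mem_bot] at this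
    exact Subtype.ext this
  rw [eq_bot_iff]
  intro v hv
  have := pow_card_eq_one_of_frobenius V.normalizerMonoidHom
    (subgroupOf_le_normalizer_subgroupOf hRK _) (fun r hr hr1 => by
      rw [eq_bot_iff]
      rintro k ⟨hk, hk'⟩
      have : (k : G) ∈ K ⊓ centralizer {(r : G)} := ⟨hk, mem_centralizer_singleton_iff.mpr
        (congrArg Subtype.val (mem_centralizer_singleton_iff.mp hk'))⟩
      rw [hf r hr (fun e => hr1 (Subtype.ext e)), mem_bot] at this
      exact Subtype.ext this) (key K hKV h1) (key R hRV h2) ⟨v, hv⟩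
  rw [card_subgroupOf_of_le hKV] at this
  exact eq_one_of_pow_eq_one_of_coprime hc.symm hv (congrArg Subtype.val this)

/-- If a Frobenius group `K R` acts on an abelian group `V` of order prime to `|K|` and
`C_V(R) = 1`, then `K` centralizes `V` (even: if `C_{[V,K]}(R) = 1`). -/
theorem le_centralizer_of_frobenius_action [Finite G] {K R V : Subgroup G}
    (hV : IsMulCommutative V) (hRK : R ≤ normalizer (K : Set G))
    (hf : ∀ r ∈ R, r ≠ 1 → K ⊓ centralizer {r} = ⊥) (hKV : K ≤ normalizer (V : Set G))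
    (hRV : R ≤ normalizer (V : Set G)) (hc : (Nat.card K).Coprime (Nat.card V))
    (h2 : ⁅V, K⁆ ⊓ centralizer (R : Set G) = ⊥) : K ≤ centralizer (V : Set G) := by
  have hle := commutator_le_of_le_normalizer hKV
  rw [le_centralizer_iff, ← commutator_eq_bot_iff_le_centralizer]
  refine eq_bot_of_frobenius_action (isMulCommutative_of_le hV hle) hRK hf
    (normalizer_commutator_ge_right V K) (le_normalizer_commutator hRV hRK)
    (coprime_card_of_le hc le_rfl hle) ?_ h2
  rw [eq_bot_iff, ← centralizer_inf_commutator_eq_bot hV hKV hc]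
  exact le_inf (inf_le_inf_right _ hle) inf_le_left

theorem eq_bot_of_pp_action [Finite G] {V : Subgroup G} (hV : IsMulCommutative V) {p : ℕ}
    (hp : p.Prime) {x y : G} (hxy : Commute x y) (hx : x ^ p = 1) (hy : y ^ p = 1)
    (hxV : x ∈ normalizer (V : Set G)) (hyV : y ∈ normalizer (V : Set G))
    (hc : (Nat.card V).Coprime p) (h1 : ∀ t ∈ zpowers y, V ⊓ centralizer {x * t} = ⊥)
    (h2 : V ⊓ centralizer {y} = ⊥) : V = ⊥ := by
  have key : ∀ g : normalizer (V : Set G), V ⊓ centralizer {(g : G)} = ⊥ →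
      ∀ v : V, V.normalizerMonoidHom g v = v → v = 1 := by
    intro g h v hv
    have : (v : G) ∈ V ⊓ centralizer {(g : G)} :=
      ⟨v.2, (normalizerMonoidHom_fixed_iff g v).mp hv⟩
    rw [h, mem_bot] at this
    exact Subtype.ext this
  rw [eq_bot_iff]
  intro v hv
  have := pow_eq_one_of_pp V.normalizerMonoidHom hp (x := ⟨x, hxV⟩) (y := ⟨y, hyV⟩)
    (Subtype.ext hxy) (Subtype.ext hx) (Subtype.ext hy) (fun t ht => key _ (h1 t (by
      obtain ⟨k, rfl⟩ := ht
      exact ⟨k, rfl⟩))) (key _ h2) ⟨v, hv⟩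
  exact eq_one_of_pow_eq_one_of_coprime hc hv (congrArg Subtype.val this)

end Internal

/-! ### Noncyclic abelian groups -/

theorem isCyclic_of_card_powKer_le [Finite G] (hG : IsMulCommutative G)
    (h : ∀ p : ℕ, p.Prime → Nat.card {x : G | x ^ p = 1} ≤ p) : IsCyclic G := by
  classical
  let _ : CommGroup G := { ‹Group G› with mul_comm := hG.is_comm.comm }
  let _ : Fintype G := Fintype.ofFinite _
  have key : ∀ n : ℕ, 0 < n → Nat.card (powMonoidHom n : G →* G).ker ≤ n := by
    intro n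
    induction n using Nat.recOnMul with
    | zero => intro h; exact absurd h (lt_irrefl 0)
    | one =>
      intro _
      rw [card_le_one_iff_eq_bot, MonoidHom.ker_eq_bot_iff]
      intro a b hab
      simpa using hab
    | prime p hp => intro _; exact h p hp
    | mul a b iha ihb =>
      intro hab
      have ha := iha (Nat.pos_of_mul_pos_right hab)
      have hb := ihb (Nat.pos_of_mul_pos_left hab)
      rw [← card_map_mul_card_inf_ker _ (powMonoidHom a : G →* G), mul_comm a b]
      refine Nat.mul_le_mul ((card_le_of_le ?_).trans hb) ((card_le_of_le inf_le_right).trans ha)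
      rintro _ ⟨x, hx, rfl⟩
      simpa [← pow_mul, mul_comm] using hx
  apply isCyclic_of_card_pow_eq_one_le
  intro n hn
  refine le_trans (le_of_eq ?_) (key n hn)
  rw [Nat.card_eq_fintype_card, Fintype.card_subtype]
  congr 1
  ext x
  simp

/-- A noncyclic finite abelian group contains a subgroup of type `(p, p)`. -/
theorem exists_pp_of_not_isCyclic [Finite G] {A : Subgroup G} (hA : IsMulCommutative A)
    (h : ¬ IsCyclic A) : ∃ (p : ℕ) (x y : G), p.Prime ∧ x ∈ A ∧ y ∈ A ∧ x ^ p = 1 ∧ y ^ p = 1 ∧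
      y ≠ 1 ∧ x ∉ zpowers y := by
  by_contra hn
  apply h
  apply isCyclic_of_card_powKer_le hA
  intro p hp
  by_cases h1 : ∃ y : A, y ^ p = 1 ∧ y ≠ 1
  · obtain ⟨y, hy, hy1⟩ := h1
    have : {x : A | x ^ p = 1} ⊆ (zpowers y : Subgroup A) := by
      intro x hx
      by_contra hx'
      refine hn ⟨p, x, y, hp, x.2, y.2, congrArg Subtype.val hx, congrArg Subtype.val hy,
        fun e => hy1 (Subtype.ext e), ?_⟩
      rintro ⟨k, hk⟩
      exact hx' ⟨k, Subtype.ext hk⟩
    refine (Nat.card_mono (Set.toFinite _) this).trans (le_of_eq ?_)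
    exact (Nat.card_zpowers y).trans (orderOf_eq_prime_of_pow_eq_one hp hy hy1)
  · push Not at h1
    have : {x : A | x ^ p = 1} ⊆ {1} := fun x hx => h1 x hx
    refine (Nat.card_mono (Set.toFinite _) this).trans ?_
    simpa using hp.one_le

theorem mul_ne_one_of_not_mem_zpowers {x y t : G} (hx : x ∉ zpowers y) (ht : t ∈ zpowers y) :
    x * t ≠ 1 := fun e => hx (by rw [eq_inv_of_mul_eq_one_left e]; exact inv_mem ht)

theorem map_mk'_inf_centralizer_singleton [Finite G] {K N : Subgroup G} [N.Normal] (hNK : N ≤ K)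
    {z : G} (hc : (orderOf z).Coprime (Nat.card N)) :
    K.map (QuotientGroup.mk' N) ⊓ centralizer {(QuotientGroup.mk' N z)} =
      (K ⊓ centralizer {z}).map (QuotientGroup.mk' N) := by
  rw [← centralizer_zpowers, ← centralizer_zpowers, ← MonoidHom.map_zpowers]
  exact map_mk'_inf_centralizer hNK (by rwa [Nat.card_zpowers]) (Or.inl (isSolvable_zpowers z))

theorem coprime_orderOf_of_pow_prime {p n : ℕ} {z : G} (hz : z ^ p = 1) (hc : n.Coprime p) :
    (orderOf z).Coprime n :=
  Nat.Coprime.of_dvd_left (orderOf_dvd_of_pow_eq_one hz) hc.symm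

private theorem le_of_pp_normal [Finite G] {K N : Subgroup G} [N.Normal] (hNK : N ≤ K)
    (hK : ⁅K, K⁆ ≤ N) {p : ℕ} (hp : p.Prime) {x y : G} (hxy : Commute x y) (hx : x ^ p = 1)
    (hy : y ^ p = 1) (hxK : x ∈ normalizer (K : Set G)) (hyK : y ∈ normalizer (K : Set G))
    (hc : (Nat.card K).Coprime p) (h1 : ∀ t ∈ zpowers y, K ⊓ centralizer {x * t} ≤ N)
    (h2 : K ⊓ centralizer {y} ≤ N) : K ≤ N := by
  have hcN : (Nat.card N).Coprime p := hc.of_dvd_left (card_dvd_of_le hNK)
  rw [← map_mk'_eq_bot_iff]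
  refine eq_bot_of_pp_action (isMulCommutative_map_mk'_iff.mpr hK) hp (hxy.map _)
    (by rw [← map_pow, hx, map_one]) (by rw [← map_pow, hy, map_one])
    (le_normalizer_map _ ⟨x, hxK, rfl⟩) (le_normalizer_map _ ⟨y, hyK, rfl⟩)
    (hc.of_dvd_left (card_map_dvd _ _)) ?_ ?_
  · intro t ht
    rw [← MonoidHom.map_zpowers] at ht
    obtain ⟨t, ht, rfl⟩ := ht
    have : (x * t) ^ p = 1 := by
      obtain ⟨k, rfl⟩ := ht
      rw [(hxy.zpow_right k).mul_pow, hx, one_mul, ← zpow_natCast, ← zpow_mul, mul_comm, zpow_mul,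
        zpow_natCast, hy, one_zpow]
    rw [← map_mul, map_mk'_inf_centralizer_singleton hNK (coprime_orderOf_of_pow_prime this hcN),
      map_mk'_eq_bot_iff]
    exact h1 t ht
  · rw [map_mk'_inf_centralizer_singleton hNK (coprime_orderOf_of_pow_prime hy hcN),
      map_mk'_eq_bot_iff]
    exact h2

theorem subgroupOf_inf_centralizer_singleton (K L : Subgroup G) (z : L) :
    K.subgroupOf L ⊓ centralizer {z} = (K ⊓ centralizer {(z : G)}).subgroupOf L := by
  ext k
  simp only [mem_inf, mem_subgroupOf, mem_centralizer_singleton_iff, Subtype.ext_iff, coe_mul]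

private theorem le_of_pp_nilpotent [Finite G] {K H : Subgroup G} (hK : Group.IsNilpotent K)
    (hHK : H ≤ K) {p : ℕ} (hp : p.Prime) {x y : G} (hxy : Commute x y) (hx : x ^ p = 1)
    (hy : y ^ p = 1) (hxK : x ∈ normalizer (K : Set G)) (hyK : y ∈ normalizer (K : Set G))
    (hxH : x ∈ normalizer (H : Set G)) (hyH : y ∈ normalizer (H : Set G))
    (hc : (Nat.card K).Coprime p) (h1 : ∀ t ∈ zpowers y, K ⊓ centralizer {x * t} ≤ H)
    (h2 : K ⊓ centralizer {y} ≤ H) : H = K := by
  apply eq_of_sup_commutator_eq hK hHK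
  set N := H ⊔ ⁅K, K⁆ with hN
  have hNK : N ≤ K := sup_le hHK (commutator_le_self K)
  set L := normalizer (N : Set G) with hL
  have hKL : K ≤ L := by
    rw [hL, le_normalizer_iff_commutator_le_right]
    exact (commutator_mono le_rfl hNK).trans le_sup_right
  have hz : ∀ z, z ∈ normalizer (K : Set G) → z ∈ normalizer (H : Set G) → z ∈ L := by
    intro z h1 h2
    exact zpowers_le.mp (le_normalizer_sup (zpowers_le.mpr h2)
      (le_normalizer_commutator (zpowers_le.mpr h1) (zpowers_le.mpr h1)))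
  apply le_of_subgroupOf_le hKL
  refine le_of_pp_normal (subgroupOf_mono L hNK) ?_ hp (x := ⟨x, hz x hxK hxH⟩)
    (y := ⟨y, hz y hyK hyH⟩) (Subtype.ext hxy) (Subtype.ext hx) (Subtype.ext hy)
    (le_normalizer_comap L.subtype hxK) (le_normalizer_comap L.subtype hyK)
    (by rwa [card_subgroupOf_of_le hKL]) ?_ ?_
  · rw [commutator_subgroupOf hKL hKL]
    exact subgroupOf_mono L le_sup_right
  · intro t ht
    rw [subgroupOf_inf_centralizer_singleton]
    refine subgroupOf_mono L ((h1 t ?_).trans le_sup_left)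
    obtain ⟨k, rfl⟩ := ht
    exact ⟨k, rfl⟩
  · rw [subgroupOf_inf_centralizer_singleton]
    exact subgroupOf_mono L (h2.trans le_sup_left)

theorem le_normalizer_inf_centralizer_singleton {A K : Subgroup G} (hA : IsMulCommutative A)
    (hAK : A ≤ normalizer (K : Set G)) {a : G} (ha : a ∈ A) :
    A ≤ normalizer ((K ⊓ centralizer {a} : Subgroup G) : Set G) :=
  le_normalizer_inf hAK (((le_centralizer_iff_isMulCommutative.mpr hA).trans
    (centralizer_le_centralizer_singleton ha)).trans le_normalizer)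

/-- Generation by centralizers: a subgroup containing `C_K(a)` for all `a ∈ A^#` contains `K`,
when the noncyclic abelian group `A` acts coprimely on `K`. -/
theorem le_of_forall_inf_centralizer_le [Finite G] {A K H : Subgroup G} (hA : IsMulCommutative A)
    (hnc : ¬ IsCyclic A) (hAK : A ≤ normalizer (K : Set G))
    (hc : (Nat.card A).Coprime (Nat.card K))
    (h : ∀ a ∈ A, a ≠ 1 → K ⊓ centralizer {a} ≤ H) : K ≤ H := by
  obtain ⟨p, x, y, hp, hxA, hyA, hx, hy, hy1, hxy⟩ := exists_pp_of_not_isCyclic hA hnc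
  have hpA : p ∣ Nat.card A := orderOf_eq_prime_of_pow_eq_one hp hy hy1 ▸ orderOf_dvd_natCard A hyA
  apply le_of_forall_isSylowIn_le
  intro q _
  obtain ⟨Q, hQ, hAQ⟩ := exists_invariant_isSylowIn hAK hc (Or.inl (isSolvable_of_comm' hA)) q
  refine ⟨Q, hQ, ?_⟩
  set J : Subgroup G := ⨆ a : {a : G // a ∈ A ∧ a ≠ 1}, Q ⊓ centralizer {(a : G)} with hJ
  have hAJ : A ≤ normalizer (J : Set G) :=
    (le_iInf fun a => le_normalizer_inf_centralizer_singleton hA hAQ a.2.1).trans
      (iInf_normalizer_le_normalizer_iSup _)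
  have hJ' : ∀ a ∈ A, a ≠ 1 → Q ⊓ centralizer {a} ≤ J := fun a ha ha1 =>
    le_iSup (fun a : {a : G // a ∈ A ∧ a ≠ 1} => Q ⊓ centralizer {(a : G)}) ⟨a, ha, ha1⟩
  have : J = Q := le_of_pp_nilpotent hQ.2.1.isNilpotent (iSup_le fun _ => inf_le_left) hp
    (isMulCommutative_iff_mem.mp hA x hxA y hyA) hx hy (hAQ hxA) (hAQ hyA) (hAJ hxA) (hAJ hyA)
    ((hc.symm.of_dvd_left (card_dvd_of_le hQ.1)).of_dvd_right hpA)
    (fun t ht => hJ' _ (mul_mem hxA (zpowers_le.mpr hyA ht)) (mul_ne_one_of_not_mem_zpowers hxy ht))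
    (hJ' y hyA hy1)
  rw [← this]
  exact iSup_le fun a => (inf_le_inf_right _ hQ.1).trans (h a a.2.1 a.2.2)

theorem iSup_inf_centralizer_eq [Finite G] {A K : Subgroup G} (hA : IsMulCommutative A)
    (hnc : ¬ IsCyclic A) (hAK : A ≤ normalizer (K : Set G))
    (hc : (Nat.card A).Coprime (Nat.card K)) :
    (⨆ a ∈ {a : G | a ∈ A ∧ a ≠ 1}, K ⊓ centralizer {a}) = K :=
  le_antisymm (iSup₂_le fun _ _ => inf_le_left) (le_of_forall_inf_centralizer_le hA hnc hAK hc
    fun a ha ha1 => le_biSup (fun a => K ⊓ centralizer {a}) (show a ∈ {a : G | a ∈ A ∧ a ≠ 1} from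
      ⟨ha, ha1⟩))

theorem exists_inf_centralizer_ne_bot [Finite G] {A K : Subgroup G} (hA : IsMulCommutative A)
    (hnc : ¬ IsCyclic A) (hAK : A ≤ normalizer (K : Set G))
    (hc : (Nat.card A).Coprime (Nat.card K)) (hK : K ≠ ⊥) :
    ∃ a ∈ A, a ≠ 1 ∧ K ⊓ centralizer {a} ≠ ⊥ := by
  by_contra h
  push Not at h
  exact hK (eq_bot_iff.mpr (le_of_forall_inf_centralizer_le hA hnc hAK hc
    fun a ha ha1 => (h a ha ha1).le))

/-! ### Fixed-point-free action -/

/-- A `p`-group acting on a group of order divisible by `p` fixes a nonidentity element. -/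
theorem inf_centralizer_ne_bot_of_dvd [Finite G] {p : ℕ} [Fact p.Prime] {P K : Subgroup G}
    (hP : IsPGroup p P) (hPK : P ≤ normalizer (K : Set G)) (hd : p ∣ Nat.card K) :
    K ⊓ centralizer (P : Set G) ≠ ⊥ := by
  let _ : MulAction P K :=
    MulAction.compHom K (K.normalizerMonoidHom.comp (inclusion hPK))
  obtain ⟨b, hb, hb1⟩ := hP.exists_fixed_point_of_prime_dvd_card_of_fixed_point K hd (a := 1)
    (fun g => map_one (K.normalizerMonoidHom (inclusion hPK g)))
  intro h
  have : (b : G) ∈ K ⊓ centralizer (P : Set G) := ⟨b.2, fun g hg =>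
    (mem_centralizer_singleton_iff.mp
      ((normalizerMonoidHom_fixed_iff ⟨g, hPK hg⟩ b).mp (hb ⟨g, hg⟩))).symm⟩
  rw [h, mem_bot] at this
  exact hb1 (Subtype.ext this.symm)

/-- `|K| ≡ |C_K(P)|` modulo `p` for a `p`-group `P` normalizing `K`. -/
theorem card_modEq_card_inf_centralizer [Finite G] {p : ℕ} [Fact p.Prime] {P K : Subgroup G}
    (hP : IsPGroup p P) (hPK : P ≤ normalizer (K : Set G)) :
    Nat.card K ≡ Nat.card ↥(K ⊓ centralizer (P : Set G)) [MOD p] := by
  let _ : MulAction P K :=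
    MulAction.compHom K (K.normalizerMonoidHom.comp (inclusion hPK))
  have h := hP.card_modEq_card_fixedPoints K
  have : Nat.card (MulAction.fixedPoints P K) = Nat.card ↥(K ⊓ centralizer (P : Set G)) := by
    rw [inf_comm, ← card_subgroupOf]
    refine Nat.card_congr (Equiv.subtypeEquivRight fun b => ⟨fun hb g hg => ?_, fun hb g => ?_⟩)
    · exact (mem_centralizer_singleton_iff.mp
        ((normalizerMonoidHom_fixed_iff ⟨g, hPK hg⟩ b).mp (hb ⟨g, hg⟩))).symm
    · exact (normalizerMonoidHom_fixed_iff (V := K) ⟨g, hPK g.2⟩ b).mpr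
        (centralizer_le_centralizer_singleton (H := P) g.2 hb)
  rwa [this] at h

/-- A fixed-point-free action is coprime. -/
theorem coprime_of_fpf [Finite G] {A K : Subgroup G} (hAK : A ≤ normalizer (K : Set G))
    (hf : ∀ a ∈ A, a ≠ 1 → K ⊓ centralizer {a} = ⊥) : (Nat.card A).Coprime (Nat.card K) := by
  apply Nat.coprime_of_dvd
  intro p hp hA hK
  have := Fact.mk hp
  obtain ⟨a, ha, hap⟩ := exists_prime_orderOf_mem hp hA
  apply inf_centralizer_ne_bot_of_dvd (P := zpowers a)
    (IsPGroup.of_card (n := 1) (by rw [Nat.card_zpowers, hap, pow_one]))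
    (zpowers_le.mpr (hAK ha)) hK
  rw [centralizer_zpowers]
  refine hf a ha fun e => ?_
  rw [e, orderOf_one] at hap
  exact hp.ne_one hap.symm

/-- An abelian group acting fixed-point-freely on a nontrivial group is cyclic. -/
theorem isCyclic_of_fpf_of_comm [Finite G] {A K : Subgroup G} (hA : IsMulCommutative A)
    (hAK : A ≤ normalizer (K : Set G)) (hK : K ≠ ⊥)
    (hf : ∀ a ∈ A, a ≠ 1 → K ⊓ centralizer {a} = ⊥) : IsCyclic A := by
  by_contra hnc
  obtain ⟨a, ha, ha1, h⟩ := exists_inf_centralizer_ne_bot hA hnc hAK (coprime_of_fpf hAK hf) hK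
  exact h (hf a ha ha1)

theorem eq_or_eq_of_relIndex_prime {p : ℕ} (hp : p.Prime) {D X Y : Subgroup G}
    (h : D.relIndex Y = p) (h1 : D ≤ X) (h2 : X ≤ Y) : X = D ∨ X = Y := by
  rw [← relIndex_mul_relIndex D X Y h1 h2] at h
  rcases (Nat.dvd_prime hp).mp (Dvd.intro _ h) with e | e
  · exact Or.inl (le_antisymm (relIndex_eq_one.mp e) h1)
  · rw [e] at h
    exact Or.inr (le_antisymm h2 (relIndex_eq_one.mp
      (Nat.eq_of_mul_eq_mul_left hp.pos (h.trans (mul_one p).symm))))

theorem isCoatom_of_index_prime {M : Subgroup G} (h : M.index.Prime) : IsCoatom M := by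
  refine ⟨fun e => h.ne_one (index_eq_one.mpr e), fun K hK => ?_⟩
  exact (eq_or_eq_of_relIndex_prime h (relIndex_top_right M) hK.le le_top).resolve_left hK.ne'

/-- If the fixed points of a coprime action have prime index `p`, then `[K, A]` has order `p`. -/
theorem card_commutator_eq_of_relIndex_prime [Finite G] {A K : Subgroup G}
    (hAK : A ≤ normalizer (K : Set G)) (hc : (Nat.card A).Coprime (Nat.card K))
    (hs : Group.IsSolvable A ∨ Group.IsSolvable K) {p : ℕ} (hp : p.Prime)
    (hi : (K ⊓ centralizer (A : Set G)).relIndex K = p) : Nat.card ↥⁅K, A⁆ = p := by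
  have := Fact.mk hp
  set C := centralizer (A : Set G) with hC
  obtain ⟨P, hP, hAP⟩ := exists_invariant_isSylowIn hAK hc hs p
  have hPC : ¬ P ≤ C := fun h => hP.2.2 (hi ▸ relIndex_dvd_of_le_left K (le_inf hP.1 h))
  -- general fact: a subgroup of `K` not in `C` on which ... has index `p`
  have hidx : ∀ X : Subgroup G, X ≤ P → ¬ X ≤ C → C.relIndex X = p := by
    intro X hX hXC
    have h1 : C.relIndex X ≤ p := by
      rw [← hi, inf_relIndex_left]
      exact relIndex_le_of_le_right (hX.trans hP.1) (relIndex_pos _ _).ne'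
    obtain ⟨k, hk⟩ := (hP.2.1.to_le hX).index (C.subgroupOf X)
    change C.relIndex X = _ at hk
    rw [hk] at h1 ⊢
    have hk0 : k ≠ 0 := by
      rintro rfl
      exact hXC (relIndex_eq_one.mp hk)
    have : k ≤ 1 := by
      rwa [← Nat.pow_le_pow_iff_right hp.one_lt, pow_one]
    rw [show k = 1 by omega, pow_one]
  -- `K = P C_K(A)`
  have h1 : ((P : Set G) * ((K ⊓ C : Subgroup G) : Set G)) = K := by
    refine Set.eq_of_subset_of_ncard_le (mul_subset hP.1 (inf_le_left : K ⊓ C ≤ K)) ?_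
    have e1 := ncard_mul_mul_card_inf P (K ⊓ C)
    rw [← inf_assoc, inf_eq_left.mpr hP.1, ← card_inf_mul_relIndex C P, hidx P le_rfl hPC,
      inf_comm C P, mul_comm, mul_assoc] at e1
    rw [Nat.eq_of_mul_eq_mul_left Nat.card_pos e1, ← Nat.card_coe_set_eq, ← hi, mul_comm]
    exact (card_mul_relIndex inf_le_left).ge
  have h2 : ⁅K, A⁆ = ⁅P, A⁆ := by
    refine le_antisymm (commutator_le_of_mul_centralizer fun k hk => ?_)
      (commutator_mono hP.1 le_rfl)
    obtain ⟨x, hx, c, hc, e⟩ : k ∈ (P : Set G) * ((K ⊓ C : Subgroup G) : Set G) := h1 ▸ hk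
    exact ⟨x, hx, c, hc.2, e.symm⟩
  rw [h2]
  set Q := ⁅P, A⁆ with hQ
  have hQP : Q ≤ P := commutator_le_of_le_normalizer hAP
  have hcP := coprime_card_of_le hc le_rfl hP.1
  have hsP := solvable_or_of_le hs le_rfl hP.1
  have hQA : ⁅Q, A⁆ = Q := commutator_commutator_eq hAP hcP hsP
  have hQC : ¬ Q ≤ C := fun h => hPC (le_centralizer_of_commutator_le_centralizer hAP hcP hsP h)
  -- `P ∩ C` is normal in `P`
  have h3 : P ≤ normalizer ((P ⊓ C : Subgroup G) : Set G) := by
    have hlt : P ⊓ C < P := lt_of_le_of_ne inf_le_left fun e => hPC (inf_eq_left.mp e)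
    have h4 := lt_inf_normalizer_of_isNilpotent hP.2.1.isNilpotent hlt
    have h5 := (eq_or_eq_of_relIndex_prime hp
      (by rw [inf_relIndex_left, hidx P le_rfl hPC]) h4.le inf_le_left).resolve_left h4.ne'
    exact inf_eq_left.mp h5
  have h4 : Q ≤ centralizer ((P ⊓ C : Subgroup G) : Set G) := by
    rw [← commutator_eq_bot_iff_le_centralizer]
    apply commutator_commutator_eq_bot_of_rotate
    · rw [commutator_eq_bot_iff_le_centralizer.mpr (le_centralizer_iff.mp inf_le_right),
        commutator_bot_left]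
    · rw [commutator_eq_bot_iff_le_centralizer]
      exact (commutator_le_of_le_normalizer h3).trans inf_le_right
  obtain ⟨x, hx, hxC⟩ := SetLike.not_le_iff_exists.mp hQC
  have h5 : (Q ⊓ C) ⊔ zpowers x = Q := by
    refine (eq_or_eq_of_relIndex_prime hp (by rw [inf_relIndex_left, hidx Q hQP hQC])
      le_sup_left (sup_le inf_le_left (zpowers_le.mpr hx))).resolve_left fun e => hxC ?_
    exact (e.le (mem_sup_right (mem_zpowers x))).2
  have h6 : Q ⊓ C ≤ centralizer (Q : Set G) :=
    (inf_le_inf_right _ hQP).trans (le_centralizer_iff.mp h4)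
  have h7 : IsMulCommutative Q := by
    rw [← h5]
    exact isMulCommutative_sup
      (le_centralizer_iff_isMulCommutative.mp (h6.trans (centralizer_anti inf_le_left)))
      inferInstance (h6.trans (centralizer_anti (zpowers_le.mpr hx)))
  have h8 := centralizer_inf_commutator_eq_bot h7 (normalizer_commutator_ge_right P A)
    (coprime_card_of_le hcP le_rfl hQP)
  rw [hQA, inf_eq_left.mpr inf_le_left] at h8
  rw [← card_inf_mul_relIndex C Q, inf_comm, h8, card_bot, one_mul, hidx Q hQP hQC]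

end Cfsg.Agent.Core
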