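import Cfsg.Agent.Core.Coprime

/-!
# Core library: the Frattini subgroup, elementary abelian groups, sections
-/

set_option autoImplicit false

namespace Cfsg.Agent.Core

open Subgroup
open scoped Pointwise commutatorElement

universe u v

variable {G : Type u} [Group G] {G' : Type v} [Group G']

/-! ### Sections -/

/-- `A / (B ∩ A)` is isomorphic to the image of `A` in `G / B`. -/
noncomputable def quotientSubgroupOfEquivMap (A B : Subgroup G) [B.Normal] :
    (A ⧸ B.subgroupOf A) ≃* A.map (QuotientGroup.mk' B) :=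
  (QuotientGroup.quotientMulEquivOfEq (by
      ext x
      rw [MonoidHom.mem_ker, Subtype.ext_iff, mem_subgroupOf]
      exact (QuotientGroup.eq_one_iff _).symm)).trans
    (QuotientGroup.quotientKerEquivOfSurjective _ ((QuotientGroup.mk' B).subgroupMap_surjective A))

theorem commutator_subgroupOf {H K L : Subgroup G} (hH : H ≤ L) (hK : K ≤ L) :
    ⁅H.subgroupOf L, K.subgroupOf L⁆ = ⁅H, K⁆.subgroupOf L := by
  rw [← map_subtype_inj, map_commutator, map_subgroupOf_eq_of_le hH, map_subgroupOf_eq_of_le hK,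
    map_subgroupOf_eq_of_le ((commutator_le_sup H K).trans (sup_le hH hK))]

theorem map_subtype_subgroupOf {L : Subgroup G} (K : Subgroup L) :
    (K.map L.subtype).subgroupOf L = K :=
  comap_map_eq_self_of_injective L.subtype_injective K

theorem le_of_subgroupOf_le {H K L : Subgroup G} (hH : H ≤ L)
    (h : H.subgroupOf L ≤ K.subgroupOf L) : H ≤ K := fun x hx => h (x := ⟨x, hH hx⟩) hx

theorem subgroupOf_eq_bot_iff_of_le {H L : Subgroup G} (hH : H ≤ L) :
    H.subgroupOf L = ⊥ ↔ H = ⊥ := by
  rw [← map_subtype_inj, map_subgroupOf_eq_of_le hH, Subgroup.map_bot]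

theorem isMulCommutative_subgroupOf {H : Subgroup G} (hH : IsMulCommutative H) (L : Subgroup G) :
    IsMulCommutative (H.subgroupOf L) :=
  isMulCommutative_iff_mem.mpr fun x hx y hy =>
    Subtype.ext (isMulCommutative_iff_mem.mp hH x hx y hy)

theorem isMulCommutative_map_mk'_iff {K N : Subgroup G} [N.Normal] :
    IsMulCommutative (K.map (QuotientGroup.mk' N)) ↔ ⁅K, K⁆ ≤ N := by
  rw [← commutator_self_eq_bot_iff, ← map_commutator, map_mk'_eq_bot_iff]

theorem centralizer_zpowers (x : G) :
    centralizer ((zpowers x : Subgroup G) : Set G) = centralizer {x} := by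
  rw [zpowers_eq_closure, centralizer_closure]

theorem zpowers_le_normalizer {x : G} {H : Subgroup G} (h : x ∈ normalizer (H : Set G)) :
    zpowers x ≤ normalizer (H : Set G) := zpowers_le.mpr h

theorem mem_centralizer_singleton_comm {x y : G} :
    x ∈ centralizer ({y} : Set G) ↔ y ∈ centralizer ({x} : Set G) := by
  rw [mem_centralizer_singleton_iff, mem_centralizer_singleton_iff, eq_comm]

theorem le_centralizer_singleton_iff {H : Subgroup G} {x : G} :
    H ≤ centralizer ({x} : Set G) ↔ x ∈ centralizer (H : Set G) := by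
  rw [← centralizer_zpowers, le_centralizer_iff, zpowers_le]

theorem centralizer_le_centralizer_singleton {H : Subgroup G} {x : G} (h : x ∈ H) :
    centralizer (H : Set G) ≤ centralizer ({x} : Set G) :=
  centralizer_le (Set.singleton_subset_iff.mpr h)

theorem isMulCommutative_zpowers (x : G) : IsMulCommutative (zpowers x) := inferInstance

theorem isSolvable_zpowers (x : G) : Group.IsSolvable (zpowers x) :=
  isSolvable_of_comm' inferInstance

theorem isMulCommutative_sup {H K : Subgroup G} (hH : IsMulCommutative H)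
    (hK : IsMulCommutative K) (h : H ≤ centralizer (K : Set G)) : IsMulCommutative ↥(H ⊔ K) := by
  rw [← le_centralizer_iff_isMulCommutative] at hH hK ⊢
  refine sup_le ?_ ?_ <;> rw [le_centralizer_iff]
  · exact sup_le hH (le_centralizer_iff.mp h)
  · exact sup_le h hK

/-! ### Elements of prime order -/

theorem orderOf_eq_prime_of_pow_eq_one {p : ℕ} (hp : p.Prime) {x : G} (h : x ^ p = 1)
    (h1 : x ≠ 1) : orderOf x = p := by
  have := Fact.mk hp
  exact orderOf_eq_prime h h1

theorem eq_bot_or_eq_of_card_prime {p : ℕ} (hp : p.Prime) {H K : Subgroup G}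
    (hK : Nat.card K = p) (h : H ≤ K) : H = ⊥ ∨ H = K := by
  have : Finite K := Nat.finite_of_card_ne_zero (hK ▸ hp.ne_zero)
  rcases (Nat.dvd_prime hp).mp (hK ▸ card_dvd_of_le h) with h1 | h1
  · exact Or.inl ((eq_bot_iff_card H).mpr h1)
  · exact Or.inr (eq_of_le_of_card_ge h (by rw [h1, hK]))

theorem zpowers_inf_eq_bot_of_pow_prime {p : ℕ} (hp : p.Prime) {x : G} (h : x ^ p = 1)
    {H : Subgroup G} (hx : x ∉ H) : zpowers x ⊓ H = ⊥ := by
  have h1 : x ≠ 1 := fun e => hx (e ▸ one_mem H)
  have h2 : Nat.card (zpowers x) = p := by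
    rw [Nat.card_zpowers, orderOf_eq_prime_of_pow_eq_one hp h h1]
  refine (eq_bot_or_eq_of_card_prime hp h2 inf_le_left).resolve_right fun e => hx ?_
  exact (e.ge (mem_zpowers x)).2

theorem relIndex_zpowers_dvd {H : Subgroup G} [H.Normal] {x : G} {n : ℕ} (h : x ^ n ∈ H) :
    H.relIndex (H ⊔ zpowers x) ∣ n := by
  rw [relIndex_sup_left, ← card_map_mk', MonoidHom.map_zpowers, Nat.card_zpowers]
  apply orderOf_dvd_of_pow_eq_one
  rw [← map_pow]
  exact (QuotientGroup.eq_one_iff _).mpr h

theorem relIndex_zpowers_eq_prime {p : ℕ} (hp : p.Prime) {H : Subgroup G} [H.Normal] {x : G}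
    (h : x ^ p ∈ H) (hx : x ∉ H) : H.relIndex (H ⊔ zpowers x) = p := by
  refine ((Nat.dvd_prime hp).mp (relIndex_zpowers_dvd h)).resolve_left fun e => hx ?_
  exact relIndex_eq_one.mp e (mem_sup_right (mem_zpowers x))

/-- Every subgroup of an elementary abelian subgroup has a complement in it. -/
theorem exists_complement_of_isElementaryAbelian [Finite G] {p : ℕ} (hp : p.Prime)
    {E B : Subgroup G} (hE : IsElementaryAbelian p E) (hB : B ≤ E) :
    ∃ M, M ≤ E ∧ M ⊓ B = ⊥ ∧ M ⊔ B = E := by
  obtain ⟨M, -, ⟨h1, h2⟩, hmax⟩ := exists_maximal_ge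
    (P := fun M : Subgroup G => M ≤ E ∧ M ⊓ B = ⊥) (H := ⊥) ⟨bot_le, bot_inf_eq B⟩
  refine ⟨M, h1, h2, le_antisymm (sup_le h1 hB) fun y hy => ?_⟩
  by_contra hyn
  have hc : E ≤ centralizer (E : Set G) := le_centralizer_iff_isMulCommutative.mpr hE.1
  have h3 := zpowers_inf_eq_bot_of_pow_prime hp (hE.2 y hy) hyn
  have hyE : zpowers y ≤ E := zpowers_le.mpr hy
  have h4 : M ⊔ zpowers y = M := by
    refine hmax _ ⟨sup_le h1 hyE, ?_⟩ le_sup_left
    rw [eq_bot_iff]
    rintro b ⟨hb, hbB⟩
    obtain ⟨m, hm, z, hz, rfl⟩ := (mem_sup_of_le_normalizer_right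
      (h1.trans (hc.trans ((centralizer_anti hyE).trans (centralizer_le_normalizer _))))).mp hb
    have : z ∈ zpowers y ⊓ (M ⊔ B) := by
      refine ⟨hz, ?_⟩
      have := (M ⊔ B).mul_mem (mem_sup_left (M.inv_mem hm)) (mem_sup_right hbB)
      simpa using this
    rw [h3, mem_bot] at this
    subst this
    rw [← h2]
    exact ⟨by simpa using hm, hbB⟩
  exact hyn (mem_sup_left (h4.le (mem_sup_right (mem_zpowers y))))

/-! ### The Frattini subgroup -/

theorem le_frattini_iff {H : Subgroup G} : H ≤ frattini G ↔ ∀ M, IsCoatom M → H ≤ M := by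
  simp [frattini, Order.radical]

theorem mem_frattini_iff {x : G} : x ∈ frattini G ↔ ∀ M : Subgroup G, IsCoatom M → x ∈ M := by
  rw [← zpowers_le, le_frattini_iff]
  simp

theorem sup_eq_top_of_isCoatom {M H : Subgroup G} (hM : IsCoatom M) (h : ¬ H ≤ M) :
    M ⊔ H = ⊤ := hM.2 _ (left_lt_sup.mpr h)

theorem le_frattini_of_forall [Finite G] {N : Subgroup G}
    (h : ∀ H : Subgroup G, H ⊔ N = ⊤ → H = ⊤) : N ≤ frattini G := by
  rw [le_frattini_iff]
  intro M hM
  by_contra hn
  exact hM.1 (h M (sup_eq_top_of_isCoatom hM hn))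

theorem eq_top_of_sup_eq_top_of_le_frattini [Finite G] {H N : Subgroup G} (hN : N ≤ frattini G)
    (h : H ⊔ N = ⊤) : H = ⊤ :=
  frattini_nongenerating (eq_top_iff.mpr (h.ge.trans (sup_le_sup_left hN H)))

theorem commutator_le_of_isCoatom_of_normal {M : Subgroup G} (hM : IsCoatom M) [M.Normal]
    (hs : Group.IsSolvable (G ⧸ M)) : commutator G ≤ M := by
  by_contra h
  have h1 := sup_eq_top_of_isCoatom hM h
  have : Nontrivial (G ⧸ M) := QuotientGroup.nontrivial_iff.mpr hM.1
  apply (Group.IsSolvable.commutator_lt_top_of_nontrivial (G ⧸ M)).ne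
  rw [sup_comm, ← map_mk'_eq_top_iff, map_commutator_eq,
    MonoidHom.range_eq_top_of_surjective _ (QuotientGroup.mk'_surjective M)] at h1
  exact h1

theorem commutator_le_frattini_of_isNilpotent [Finite G] [Group.IsNilpotent G] :
    commutator G ≤ frattini G := by
  rw [le_frattini_iff]
  intro M hM
  have := isNilpotent_iff_coatom_normal.mp ‹_› M hM
  exact commutator_le_of_isCoatom_of_normal hM inferInstance

theorem commutator_le_map_frattini [Finite G] {K : Subgroup G} (hK : Group.IsNilpotent K) :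
    ⁅K, K⁆ ≤ (frattini K).map K.subtype := by
  rw [← map_subtype_commutator]
  exact map_mono commutator_le_frattini_of_isNilpotent

theorem eq_of_sup_commutator_eq [Finite G] {H K : Subgroup G} (hK : Group.IsNilpotent K)
    (hH : H ≤ K) (h : K ≤ H ⊔ ⁅K, K⁆) : H = K :=
  eq_of_sup_frattini hH (le_antisymm (sup_le hH (map_subtype_le _))
    (h.trans (sup_le_sup_left (commutator_le_map_frattini hK) H)))

theorem index_eq_prime_of_isCoatom_of_isPGroup [Finite G] {p : ℕ} [hp : Fact p.Prime]
    (hG : IsPGroup p G) {M : Subgroup G} (hM : IsCoatom M) : M.index = p := by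
  obtain ⟨n, hn⟩ := (hG.to_subgroup M).exists_card_eq
  obtain ⟨k, hk⟩ := hG.index M
  have hk0 : k ≠ 0 := by
    rintro rfl
    exact hM.1 (index_eq_one.mp hk)
  have h1 : p ^ (n + 1) ∣ Nat.card G := by
    rw [← M.card_mul_index, hn, hk, ← pow_add]
    exact pow_dvd_pow p (by omega)
  obtain ⟨K, hK, hMK⟩ := Sylow.exists_subgroup_card_pow_succ h1 hn
  have h2 : K = ⊤ := hM.2 K (lt_of_le_of_ne hMK fun e => by
    rw [← e, hn] at hK
    exact absurd (Nat.pow_right_injective hp.out.two_le hK) (by omega))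
  have h3 := M.card_mul_index
  rw [← card_top (G := G), ← h2, hK, hn, pow_succ] at h3
  exact Nat.eq_of_mul_eq_mul_left (pow_pos hp.out.pos n) h3

theorem pow_mem_frattini_of_isPGroup [Finite G] {p : ℕ} [Fact p.Prime] (hG : IsPGroup p G)
    (x : G) : x ^ p ∈ frattini G := by
  rw [mem_frattini_iff]
  intro M hM
  have := isNilpotent_iff_coatom_normal.mp hG.isNilpotent M hM
  rw [← index_eq_prime_of_isCoatom_of_isPGroup hG hM]
  exact M.pow_index_mem x

theorem frattini_eq_bot_of_isElementaryAbelian [Finite G] {p : ℕ} (hp : p.Prime)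
    (h : IsElementaryAbelian p (⊤ : Subgroup G)) : frattini G = ⊥ := by
  obtain ⟨M, -, h1, h2⟩ := exists_complement_of_isElementaryAbelian hp h
    (le_top : frattini G ≤ ⊤)
  rwa [frattini_nongenerating h2, top_inf_eq] at h1

theorem map_frattini_le {f : G →* G'} (hf : Function.Surjective f) :
    (frattini G).map f ≤ frattini G' :=
  map_le_iff_le_comap.mpr (frattini_le_comap_frattini_of_surjective hf)

theorem frattini_le_of_elementary_quotient [Finite G] {p : ℕ} (hp : p.Prime) (N : Subgroup G)
    [N.Normal] (hcomm : commutator G ≤ N) (hpow : ∀ x : G, x ^ p ∈ N) : frattini G ≤ N := by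
  rw [← map_mk'_eq_bot_iff, eq_bot_iff]
  refine (map_frattini_le (QuotientGroup.mk'_surjective N)).trans
    (frattini_eq_bot_of_isElementaryAbelian hp ⟨?_, ?_⟩).le
  · rw [← map_top_of_surjective _ (QuotientGroup.mk'_surjective N), isMulCommutative_map_mk'_iff]
    exact hcomm
  · intro x _
    obtain ⟨x, rfl⟩ := QuotientGroup.mk'_surjective N x
    rw [← map_pow]
    exact (QuotientGroup.eq_one_iff _).mpr (hpow x)

/-- A normal subgroup contained in the Frattini subgroup of a subgroup lies in `Φ(G)`. -/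
theorem le_frattini_of_normal_of_le_map_frattini [Finite G] {N B : Subgroup G} [N.Normal]
    (h : N ≤ (frattini B).map B.subtype) : N ≤ frattini G := by
  rw [le_frattini_iff]
  intro M hM
  by_contra hn
  have hNB : N ≤ B := h.trans (map_subtype_le _)
  have h1 : (M ⊓ B) ⊔ N = B := by
    rw [← inf_sup_dedekind le_normalizer_of_normal hNB, sup_eq_top_of_isCoatom hM hn, top_inf_eq]
  have h2 : M ⊓ B = B := eq_of_sup_frattini inf_le_right
    (le_antisymm (sup_le inf_le_right (map_subtype_le _)) (h1.ge.trans (sup_le_sup_left h _)))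
  exact hn (hNB.trans (inf_eq_right.mp h2))

theorem map_subtype_frattini_le [Finite G] (H : Subgroup G) [H.Normal] :
    (frattini H).map H.subtype ≤ frattini G :=
  le_frattini_of_normal_of_le_map_frattini le_rfl

theorem map_frattini_mk'_of_le [Finite G] {N : Subgroup G} [N.Normal] (h : N ≤ frattini G) :
    (frattini G).map (QuotientGroup.mk' N) = frattini (G ⧸ N) := by
  refine le_antisymm (map_frattini_le (QuotientGroup.mk'_surjective N)) ?_
  rw [← map_comap_mk' N (frattini (G ⧸ N))]
  apply map_mono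
  apply le_frattini_of_forall
  intro H hH
  have h1 := congrArg (map (QuotientGroup.mk' N)) hH
  rw [Subgroup.map_sup, map_comap_mk', map_top_of_surjective _ (QuotientGroup.mk'_surjective N)]
    at h1
  exact eq_top_of_sup_eq_top_of_le_frattini h (map_mk'_eq_top_iff.mp (frattini_nongenerating h1))

theorem frattini_quotient_frattini [Finite G] : frattini (G ⧸ frattini G) = ⊥ := by
  rw [← map_frattini_mk'_of_le le_rfl, map_mk'_eq_bot_iff]

/-- Nilpotency lifts through a normal subgroup inside `Φ(G)`. -/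
theorem isNilpotent_of_map_mk'_of_le_frattini [Finite G] {A B : Subgroup G} [A.Normal] [B.Normal]
    (hBA : B ≤ A) (hB : B ≤ frattini G) (h : Group.IsNilpotent (A.map (QuotientGroup.mk' B))) :
    Group.IsNilpotent A := by
  apply isNilpotent_of_forall_isSylowIn
  intro p _
  obtain ⟨P, hP⟩ := exists_isSylowIn p A
  refine ⟨P, hP, ?_⟩
  have := map_mk'_normal A B
  have h1 := hP.map (QuotientGroup.mk' B)
  have h2 : (P.map (QuotientGroup.mk' B)).Normal := by
    rw [normal_iff_top_le_normalizer, ← normalizer_eq_top (A.map (QuotientGroup.mk' B))]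
    exact h1.normalizer_le (h1.le_normalizer_of_isNilpotent h)
  have h3 : (P ⊔ B).Normal := by rw [← comap_map_mk'']; infer_instance
  have h4 := (hP.of_le le_sup_left (sup_le hP.1 hBA)).frattini_normal
  rw [sup_comm, ← sup_assoc, sup_eq_left.mpr le_normalizer] at h4
  rw [eq_top_of_sup_eq_top_of_le_frattini hB h4]
  exact le_top

theorem frattini_le_fitting [Finite G] : frattini G ≤ fittingSubgroup G :=
  le_fitting inferInstance frattini_nilpotent

theorem comap_fitting_of_le_frattini [Finite G] {B : Subgroup G} [B.Normal]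
    (hB : B ≤ frattini G) :
    (fittingSubgroup (G ⧸ B)).comap (QuotientGroup.mk' B) = fittingSubgroup G := by
  apply le_antisymm
  · apply le_fitting inferInstance
    apply isNilpotent_of_map_mk'_of_le_frattini (le_comap_mk' B _) hB
    rw [map_comap_mk']
    exact fitting_isNilpotent
  · exact map_le_iff_le_comap.mp (map_fitting_le (QuotientGroup.mk'_surjective B))

theorem isNilpotent_of_quotient_of_le_frattini [Finite G] {B : Subgroup G} [B.Normal]
    (hB : B ≤ frattini G) (h : Group.IsNilpotent (G ⧸ B)) : Group.IsNilpotent G := by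
  rw [← fitting_eq_top_iff, ← comap_fitting_of_le_frattini hB, fitting_eq_top_iff.mpr h, comap_top]

theorem commutator_fitting_le_frattini [Finite G] :
    ⁅fittingSubgroup G, fittingSubgroup G⁆ ≤ frattini G :=
  (commutator_le_map_frattini fitting_isNilpotent).trans (map_subtype_frattini_le _)

theorem prime_dvd_index_of_le_frattini [Finite G] {B : Subgroup G} [B.Normal]
    (hB : B ≤ frattini G) {p : ℕ} (hp : p.Prime) (hd : p ∣ Nat.card G) : p ∣ B.index := by
  by_contra hn
  have := Fact.mk hp
  obtain ⟨P, hP⟩ := exists_isSylowIn p B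
  have h1 : P.Normal := by
    rw [normal_iff_top_le_normalizer, ← normalizer_eq_top B]
    exact hP.normalizer_le (hP.le_normalizer_of_isNilpotent (isNilpotent_of_le frattini_nilpotent hB))
  have h2 : IsSylowIn p P ⊤ := hP.trans le_top (by rwa [relIndex_top_right])
  obtain ⟨H, hH⟩ := exists_left_complement'_of_coprime (N := P)
    (IsPGroup_coprime_card h2.2.1 (by
      rw [Nat.coprime_comm, hp.coprime_iff_not_dvd, ← relIndex_top_right]; exact h2.2.2))
  have h3 := eq_top_of_sup_eq_top_of_le_frattini (hP.1.trans hB) hH.sup_eq_top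
  rw [h3, isComplement'_top_left] at hH
  exact h2.ne_bot (by rwa [card_top]) hH

theorem inf_normal_of_sup_eq_top {M N : Subgroup G} [N.Normal] (hN : IsMulCommutative N)
    (h : M ⊔ N = ⊤) : (M ⊓ N).Normal :=
  normal_of_sup_eq_top h (le_normalizer_inf le_normalizer le_normalizer_of_normal)
    ((le_centralizer_iff_isMulCommutative.mpr hN).trans
      ((centralizer_anti inf_le_right).trans (centralizer_le_normalizer _)))

/-- A maximal subgroup not containing an abelian minimal normal subgroup complements it. -/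
theorem IsMinNormal.isComplement'_of_isCoatom {N M : Subgroup G} (hN : IsMinNormal N)
    (ha : IsMulCommutative N) (hM : IsCoatom M) (h : ¬ N ≤ M) : IsComplement' N M := by
  have := hN.1
  have h1 := sup_eq_top_of_isCoatom hM h
  refine isComplement'_of_normal ?_ (by rw [sup_comm, h1])
  rw [inf_comm]
  exact (hN.2.2 _ (inf_normal_of_sup_eq_top ha h1) inf_le_right).resolve_right
    fun e => h (inf_eq_right.mp e)

theorem IsMinNormal.isCoatom_of_isComplement' {N M : Subgroup G} (hN : IsMinNormal N)
    (ha : IsMulCommutative N) (h : IsComplement' N M) : IsCoatom M := by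
  have := hN.1
  constructor
  · rintro rfl
    exact hN.2.1 (isComplement'_top_right.mp h)
  · intro K hK
    have h1 : K ⊔ N = ⊤ := eq_top_iff.mpr (h.symm.sup_eq_top.ge.trans (sup_le_sup_right hK.le N))
    have h2 : M ⊔ (N ⊓ K) = K := by
      rw [← inf_sup_dedekind' le_normalizer_of_normal hK.le, h.symm.sup_eq_top, top_inf_eq]
    rcases hN.2.2 _ (inf_normal_of_sup_eq_top ha h1) inf_le_right with e | e
    · rw [inf_comm, e, sup_bot_eq] at h2
      exact absurd h2 hK.ne
    · rwa [sup_eq_left.mpr (inf_eq_right.mp e)] at h1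

theorem IsMinNormal.exists_complement_iff [Finite G] {N : Subgroup G} (hN : IsMinNormal N)
    (ha : IsMulCommutative N) : (∃ H, IsComplement' N H) ↔ ¬ N ≤ frattini G := by
  constructor
  · rintro ⟨H, hH⟩ hle
    exact (hN.isCoatom_of_isComplement' ha hH).1
      (eq_top_of_sup_eq_top_of_le_frattini hle hH.symm.sup_eq_top)
  · intro h
    rw [le_frattini_iff] at h
    push Not at h
    obtain ⟨M, hM, h⟩ := h
    exact ⟨M, hN.isComplement'_of_isCoatom ha hM h⟩

/-- An abelian normal subgroup meeting `Φ(G)` trivially is complemented. -/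
theorem exists_complement_of_inf_frattini_eq_bot [Finite G] (A : Subgroup G) [A.Normal]
    (ha : IsMulCommutative A) (h : A ⊓ frattini G = ⊥) : ∃ H, IsComplement' A H := by
  obtain ⟨H, -, h1, hmin⟩ := exists_minimal_le (P := fun H : Subgroup G => H ⊔ A = ⊤) (H := ⊤)
    (top_sup_eq A)
  refine ⟨H, isComplement'_of_normal ?_ (by rw [sup_comm, h1])⟩
  have := inf_normal_of_sup_eq_top ha h1
  rw [inf_comm, eq_bot_iff, ← h]
  refine le_inf inf_le_right ?_
  rw [le_frattini_iff]
  intro M hM
  by_contra hn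
  have h2 : (M ⊓ H) ⊔ (H ⊓ A) = H := by
    rw [← inf_sup_dedekind le_normalizer_of_normal inf_le_left, sup_eq_top_of_isCoatom hM hn,
      top_inf_eq]
  have h3 : M ⊓ H = H := by
    refine hmin _ ?_ inf_le_right
    rw [eq_top_iff, ← h1, sup_le_iff]
    exact ⟨h2.ge.trans (sup_le_sup_left inf_le_right _), le_sup_right⟩
  exact hn (inf_le_left.trans (inf_eq_right.mp h3))

theorem isMulCommutative_fitting_of_frattini_eq_bot [Finite G] (h : frattini G = ⊥) :
    IsMulCommutative (fittingSubgroup G) :=
  commutator_self_eq_bot_iff.mp (eq_bot_iff.mpr (h ▸ commutator_fitting_le_frattini))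

theorem fitting_eq_sSup_minNormal [Finite G] (h : frattini G = ⊥) :
    fittingSubgroup G = sSup {N : Subgroup G | N.Normal ∧ N ≠ ⊥ ∧ IsMulCommutative N ∧
      ∀ K : Subgroup G, K.Normal → K ≤ N → K = ⊥ ∨ K = N} := by
  set S := sSup {N : Subgroup G | N.Normal ∧ N ≠ ⊥ ∧ IsMulCommutative N ∧
      ∀ K : Subgroup G, K.Normal → K ≤ N → K = ⊥ ∨ K = N} with hS
  have hSn : S.Normal := sSup_normal _ fun _ h => h.1
  have hSF : S ≤ fittingSubgroup G :=
    sSup_le fun N hN => le_fitting hN.1 (isNilpotent_of_comm hN.2.2.1)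
  have hF := isMulCommutative_fitting_of_frattini_eq_bot h
  obtain ⟨H, hH⟩ := exists_complement_of_inf_frattini_eq_bot S (isMulCommutative_of_le hF hSF)
    (by rw [h, inf_bot_eq])
  have h1 : H ⊔ fittingSubgroup G = ⊤ :=
    eq_top_iff.mpr (hH.symm.sup_eq_top.ge.trans (sup_le_sup_left hSF H))
  have := inf_normal_of_sup_eq_top hF h1
  have h2 : H ⊓ fittingSubgroup G = ⊥ := by
    by_contra hne
    obtain ⟨M, hM, hM'⟩ := exists_minNormal_le hne
    apply hM'.2.1
    rw [eq_bot_iff, ← hH.disjoint.eq_bot]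
    exact le_inf (le_sSup ⟨hM'.1, hM'.2.1, isMulCommutative_of_le hF (hM.trans inf_le_right),
      hM'.2.2⟩) (hM.trans inf_le_left)
  have h3 := inf_sup_dedekind (A := H) le_normalizer_of_normal hSF
  rwa [hH.symm.sup_eq_top, top_inf_eq, h2, bot_sup_eq] at h3

/-! ### Nilpotent groups -/

/-- A normal subgroup `N < C` of a nilpotent group, `C` normal: some `x ∈ C \ N` is central
modulo `N`. -/
theorem exists_mem_center_mod [Group.IsNilpotent G] {N C : Subgroup G} [N.Normal] [C.Normal]
    (h : ¬ C ≤ N) : ∃ x ∈ C, x ∉ N ∧ ⁅zpowers x, (⊤ : Subgroup G)⁆ ≤ N := by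
  have := map_mk'_normal C N
  have h1 := inf_center_ne_bot (N := C.map (QuotientGroup.mk' N))
    (fun e => h (map_mk'_eq_bot_iff.mp e))
  obtain ⟨⟨_, ⟨x, hx, rfl⟩, h2⟩, h3⟩ := ne_bot_iff_exists_ne_one.mp h1
  refine ⟨x, hx, fun hxN => h3 (Subtype.ext ((QuotientGroup.eq_one_iff _).mpr hxN)), ?_⟩
  rw [← map_mk'_eq_bot_iff, map_commutator, MonoidHom.map_zpowers,
    map_top_of_surjective _ (QuotientGroup.mk'_surjective N),
    commutator_top_right_eq_bot_iff_le_center, zpowers_le]
  exact h2

theorem sup_normal_of_commutator_le {N X : Subgroup G} [N.Normal]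
    (h : ⁅X, (⊤ : Subgroup G)⁆ ≤ N) : (N ⊔ X).Normal := by
  rw [← comap_map_mk'' X N |>.trans (sup_comm X N)]
  have : (X.map (QuotientGroup.mk' N)).Normal := by
    rw [← commutator_top_right_le_iff, ← map_top_of_surjective _ (QuotientGroup.mk'_surjective N),
      ← map_commutator, map_mk'_eq_bot_iff.mpr h]
    exact bot_le
  infer_instance

theorem centralizer_eq_of_maximal_abelian_normal [Group.IsNilpotent G] (N : Subgroup G) [N.Normal]
    (ha : IsMulCommutative N)
    (hmax : ∀ M : Subgroup G, M.Normal → IsMulCommutative M → N ≤ M → M = N) :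
    centralizer (N : Set G) = N := by
  refine le_antisymm ?_ (le_centralizer_iff_isMulCommutative.mpr ha)
  by_contra h
  obtain ⟨x, hx, hxN, h1⟩ := exists_mem_center_mod h
  have := hmax (N ⊔ zpowers x) (sup_normal_of_commutator_le h1)
    (isMulCommutative_sup ha inferInstance (le_centralizer_iff.mp (zpowers_le.mpr hx))) le_sup_left
  exact hxN (this.le (mem_sup_right (mem_zpowers x)))

theorem isSubnormal_of_isNilpotent [Finite G] [Group.IsNilpotent G] (H : Subgroup G) :
    H.IsSubnormal := by
  induction H using WellFoundedGT.induction with | _ H ih => ?_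
  by_cases h : H = ⊤
  · subst h; exact IsSubnormal.top
  · exact IsSubnormal.step H _ le_normalizer
      (ih _ (Group.normalizerCondition_of_isNilpotent H (lt_top_iff_ne_top.mpr h)))
      inferInstance

theorem normal_of_isCoatom_of_isSubnormal {H : Subgroup G} (hH : IsCoatom H)
    (h : H.IsSubnormal) : H.Normal := by
  obtain ⟨K, h1, h2, h3⟩ := h.exists_normal_and_le_and_lt_top_of_ne hH.1
  rwa [(hH.le_iff.mp h2).resolve_left h3.ne] at h1

end Cfsg.Agent.Core
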