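import Cfsg.Agent.Core.CoprimeAb

/-!
# Core library: Frobenius complements, kernels and fixed-point-free action
-/

set_option autoImplicit false

namespace Cfsg.Agent.Core

open Subgroup
open scoped Pointwise commutatorElement

universe u v

variable {G : Type u} [Group G] {G' : Type v} [Group G']

theorem inv_mul_mul_eq_one_iff {a w : G} : a⁻¹ * w * a = 1 ↔ w = 1 := by
  simpa using conj_eq_one_iff (a := a⁻¹) (b := w)

/-- A subgroup acting freely by conjugation on an invariant set has order dividing its size. -/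
theorem card_dvd_of_free_conj [Finite G] (A : Subgroup G) (S : Set G)
    (hS : ∀ a ∈ A, ∀ s ∈ S, a * s * a⁻¹ ∈ S)
    (hf : ∀ a ∈ A, ∀ s ∈ S, a * s * a⁻¹ = s → a = 1) : Nat.card A ∣ S.ncard := by
  let : MulAction A S :=
    { smul := fun a s => ⟨a * s * a⁻¹, hS a a.2 s s.2⟩
      one_smul := fun s => Subtype.ext (by change ((1 : A) : G) * s * ((1 : A) : G)⁻¹ = s; simp)
      mul_smul := fun a b s => Subtype.ext (by
        change ((a * b : A) : G) * s * ((a * b : A) : G)⁻¹ = a * (b * s * (b : G)⁻¹) * (a : G)⁻¹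
        simp [mul_assoc]) }
  have h : ∀ b : S, MulAction.stabilizer A b = ⊥ := by
    intro b
    rw [eq_bot_iff]
    intro a ha
    have : (a : G) * b * (a : G)⁻¹ = b := congrArg Subtype.val (MulAction.mem_stabilizer_iff.mp ha)
    exact mem_bot.mpr (Subtype.ext (hf a a.2 b b.2 this))
  have e := Nat.card_congr (MulAction.selfEquivOrbitsQuotientProd h)
  rw [Nat.card_prod] at e
  rw [← Nat.card_coe_set_eq, e]
  exact Dvd.intro_left _ rfl

theorem frob_mem {H : Subgroup G} (hH : IsFrobeniusComplement H) {w g : G} (hw : w ≠ 1)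
    (h1 : w ∈ H) (h2 : w ∈ MulAut.conj g • H) : g ∈ H := by
  by_contra hg
  have : w ∈ H ⊓ MulAut.conj g • H := ⟨h1, h2⟩
  rw [hH.2.2 g hg] at this
  exact hw (mem_bot.mp this)

theorem frob_mem_of_conj_mem {H : Subgroup G} (hH : IsFrobeniusComplement H) {w g : G}
    (hw : w ≠ 1) (h1 : w ∈ H) (h2 : g * w * g⁻¹ ∈ H) : g ∈ H := by
  have := frob_mem hH (g := g⁻¹) hw h1 (by rw [mem_conj_smul]; simpa using h2)
  simpa using this

theorem frob_inv_mul_mem {H : Subgroup G} (hH : IsFrobeniusComplement H) {w a b : G} (hw : w ≠ 1)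
    (ha : w ∈ MulAut.conj a • H) (hb : w ∈ MulAut.conj b • H) : a⁻¹ * b ∈ H := by
  rw [mem_conj_smul] at ha hb
  refine frob_mem hH (w := a⁻¹ * w * a) (mt inv_mul_mul_eq_one_iff.mp hw) ha ?_
  rw [mem_conj_smul]
  simpa [mul_assoc] using hb

theorem frob_conj_eq {H : Subgroup G} (hH : IsFrobeniusComplement H) {w a b : G} (hw : w ≠ 1)
    (ha : w ∈ MulAut.conj a • H) (hb : w ∈ MulAut.conj b • H) :
    MulAut.conj a • H = MulAut.conj b • H := by
  have h := frob_inv_mul_mem hH hw ha hb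
  have : b = a * (a⁻¹ * b) := by simp
  rw [this, ← conj_smul_conj_smul, conj_smul_eq_of_mem_normalizer (le_normalizer h)]

theorem frob_centralizer_le {H : Subgroup G} (hH : IsFrobeniusComplement H) {w : G} (hw : w ≠ 1)
    (h1 : w ∈ H) : centralizer {w} ≤ H := by
  intro g hg
  refine frob_mem_of_conj_mem hH hw h1 ?_
  rw [mem_centralizer_singleton_iff] at hg
  rw [hg]; simpa using h1

theorem frob_normalizer_eq {H : Subgroup G} (hH : IsFrobeniusComplement H) :
    normalizer (H : Set G) = H := by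
  refine le_antisymm (fun g hg => ?_) le_normalizer
  obtain ⟨⟨w, hw⟩, hw1⟩ := (ne_bot_iff_exists_ne_one.mp hH.1)
  exact frob_mem_of_conj_mem hH (fun e => hw1 (Subtype.ext e)) hw (conj_mem_of_mem_normalizer hg hw)

theorem frob_normalizer_le {H X : Subgroup G} (hH : IsFrobeniusComplement H) (hX : X ≤ H)
    (hne : X ≠ ⊥) : normalizer (X : Set G) ≤ H := by
  intro g hg
  obtain ⟨⟨w, hw⟩, hw1⟩ := (ne_bot_iff_exists_ne_one.mp hne)
  exact frob_mem_of_conj_mem hH (fun e => hw1 (Subtype.ext e)) (hX hw)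
    (hX (conj_mem_of_mem_normalizer hg hw))

theorem frob_conj {H : Subgroup G} (hH : IsFrobeniusComplement H) (g : G) :
    IsFrobeniusComplement (MulAut.conj g • H) := by
  refine ⟨by rw [Ne, smul_eq_bot_iff]; exact hH.1, by rw [Ne, smul_eq_top_iff]; exact hH.2.1,
    fun x hx => ?_⟩
  rw [eq_bot_iff]
  rintro w ⟨h1, h2⟩
  by_contra hw
  rw [conj_smul_conj_smul] at h2
  apply hx
  rw [mem_conj_smul]
  simpa [mul_assoc] using frob_inv_mul_mem hH (fun e => hw (mem_bot.mpr e)) h1 h2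

theorem frob_subgroupOf {H U : Subgroup G} (hH : IsFrobeniusComplement H) (h1 : U ⊓ H ≠ ⊥)
    (h2 : ¬ U ≤ H) : IsFrobeniusComplement (H.subgroupOf U) := by
  refine ⟨fun e => h1 ?_, fun e => h2 (subgroupOf_eq_top.mp e), fun x hx => ?_⟩
  · rw [subgroupOf_eq_bot, disjoint_iff] at e; rw [inf_comm]; exact e
  · rw [eq_bot_iff]
    rintro w ⟨h3, h4⟩
    by_contra hw
    apply hx
    refine frob_mem hH (w := (w : G)) (fun e => hw (mem_bot.mpr (Subtype.ext e))) h3 ?_
    exact mem_conj_smul.mpr ((mem_conj_smul (G := U)).mp h4)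

theorem mem_frobeniusKernel {H : Subgroup G} {x : G} :
    x ∈ frobeniusKernel H ↔ x = 1 ∨ ∀ g : G, x ∉ MulAut.conj g • H := Iff.rfl

theorem one_mem_frobeniusKernel (H : Subgroup G) : (1 : G) ∈ frobeniusKernel H := Or.inl rfl

theorem conj_mem_frobeniusKernel {H : Subgroup G} {x : G} (hx : x ∈ frobeniusKernel H) (g : G) :
    g * x * g⁻¹ ∈ frobeniusKernel H := by
  rcases hx with rfl | hx
  · left; simp
  · right
    intro k hk
    apply hx (g⁻¹ * k)
    rw [mem_conj_smul] at hk ⊢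
    simpa [mul_assoc] using hk

theorem frobeniusKernel_conj (H : Subgroup G) (g : G) :
    frobeniusKernel (MulAut.conj g • H) = frobeniusKernel H := by
  ext x
  simp only [mem_frobeniusKernel, conj_smul_conj_smul]
  refine or_congr Iff.rfl ⟨fun h k => ?_, fun h k => h _⟩
  simpa using h (k * g⁻¹)

theorem ncard_compl_frobeniusKernel [Finite G] {H : Subgroup G} (hH : IsFrobeniusComplement H) :
    (frobeniusKernel H)ᶜ.ncard = H.index * (Nat.card H - 1) := by
  classical
  let f : (G ⧸ H) × {h : H // h ≠ 1} → G := fun x => x.1.out * x.2.1 * x.1.out⁻¹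
  have hinj : Function.Injective f := by
    rintro ⟨q, h⟩ ⟨q', h'⟩ e
    have hw : f (q, h) ≠ 1 := by
      intro e1
      apply h.2
      have : (h.1 : G) = 1 := by simpa [f] using e1
      exact Subtype.ext this
    have h1 : f (q, h) ∈ MulAut.conj q.out • H := conj_mem_conj_smul.mpr h.1.2
    have h2 : f (q, h) ∈ MulAut.conj q'.out • H := e ▸ conj_mem_conj_smul.mpr h'.1.2
    have h3 := frob_inv_mul_mem hH hw h1 h2
    have h4 : q = q' := by
      rw [← QuotientGroup.eq] at h3
      simpa using h3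
    subst h4
    have : (h.1 : G) = h'.1 := by simpa [f] using e
    rw [Subtype.ext (Subtype.ext this : h.1 = h'.1)]
  have hr : Set.range f = (frobeniusKernel H)ᶜ := by
    ext x
    simp only [Set.mem_range, Set.mem_compl_iff, mem_frobeniusKernel, not_or, not_forall, not_not]
    constructor
    · rintro ⟨⟨q, h⟩, rfl⟩
      refine ⟨fun e1 => h.2 ?_, q.out, conj_mem_conj_smul.mpr h.1.2⟩
      have : (h.1 : G) = 1 := by simpa [f] using e1
      exact Subtype.ext this
    · rintro ⟨h1, g, hg⟩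
      obtain ⟨h, hh⟩ := QuotientGroup.mk_out_eq_mul H g
      have hx : x ∈ MulAut.conj (g : G ⧸ H).out • H := by
        rw [hh, ← conj_smul_conj_smul, conj_smul_eq_of_mem_normalizer (le_normalizer h.2)]
        exact hg
      rw [mem_conj_smul] at hx
      refine ⟨((g : G ⧸ H), ⟨⟨_, hx⟩, fun e => h1 ?_⟩), by simp [f, mul_assoc]⟩
      exact inv_mul_mul_eq_one_iff.mp (congrArg Subtype.val e)
  rw [← hr, Set.ncard_range_of_injective hinj, Nat.card_prod]
  congr 1
  have : Nat.card {h : H // h ≠ 1} = ({1}ᶜ : Set H).ncard := by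
    rw [← Nat.card_coe_set_eq]; rfl
  rw [this, Set.ncard_compl, Set.ncard_singleton]

theorem ncard_frobeniusKernel [Finite G] {H : Subgroup G} (hH : IsFrobeniusComplement H) :
    (frobeniusKernel H).ncard = H.index := by
  have h1 := Set.ncard_add_ncard_compl (frobeniusKernel H)
  rw [ncard_compl_frobeniusKernel hH, ← index_mul_card H] at h1
  have h2 : 0 < Nat.card H := Nat.card_pos
  obtain ⟨n, hn⟩ : ∃ n, Nat.card H = n + 1 := ⟨Nat.card H - 1, by omega⟩
  rw [hn] at h1
  simp only [Nat.add_sub_cancel, mul_add, mul_one] at h1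
  omega

theorem ncard_frobeniusKernel_diff [Finite G] {H : Subgroup G} (hH : IsFrobeniusComplement H) :
    (frobeniusKernel H \ {1}).ncard = H.index - 1 := by
  rw [Set.ncard_sdiff_singleton_of_mem (one_mem_frobeniusKernel H), ncard_frobeniusKernel hH]

theorem frob_card_dvd_index_sub_one [Finite G] {H : Subgroup G} (hH : IsFrobeniusComplement H) :
    Nat.card H ∣ H.index - 1 := by
  rw [← ncard_frobeniusKernel_diff hH]
  refine card_dvd_of_free_conj H _ (fun a _ s hs => ⟨conj_mem_frobeniusKernel hs.1 a, ?_⟩) ?_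
  · simpa using hs.2
  · intro a ha s hs e
    by_contra h1
    have h2 : s ∈ H := frob_centralizer_le hH h1 ha (by
      rw [mem_centralizer_singleton_iff]; rw [mul_inv_eq_iff_eq_mul] at e; exact e.symm)
    rcases hs.1 with h | h
    · exact hs.2 h
    · exact h 1 (by rwa [conj_one_smul])

theorem frob_index_modEq [Finite G] {H : Subgroup G} (hH : IsFrobeniusComplement H) :
    H.index ≡ 1 [MOD Nat.card H] :=
  ((Nat.modEq_iff_dvd' (index_pos H)).mpr (frob_card_dvd_index_sub_one hH)).symm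

theorem frob_coprime [Finite G] {H : Subgroup G} (hH : IsFrobeniusComplement H) :
    (Nat.card H).Coprime H.index := by
  have := (frob_index_modEq hH).gcd_eq
  rw [Nat.Coprime, Nat.gcd_comm, this]; simp

theorem frob_card_lt_index [Finite G] {H : Subgroup G} (hH : IsFrobeniusComplement H) :
    Nat.card H < H.index := by
  have h1 : 1 < H.index := one_lt_index_of_ne_top hH.2.1
  have := Nat.le_of_dvd (by omega) (frob_card_dvd_index_sub_one hH)
  omega

/-- Two Frobenius complements have conjugates which meet nontrivially. -/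
theorem frob_exists_inf_ne_bot [Finite G] {A B : Subgroup G} (hA : IsFrobeniusComplement A)
    (hB : IsFrobeniusComplement B) : ∃ g : G, A ⊓ MulAut.conj g • B ≠ ⊥ := by
  by_contra h
  push Not at h
  have hd : Disjoint (frobeniusKernel A)ᶜ (frobeniusKernel B)ᶜ := by
    rw [Set.disjoint_left]
    intro x hx hy
    simp only [Set.mem_compl_iff, mem_frobeniusKernel, not_or, not_forall, not_not] at hx hy
    obtain ⟨h1, a, ha⟩ := hx
    obtain ⟨-, b, hb⟩ := hy
    have : a⁻¹ * x * a ∈ A ⊓ MulAut.conj (a⁻¹ * b) • B := by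
      refine ⟨mem_conj_smul.mp ha, mem_conj_smul.mpr ?_⟩
      rw [mem_conj_smul] at hb
      simpa [mul_assoc] using hb
    rw [h, mem_bot] at this
    exact h1 (inv_mul_mul_eq_one_iff.mp this)
  have hsub : (frobeniusKernel A)ᶜ ∪ (frobeniusKernel B)ᶜ ⊆ {1}ᶜ := by
    rintro x (hx | hx) rfl
    · exact hx (one_mem_frobeniusKernel A)
    · exact hx (one_mem_frobeniusKernel B)
  have h1 := Set.ncard_le_ncard hsub
  rw [Set.ncard_union_eq hd, Set.ncard_compl, Set.ncard_compl, Set.ncard_compl,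
    ncard_frobeniusKernel hA, ncard_frobeniusKernel hB, Set.ncard_singleton] at h1
  have a1 := index_mul_card A
  have a2 := index_mul_card B
  have a3 : 1 < Nat.card A := (one_lt_card_iff_ne_bot A).mpr hA.1
  have a4 : 1 < Nat.card B := (one_lt_card_iff_ne_bot B).mpr hB.1
  have a5 : A.index * 2 ≤ Nat.card G := a1 ▸ Nat.mul_le_mul_left _ a3
  have a6 : B.index * 2 ≤ Nat.card G := a2 ▸ Nat.mul_le_mul_left _ a4
  have a7 : 0 < Nat.card G := Nat.card_pos
  omega

theorem frob_exists_mem_kernel [Finite G] {H U : Subgroup G} (hH : IsFrobeniusComplement H)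
    (h1 : U ⊓ H ≠ ⊥) (h2 : ∀ g : G, ¬ U ≤ MulAut.conj g • H) :
    ∃ y ∈ U, y ≠ 1 ∧ y ∈ frobeniusKernel H := by
  have hU := frob_subgroupOf hH h1 (by simpa [conj_one_smul] using h2 1)
  have h3 : 0 < (frobeniusKernel (H.subgroupOf U) \ {1}).ncard := by
    rw [ncard_frobeniusKernel_diff hU]
    have := one_lt_index_of_ne_top hU.2.1
    omega
  obtain ⟨y, hy, hy1⟩ := Set.nonempty_of_ncard_ne_zero h3.ne'
  have hy1' : (y : G) ≠ 1 := fun e => hy1 (Subtype.ext e)
  refine ⟨y, y.2, hy1', Or.inr fun g hg => ?_⟩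
  have hg' := frob_subgroupOf (U := U) (frob_conj hH g)
    (fun e => hy1' (mem_bot.mp (e ▸ (⟨y.2, hg⟩ : (y : G) ∈ U ⊓ MulAut.conj g • H)))) (h2 g)
  obtain ⟨u, hu⟩ := frob_exists_inf_ne_bot hU hg'
  obtain ⟨⟨w, hw1, hw2⟩, hw⟩ := ne_bot_iff_exists_ne_one.mp hu
  have hw' : (w : G) ≠ 1 := fun e => hw (Subtype.ext (Subtype.ext e))
  have h4 : (w : G) ∈ MulAut.conj ((u : G) * g) • H := by
    rw [← conj_smul_conj_smul, mem_conj_smul]
    exact (mem_conj_smul (G := U)).mp hw2
  have h5 := frob_mem hH hw' hw1 h4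
  rcases hy with hy | hy
  · exact hy1 hy
  · apply hy u⁻¹
    rw [mem_conj_smul, mem_subgroupOf]
    rw [mem_conj_smul] at hg
    have := H.mul_mem (H.mul_mem h5 hg) (H.inv_mem h5)
    simpa [mul_assoc] using this

theorem frob_exists_conj_le_of_card_le [Finite G] {H H₀ : Subgroup G}
    (hH : IsFrobeniusComplement H) (hH₀ : IsFrobeniusComplement H₀)
    (hle : Nat.card H₀ ≤ Nat.card H) : ∃ g : G, H₀ ≤ MulAut.conj g • H := by
  by_contra h
  push Not at h
  obtain ⟨g, hg⟩ := frob_exists_inf_ne_bot hH₀ hH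
  obtain ⟨y, hy, hy1, hyK⟩ := frob_exists_mem_kernel (frob_conj hH g) hg
    (fun k => by rw [conj_smul_conj_smul]; exact h _)
  rw [frobeniusKernel_conj] at hyK
  let f : G ⧸ H₀ → G := fun q => q.out * y * q.out⁻¹
  have hinj : Function.Injective f := by
    intro q q' e
    have : q'.out⁻¹ * q.out ∈ H₀ := by
      refine frob_mem_of_conj_mem hH₀ hy1 hy ?_
      have e' : q.out * y * q.out⁻¹ = q'.out * y * q'.out⁻¹ := e
      have : q'.out⁻¹ * q.out * y * (q'.out⁻¹ * q.out)⁻¹
          = q'.out⁻¹ * (q.out * y * q.out⁻¹) * q'.out := by group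
      rw [this, e']; simpa [mul_assoc] using hy
    rw [← QuotientGroup.eq] at this
    simpa using this.symm
  have hr : Set.range f ⊆ frobeniusKernel H \ {1} := by
    rintro _ ⟨q, rfl⟩
    exact ⟨conj_mem_frobeniusKernel hyK _, by simpa [f] using hy1⟩
  have h1 := Set.ncard_le_ncard hr
  rw [Set.ncard_range_of_injective hinj, ncard_frobeniusKernel_diff hH, ← index_eq_card] at h1
  have a1 := index_mul_card H
  have a2 := index_mul_card H₀
  have a3 := index_pos H
  have a4 : 0 < Nat.card H := Nat.card_pos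
  have : H₀.index * Nat.card H₀ < H.index * Nat.card H :=
    lt_of_le_of_lt (Nat.mul_le_mul_left _ hle) (Nat.mul_lt_mul_of_pos_right (by omega) a4)
  omega

theorem frob_exists_mem_conj_of_prime [Finite G] {H : Subgroup G} (hH : IsFrobeniusComplement H)
    {x : G} (hp : (orderOf x).Prime) (hd : orderOf x ∣ Nat.card H) :
    ∃ g : G, x ∈ MulAut.conj g • H := by
  have := Fact.mk hp
  obtain ⟨P, hP⟩ := exists_isSylowIn (orderOf x) H
  have hP' : IsSylowIn (orderOf x) P ⊤ := hP.trans le_top (by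
    rw [relIndex_top_right]
    exact fun h => hp.one_lt.ne' (Nat.eq_one_of_dvd_coprimes (frob_coprime hH) hd h))
  obtain ⟨k, -, hk⟩ := hP'.exists_le_conj (U := zpowers x) le_top
    (IsPGroup.of_card (n := 1) (by rw [Nat.card_zpowers, pow_one]))
  exact ⟨k, pointwise_smul_le_pointwise_smul_iff.mpr hP.1 (hk (mem_zpowers x))⟩

theorem exists_pow_prime_orderOf [Finite G] {x : G} (hx : x ≠ 1) :
    ∃ y ∈ zpowers x, (orderOf y).Prime := by
  obtain ⟨p, hp, hd⟩ := exists_prime_dvd_card (H := zpowers x) (by simpa using hx)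
  obtain ⟨y, hy, e⟩ := exists_prime_orderOf_mem hp hd
  exact ⟨y, hy, e ▸ hp⟩

theorem frob_exists_le_conj_of_card_dvd [Finite G] {H L : Subgroup G}
    (hH : IsFrobeniusComplement H) (hL : Nat.card L ∣ Nat.card H) :
    ∃ g : G, L ≤ MulAut.conj g • H := by
  by_contra h
  push Not at h
  have hL1 : L ≠ ⊥ := fun e => h 1 (e ▸ bot_le)
  obtain ⟨p, hp, hd⟩ := exists_prime_dvd_card hL1
  obtain ⟨x, hx, e⟩ := exists_prime_orderOf_mem hp hd
  obtain ⟨g, hg⟩ := frob_exists_mem_conj_of_prime hH (e ▸ hp) (e ▸ hd.trans hL)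
  have hx1 : x ≠ 1 := by rintro rfl; rw [orderOf_one] at e; exact hp.one_lt.ne e
  obtain ⟨y, hy, hy1, hyK⟩ := frob_exists_mem_kernel (U := L) (frob_conj hH g)
    (fun e => hx1 (mem_bot.mp (e ▸ (⟨hx, hg⟩ : x ∈ L ⊓ MulAut.conj g • H))))
    (fun k => by rw [conj_smul_conj_smul]; exact h _)
  rw [frobeniusKernel_conj] at hyK
  obtain ⟨z, hz, hzp⟩ := exists_pow_prime_orderOf hy1
  obtain ⟨k, hk⟩ := frob_exists_mem_conj_of_prime hH hzp
    ((orderOf_dvd_natCard L (zpowers_le.mpr hy hz)).trans hL)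
  have hz1 : z ≠ 1 := by rintro rfl; rw [orderOf_one] at hzp; exact Nat.not_prime_one hzp
  rcases hyK with h1 | h1
  · exact hy1 h1
  · refine h1 k (frob_centralizer_le (frob_conj hH k) hz1 hk ?_)
    obtain ⟨n, rfl⟩ := hz
    rw [mem_centralizer_singleton_iff]
    exact (Commute.self_zpow y n).eq

theorem frob_mul_mem_kernel_of_involution [Finite G] {H : Subgroup G}
    (hH : IsFrobeniusComplement H) {t : G} (ht : t ∈ H) (ht1 : t ≠ 1) (ht2 : t * t = 1) :
    ∀ x ∈ frobeniusKernel H, ∀ y ∈ frobeniusKernel H, x * y ∈ frobeniusKernel H := by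
  let u : G ⧸ H → G := fun q => q.out * t * q.out⁻¹
  have hu1 : ∀ q, u q ≠ 1 := fun q => by simpa [u] using ht1
  have hu2 : ∀ q, u q * u q = 1 := fun q => by
    have : u q * u q = q.out * (t * t) * q.out⁻¹ := by simp only [u]; group
    rw [this, ht2]; simp
  have huH : ∀ q, u q ∈ MulAut.conj q.out • H := fun q => conj_mem_conj_smul.mpr ht
  have huq : ∀ q (g : G), u q ∈ MulAut.conj g • H → q = (g : G ⧸ H) := fun q g h => by
    have := frob_inv_mul_mem hH (hu1 q) (huH q) h
    rw [← QuotientGroup.eq] at this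
    simpa using this
  have hinj : Function.Injective u := fun q q' e => by
    simpa using huq q q'.out (e ▸ huH q')
  have hK : ∀ q q', u q * u q' ∈ frobeniusKernel H := by
    intro q q'
    by_cases h1 : u q * u q' = 1
    · exact Or.inl h1
    refine Or.inr fun g hg => h1 ?_
    have hinv : ∀ q, (u q)⁻¹ = u q := fun q => inv_eq_of_mul_eq_one_right (hu2 q)
    have e1 : u q * (u q * u q') * (u q)⁻¹ = (u q * u q')⁻¹ := by
      rw [← mul_assoc (u q), hu2, one_mul, mul_inv_rev (u q), hinv, hinv]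
    have e2 : u q' * (u q * u q') * (u q')⁻¹ = (u q * u q')⁻¹ := by
      rw [mul_inv_rev (u q), hinv, hinv, mul_assoc (u q'), mul_assoc (u q), hu2, mul_one]
    have a1 := huq q g (frob_mem_of_conj_mem (frob_conj hH g) h1 hg (e1 ▸ inv_mem hg))
    have a2 := huq q' g (frob_mem_of_conj_mem (frob_conj hH g) h1 hg (e2 ▸ inv_mem hg))
    rw [a1, a2, hu2]
  have hcard : Nat.card (G ⧸ H) = Nat.card (frobeniusKernel H) := by
    rw [Nat.card_coe_set_eq, ncard_frobeniusKernel hH, index_eq_card]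
  let q₀ : G ⧸ H := (1 : G)
  have s1 : Function.Bijective (fun q => (⟨u q * u q₀, hK q q₀⟩ : frobeniusKernel H)) :=
    (Nat.bijective_iff_injective_and_card _).mpr
      ⟨fun q q' e => hinj (mul_right_cancel (congrArg Subtype.val e)), hcard⟩
  have s2 : Function.Bijective (fun q => (⟨u q₀ * u q, hK q₀ q⟩ : frobeniusKernel H)) :=
    (Nat.bijective_iff_injective_and_card _).mpr
      ⟨fun q q' e => hinj (mul_left_cancel (congrArg Subtype.val e)), hcard⟩
  intro x hx y hy
  obtain ⟨q, hq⟩ := s1.2 ⟨x, hx⟩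
  obtain ⟨q', hq'⟩ := s2.2 ⟨y, hy⟩
  have e1 : u q * u q₀ = x := congrArg Subtype.val hq
  have e2 : u q₀ * u q' = y := congrArg Subtype.val hq'
  have : x * y = u q * u q' := by
    rw [← e1, ← e2, mul_assoc, ← mul_assoc (u q₀), hu2, one_mul]
  rw [this]; exact hK q q'

theorem frob_fpf {H K : Subgroup G} (hH : IsFrobeniusComplement H) (hd : K ⊓ H = ⊥) :
    ∀ h ∈ H, h ≠ 1 → K ⊓ centralizer {h} = ⊥ := fun _ hh h1 =>
  eq_bot_iff.mpr (hd ▸ inf_le_inf_left K (frob_centralizer_le hH h1 hh))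

theorem frob_of_fpf {H K : Subgroup G} [K.Normal] (hc : IsComplement' K H) (hK : K ≠ ⊥)
    (hH : H ≠ ⊥) (hf : ∀ h ∈ H, h ≠ 1 → K ⊓ centralizer {h} = ⊥) : IsFrobeniusComplement H := by
  have hd := hc.disjoint
  refine ⟨hH, fun e => hK (by simpa [e] using hd), fun g hg => ?_⟩
  obtain ⟨k, hk, h, hh, rfl⟩ := exists_mul_of_isComplement' hc g
  rw [← conj_smul_conj_smul, conj_smul_eq_of_mem_normalizer (le_normalizer hh), eq_bot_iff]
  rintro x ⟨hx1, hx2⟩
  by_contra hx
  replace hx2 := mem_conj_smul.mp hx2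
  have h1 : x⁻¹ * (k⁻¹ * x * k) ∈ K := by
    have : x⁻¹ * (k⁻¹ * x * k) = (x⁻¹ * k⁻¹ * x⁻¹⁻¹) * k := by group
    rw [this]
    exact K.mul_mem (Normal.conj_mem inferInstance _ (K.inv_mem hk) _) hk
  have h2 : x⁻¹ * (k⁻¹ * x * k) = 1 :=
    (disjoint_def.mp hd) h1 (H.mul_mem (H.inv_mem hx1) hx2)
  have h3 : k ∈ K ⊓ centralizer {x} := by
    refine ⟨hk, mem_centralizer_singleton_iff.mpr ?_⟩
    have : k⁻¹ * x * k = x := (inv_mul_eq_one.mp h2).symm
    calc k * x = k * (k⁻¹ * x * k) := by rw [this]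
      _ = x * k := by group
  rw [hf x hx1 (fun e => hx (mem_bot.mpr e)), mem_bot] at h3
  exact hg (by rw [h3, one_mul]; exact hh)

/-- If the Frobenius kernel is a normal subgroup, it is a complement. -/
theorem frob_isComplement'_of_coe_eq [Finite G] {H N : Subgroup G} (hH : IsFrobeniusComplement H)
    (hN : (N : Set G) = frobeniusKernel H) : IsComplement' N H := by
  have hd : Disjoint N H := by
    rw [disjoint_def]
    intro x hx hx'
    have : x ∈ frobeniusKernel H := hN ▸ hx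
    rcases this with h | h
    · exact h
    · exact absurd (by rwa [conj_one_smul]) (h 1)
  refine isComplement'_of_card_mul_and_disjoint ?_ hd
  have : Nat.card N = H.index := by
    rw [← ncard_frobeniusKernel hH, ← hN, ← Nat.card_coe_set_eq]; rfl
  rw [this, index_mul_card]

/-- A normal complement to a Frobenius complement is the Frobenius kernel. -/
theorem frob_coe_eq_kernel [Finite G] {H N : Subgroup G} [N.Normal] (hH : IsFrobeniusComplement H)
    (hc : IsComplement' N H) : (N : Set G) = frobeniusKernel H := by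
  refine Set.eq_of_subset_of_ncard_le (fun x hx => ?_) ?_
  · by_cases h1 : x = 1
    · exact Or.inl h1
    refine Or.inr fun g hg => h1 ?_
    rw [mem_conj_smul] at hg
    have := (disjoint_def.mp hc.disjoint) (Normal.conj_mem' inferInstance x hx g) hg
    exact inv_mul_mul_eq_one_iff.mp this
  · rw [ncard_frobeniusKernel hH, hc.index_eq_card, ← Nat.card_coe_set_eq]; rfl

/-! ### fixed-point-free action -/

theorem inv_of_fpf_involution [Finite G] {K : Subgroup G} {s : G}
    (hs : s ∈ normalizer (K : Set G)) (hs2 : s * s = 1) (hf : K ⊓ centralizer {s} = ⊥) :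
    (∀ k ∈ K, s * k * s⁻¹ = k⁻¹) ∧ IsMulCommutative K := by
  let φ : MulAut K := K.normalizerMonoidHom ⟨s, hs⟩
  have h1 : MonoidHom.FixedPointFree φ := fun k hk => by
    have : (k : G) ∈ K ⊓ centralizer {s} := ⟨k.2, (normalizerMonoidHom_fixed_iff ⟨s, hs⟩ k).mp hk⟩
    rw [hf, mem_bot] at this
    exact Subtype.ext this
  have h2 : Function.Involutive φ := fun k => by
    have : φ * φ = 1 := by
      rw [← map_mul, ← K.normalizerMonoidHom.map_one]; congr 1; exact Subtype.ext hs2
    change (φ * φ) k = k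
    rw [this]; rfl
  refine ⟨fun k hk => ?_, ⟨⟨fun a b => (h1.commute_all_of_involutive h2 a b).eq⟩⟩⟩
  exact congrArg Subtype.val (congrFun (h1.coe_eq_inv_of_involutive h2) ⟨k, hk⟩)

theorem fpf_unique_involution [Finite G] {A K : Subgroup G} (hAK : A ≤ normalizer (K : Set G))
    (hK : K ≠ ⊥) (hf : ∀ a ∈ A, a ≠ 1 → K ⊓ centralizer {a} = ⊥) {s t : G} (hs : s ∈ A)
    (ht : t ∈ A) (hs1 : s ≠ 1) (ht1 : t ≠ 1) (hs2 : s * s = 1) (ht2 : t * t = 1) : t = s := by
  have h1 := (inv_of_fpf_involution (hAK hs) hs2 (hf s hs hs1)).1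
  have h2 := (inv_of_fpf_involution (hAK ht) ht2 (hf t ht ht1)).1
  by_contra hne
  have h3 : s⁻¹ * t ≠ 1 := fun e => hne (inv_mul_eq_one.mp e).symm
  apply hK
  rw [← hf _ (A.mul_mem (A.inv_mem hs) ht) h3, left_eq_inf]
  intro k hk
  rw [mem_centralizer_singleton_iff]
  have e : s * k * s⁻¹ = t * k * t⁻¹ := by rw [h1 k hk, h2 k hk]
  calc k * (s⁻¹ * t) = s⁻¹ * (s * k * s⁻¹) * t := by group
    _ = s⁻¹ * t * k := by rw [e]; group

theorem fpf_mono {A K A' K' : Subgroup G} (hf : ∀ a ∈ A, a ≠ 1 → K ⊓ centralizer {a} = ⊥)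
    (hA : A' ≤ A) (hK : K' ≤ K) : ∀ a ∈ A', a ≠ 1 → K' ⊓ centralizer {a} = ⊥ := fun a ha h1 =>
  eq_bot_iff.mpr (hf a (hA ha) h1 ▸ inf_le_inf_right _ hK)

theorem fpf_inf_centralizer_eq_bot {A K : Subgroup G}
    (hf : ∀ a ∈ A, a ≠ 1 → K ⊓ centralizer {a} = ⊥) (hA : A ≠ ⊥) :
    K ⊓ centralizer (A : Set G) = ⊥ := by
  obtain ⟨⟨a, ha⟩, ha1⟩ := ne_bot_iff_exists_ne_one.mp hA
  exact eq_bot_iff.mpr (hf a ha (fun e => ha1 (Subtype.ext e)) ▸
    inf_le_inf_left _ (centralizer_le_centralizer_singleton ha))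

/-- an element of prime order which fixes no point acts fixed-point-freely -/
theorem fpf_zpowers_of_prime {K : Subgroup G} {r : G} (hr : (orderOf r).Prime)
    (h : K ⊓ centralizer {r} = ⊥) : ∀ a ∈ zpowers r, a ≠ 1 → K ⊓ centralizer {a} = ⊥ := by
  intro a ha ha1
  have : zpowers a = zpowers r := by
    rcases eq_bot_or_eq_of_card_prime hr (Nat.card_zpowers r) (zpowers_le.mpr ha) with e | e
    · exact absurd (zpowers_eq_bot.mp e) ha1
    · exact e
  rw [← centralizer_zpowers, this, centralizer_zpowers, h]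

/-- A solvable group acting coprimely normalizes a nontrivial abelian prime power subgroup. -/
theorem exists_invariant_abelian [Finite G] {A V : Subgroup G} (hA : A ≤ normalizer (V : Set G))
    (hc : (Nat.card A).Coprime (Nat.card V)) (hs : Group.IsSolvable A ∨ Group.IsSolvable V)
    (hV : V ≠ ⊥) : ∃ (W : Subgroup G) (p : ℕ), p.Prime ∧ IsPGroup p W ∧ W ≤ V ∧ W ≠ ⊥ ∧
      IsMulCommutative W ∧ A ≤ normalizer (W : Set G) := by
  obtain ⟨p, hp, hd⟩ := exists_prime_dvd_card hV
  have := Fact.mk hp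
  obtain ⟨P, hP, hAP⟩ := exists_invariant_isSylowIn hA hc hs p
  refine ⟨P ⊓ centralizer (P : Set G), p, hp, hP.2.1.to_inf_left, inf_le_left.trans hP.1,
    inf_centralizer_ne_bot_of_isPGroup hP.2.1 hP.2.1 le_normalizer (hP.ne_bot hd), ?_,
    le_normalizer_inf hAP (le_normalizer_centralizer hAP)⟩
  exact isMulCommutative_iff_mem.mpr fun x hx y hy => hy.2 x hx.1

/-- A group acting fixed-point-freely contains no Frobenius group. -/
theorem eq_bot_of_fpf_of_frobenius [Finite G] {A V K R : Subgroup G}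
    (hAV : A ≤ normalizer (V : Set G)) (hf : ∀ a ∈ A, a ≠ 1 → V ⊓ centralizer {a} = ⊥)
    (hK : K ≤ A) (hR : R ≤ A) (hRK : R ≤ normalizer (K : Set G))
    (hfK : ∀ r ∈ R, r ≠ 1 → K ⊓ centralizer {r} = ⊥) (hK1 : K ≠ ⊥) (hR1 : R ≠ ⊥) : V = ⊥ := by
  by_contra hV
  obtain ⟨⟨r, hr⟩, hr1⟩ := ne_bot_iff_exists_ne_one.mp hR1
  have hr1' : r ≠ 1 := fun e => hr1 (Subtype.ext e)
  have hz : zpowers r ≤ R := zpowers_le.mpr hr
  obtain ⟨K', q, hq, hK'q, hK'K, hK'1, hK'a, hrK'⟩ := exists_invariant_abelian (hz.trans hRK)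
    (coprime_card_of_le (coprime_of_fpf hRK hfK) hz le_rfl) (Or.inl (isSolvable_zpowers r)) hK1
  have hL : zpowers r ⊔ K' ≤ A := sup_le (hz.trans hR) (hK'K.trans hK)
  obtain ⟨W, p, hp, hWp, hWV, hW1, hWa, hLW⟩ := exists_invariant_abelian (hL.trans hAV)
    (coprime_card_of_le (coprime_of_fpf hAV hf) hL le_rfl)
    (Or.inl (isSolvable_sup hrK' (isSolvable_zpowers r) (isSolvable_of_comm' hK'a))) hV
  refine hW1 (eq_bot_of_frobenius_action hWa hrK' (fpf_mono hfK hz hK'K) (le_sup_right.trans hLW)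
    (le_sup_left.trans hLW) (coprime_card_of_le (coprime_of_fpf hAV hf) (hK'K.trans hK) hWV)
    (fpf_inf_centralizer_eq_bot (fpf_mono hf (hK'K.trans hK) hWV) hK'1)
    (fpf_inf_centralizer_eq_bot (fpf_mono hf (hz.trans hR) hWV) (by simpa using hr1')))

/-- In a group acting fixed-point-freely, an element of prime order normalizing a subgroup of
prime order centralizes it. -/
theorem le_centralizer_of_fpf_of_prime [Finite G] {A V K : Subgroup G}
    (hAV : A ≤ normalizer (V : Set G)) (hV : V ≠ ⊥)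
    (hf : ∀ a ∈ A, a ≠ 1 → V ⊓ centralizer {a} = ⊥) (hK : K ≤ A) (hKp : (Nat.card K).Prime)
    {r : G} (hr : r ∈ A) (hrp : (orderOf r).Prime) (hrK : r ∈ normalizer (K : Set G)) :
    K ≤ centralizer {r} := by
  rcases eq_bot_or_eq_of_card_prime hKp rfl (inf_le_left : K ⊓ centralizer {r} ≤ K) with e | e
  · refine absurd (eq_bot_of_fpf_of_frobenius hAV hf hK (zpowers_le.mpr hr) (zpowers_le.mpr hrK)
      (fpf_zpowers_of_prime hrp e) ?_ ?_) hV
    · rintro rfl; simp at hKp; exact Nat.not_prime_one hKp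
    · rw [Ne, zpowers_eq_bot]; rintro rfl; rw [orderOf_one] at hrp; exact Nat.not_prime_one hrp
  · exact inf_eq_left.mp e

theorem characteristic_of_isCyclic [IsCyclic G] (X : Subgroup G) : X.Characteristic := by
  refine characteristic_iff_le_comap.mpr fun φ x hx => ?_
  obtain ⟨m, hm⟩ := MonoidHom.map_cyclic φ.toMonoidHom
  rw [mem_comap, hm]
  exact X.zpow_mem hx m

theorem normalizer_le_normalizer_of_isCyclic {C X : Subgroup G} (hC : IsCyclic C)
    (hX : X ≤ C) : normalizer (C : Set G) ≤ normalizer (X : Set G) := by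
  have := characteristic_of_isCyclic (X.subgroupOf C)
  have h := normalizer_le_normalizer_map_characteristic C (X.subgroupOf C)
  rwa [subgroupOf_map_subtype, inf_eq_left.mpr hX] at h

/-- In a group acting fixed-point-freely, an element of prime order normalizing a cyclic subgroup
of coprime order centralizes it. -/
theorem le_centralizer_of_fpf_of_isCyclic [Finite G] {A V C : Subgroup G}
    (hAV : A ≤ normalizer (V : Set G)) (hV : V ≠ ⊥)
    (hf : ∀ a ∈ A, a ≠ 1 → V ⊓ centralizer {a} = ⊥) (hC : C ≤ A) (hCc : IsCyclic C)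
    {r : G} (hr : r ∈ A) (hrp : (orderOf r).Prime) (hrC : r ∈ normalizer (C : Set G))
    (hc : (orderOf r).Coprime (Nat.card C)) : C ≤ centralizer {r} := by
  rw [le_centralizer_singleton_iff, ← zpowers_le]
  refine le_centralizer_of_prime_order inferInstance (zpowers_le.mpr hrC)
    (by rwa [Nat.card_zpowers]) fun v hv hvp => ?_
  rw [centralizer_zpowers]
  exact le_centralizer_of_fpf_of_prime hAV hV hf ((zpowers_le.mpr hv).trans hC)
    (by rwa [Nat.card_zpowers]) hr hrp
    (normalizer_le_normalizer_of_isCyclic hCc (zpowers_le.mpr hv) hrC) (mem_zpowers v)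

end Cfsg.Agent.Core
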