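import Cfsg.Agent.Core.Frobenius
import Cfsg.Agent.Inv.Basic

/-!
# Core library: `p`-groups with a unique subgroup of order `p`; Frobenius complements
-/

set_option autoImplicit false

namespace Cfsg.Agent.Core

open Subgroup
open scoped Pointwise commutatorElement

universe u v

variable {G : Type u} [Group G] {G' : Type v} [Group G']

theorem pow_conj_of_conj_eq_zpow {a x : G} {k : ℤ} (h : x * a * x⁻¹ = a ^ k) (i : ℕ) :
    x ^ i * a * (x ^ i)⁻¹ = a ^ (k ^ i) := by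
  induction i with
  | zero => simp
  | succ i ih =>
    calc x ^ (i + 1) * a * (x ^ (i + 1))⁻¹ = x * (x ^ i * a * (x ^ i)⁻¹) * x⁻¹ := by group
      _ = a ^ (k ^ (i + 1)) := by rw [ih, ← conj_zpow, h, ← zpow_mul, pow_succ']

theorem mul_pow_of_conj_eq_zpow {a x : G} {k : ℤ} (h : x * a * x⁻¹ = a ^ k) (j : ℤ) (i : ℕ) :
    (a ^ j * x) ^ i = a ^ (j * ∑ t ∈ Finset.range i, k ^ t) * x ^ i := by
  induction i with
  | zero => simp
  | succ i ih =>
    rw [pow_succ', ih, geom_sum_succ]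
    calc a ^ j * x * (a ^ (j * ∑ t ∈ Finset.range i, k ^ t) * x ^ i)
        = a ^ j * (x * a ^ (j * ∑ t ∈ Finset.range i, k ^ t) * x⁻¹) * x ^ (i + 1) := by group
      _ = _ := by
        rw [← conj_zpow, h, ← zpow_mul, ← zpow_add]; congr 2; ring

theorem mem_zpowers_zpow_of_isPGroup {p : ℕ} [hp : Fact p.Prime] [Finite G] (hG : IsPGroup p G)
    (y : G) {u : ℤ} (hu : ¬ (p : ℤ) ∣ u) : y ∈ zpowers (y ^ u) := by
  rw [mem_zpowers_zpow_iff]
  obtain ⟨n, hn⟩ := (IsPGroup.iff_orderOf.mp hG) y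
  rw [hn, ← Int.isCoprime_iff_gcd_eq_one]
  push_cast
  exact ((Nat.prime_iff_prime_int.mp hp.out).coprime_iff_not_dvd.mpr hu).symm.pow_right

theorem eq_one_of_zpow_eq_one_of_isPGroup {p : ℕ} [Fact p.Prime] [Finite G] (hG : IsPGroup p G)
    {y : G} {u : ℤ} (hu : ¬ (p : ℤ) ∣ u) (h : y ^ u = 1) : y = 1 := by
  have := mem_zpowers_zpow_of_isPGroup hG y hu
  rwa [h, zpowers_one_eq_bot, mem_bot] at this

theorem eq_of_mem_zpowers_of_sq_eq_one {x y : G} (hy : y ^ 2 = 1) (h : x ∈ zpowers y)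
    (hx : x ≠ 1) : x = y := by
  obtain ⟨k, rfl⟩ := mem_zpowers_iff.mp h
  have hy' : y ^ (2 : ℤ) = 1 := by exact_mod_cast hy
  rcases Int.even_or_odd' k with ⟨j, rfl | rfl⟩
  · exact absurd (by rw [zpow_mul, hy', one_zpow]) hx
  · rw [zpow_add_one, zpow_mul, hy', one_zpow, one_mul]

private theorem unique_key {p : ℕ} [hp : Fact p.Prime] [Finite G] (hG : IsPGroup p G)
    (hu : ∀ x y : G, x ^ p = 1 → y ^ p = 1 → y ≠ 1 → x ∈ zpowers y) {a x : G} (ha : a ≠ 1)
    (hc : centralizer {a} ≤ zpowers a) (hn : x * a * x⁻¹ ∈ zpowers a) (hx : x ∉ zpowers a)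
    (hxp : x ^ p ∈ zpowers a) : p = 2 ∧ x * a * x⁻¹ = a⁻¹ := by
  obtain ⟨k, hk⟩ := mem_zpowers_iff.mp hn
  obtain ⟨m, hm⟩ := mem_zpowers_iff.mp hxp
  have hpa : p ∣ orderOf a := by
    rw [← Nat.card_zpowers]
    exact dvd_card_of_isPGroup_of_ne_bot (hG.to_subgroup _) (by simpa using ha)
  have hall : ∀ y : G, y ^ p = 1 → y ∈ zpowers a := by
    intro y hy
    obtain ⟨z, hz, hzp⟩ := exists_prime_orderOf_mem (H := zpowers a) hp.out
      (by rwa [Nat.card_zpowers])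
    refine zpowers_le.mpr hz (hu y z hy (hzp ▸ pow_orderOf_eq_one z) ?_)
    rintro rfl
    rw [orderOf_one] at hzp
    exact hp.out.one_lt.ne hzp
  have hno : ∀ j : ℤ, (a ^ j * x) ^ p ≠ 1 := fun j e => hx (by
    simpa using (zpowers a).mul_mem ((zpowers a).inv_mem (zpow_mem_zpowers a j)) (hall _ e))
  have h1 : a ^ (k ^ p) = a := by
    rw [← pow_conj_of_conj_eq_zpow hk.symm, ← hm]; group
  have h2 : (p : ℤ) ∣ k - 1 := by
    have e1 : (orderOf a : ℤ) ∣ k ^ p - 1 := by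
      rw [orderOf_dvd_iff_zpow_eq_one, zpow_sub, h1]; simp
    have e2 : (p : ℤ) ∣ k ^ p - 1 := (Int.natCast_dvd_natCast.mpr hpa).trans e1
    rw [← ZMod.intCast_zmod_eq_zero_iff_dvd] at e2 ⊢
    push_cast at e2 ⊢
    rwa [ZMod.pow_card] at e2
  have h3 : (p : ℤ) ∣ m := by
    by_contra h
    have := mem_zpowers_zpow_of_isPGroup hG a h
    rw [hm] at this
    apply hx (hc _)
    rw [mem_centralizer_singleton_comm]
    refine (zpowers_le.mpr ?_ : zpowers (x ^ p) ≤ centralizer {x}) this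
    rw [mem_centralizer_singleton_iff]
    exact (Commute.pow_self x p).eq
  obtain ⟨m', rfl⟩ := h3
  have h4 : ∀ u : ℤ, ∑ t ∈ Finset.range p, k ^ t = p * u → (p : ℤ) ∣ u := by
    intro u hsum
    by_contra h
    have e := mem_zpowers_zpow_of_isPGroup hG (a ^ (p : ℤ)) h
    obtain ⟨j, hj⟩ := mem_zpowers_iff.mp ((zpowers _).zpow_mem e (-m'))
    apply hno j
    rw [mul_pow_of_conj_eq_zpow hk.symm, hsum, ← hm, mul_comm j, zpow_mul, zpow_mul, zpow_mul, hj,
      ← zpow_add]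
    simp
  obtain ⟨b, hb⟩ := h2
  have hkb : k = 1 + p * b := by rw [← hb]; ring
  rcases hp.out.eq_two_or_odd' with rfl | hodd
  · refine ⟨rfl, ?_⟩
    have e1 : (2 : ℤ) ∣ 1 + b := by
      have := h4 (1 + b) (by rw [hkb]; simp [Finset.sum_range_succ]; ring)
      simpa using this
    have e2 : ¬ ((2 : ℕ) : ℤ) ∣ b := by push_cast; omega
    have e3 : (a ^ (k + 1)) ^ 2 = 1 := by
      refine eq_one_of_zpow_eq_one_of_isPGroup hG e2 ?_
      rw [← zpow_natCast, ← zpow_mul, ← zpow_mul]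
      have : (k + 1) * (((2 : ℕ) : ℤ) * b) = k ^ 2 - 1 := by rw [← hb]; ring
      rw [this, zpow_sub, h1]; simp
    have e4 : (x ^ 2) ^ 2 = 1 := by
      refine eq_one_of_zpow_eq_one_of_isPGroup hG e2 ?_
      rw [← zpow_natCast (x ^ 2), ← zpow_mul, ← hb, zpow_sub]
      have : (x ^ 2) ^ k = x ^ 2 := by
        conv_lhs => rw [← hm, ← zpow_mul, mul_comm, zpow_mul, hk, conj_zpow, hm]
        group
      rw [this]; simp
    have e5 : x ^ 2 ≠ 1 := by simpa using hno 0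
    by_contra hne
    have e6 : a ^ (k + 1) ≠ 1 := fun e => hne (by
      rw [zpow_add_one, hk] at e; exact eq_inv_of_mul_eq_one_left e)
    have e7 : x ^ 2 = a ^ (k + 1) := eq_of_mem_zpowers_of_sq_eq_one e3 (hu _ _ e4 e3 e6) e5
    apply hno 1
    rw [mul_pow_of_conj_eq_zpow hk.symm, e7]
    simp only [Finset.sum_range_succ, Finset.range_zero, Finset.sum_empty, pow_zero, zero_add,
      pow_one, one_mul, add_comm 1 k]
    rw [← pow_two, e3]
  · exfalso
    obtain ⟨c, hc⟩ := odd_sq_dvd_geom_sum₂_sub (1 : ℤ) b hodd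
    simp only [one_pow, mul_one, ← hkb] at hc
    have := h4 (1 + p * c) (by rw [eq_add_of_sub_eq hc]; ring)
    rw [dvd_add_left (dvd_mul_right _ _)] at this
    exact hp.out.one_lt.ne' (by exact_mod_cast Int.eq_one_of_dvd_one (by positivity) this)

theorem exists_pow_not_mem_pow_mem {p : ℕ} (hG : IsPGroup p G) {A : Subgroup G} {g : G}
    (hg : g ∉ A) : ∃ i : ℕ, g ^ p ^ i ∉ A ∧ (g ^ p ^ i) ^ p ∈ A := by
  classical
  obtain ⟨n, hn⟩ := hG g
  have hex : ∃ n, g ^ p ^ n ∈ A := ⟨n, hn ▸ A.one_mem⟩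
  have h0 : Nat.find hex ≠ 0 := fun e => hg (by simpa [e] using Nat.find_spec hex)
  obtain ⟨i, hi⟩ := Nat.exists_eq_succ_of_ne_zero h0
  refine ⟨i, Nat.find_min hex (by omega), ?_⟩
  have := Nat.find_spec hex
  rwa [hi, pow_succ, pow_mul] at this

theorem isCyclic_of_comm_of_unique {p : ℕ} [hp : Fact p.Prime] [Finite G] (hG : IsPGroup p G)
    (hu : ∀ x y : G, x ^ p = 1 → y ^ p = 1 → y ≠ 1 → x ∈ zpowers y) {A : Subgroup G}
    (hA : IsMulCommutative A) : IsCyclic A := by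
  by_contra h
  obtain ⟨q, x, y, hq, -, -, hx, hy, hy1, hxy⟩ := exists_pp_of_not_isCyclic hA h
  have : q = p := by
    obtain ⟨n, hn⟩ := (IsPGroup.iff_orderOf.mp hG) y
    rw [orderOf_eq_prime_of_pow_eq_one hq hy hy1] at hn
    exact (Nat.prime_dvd_prime_iff_eq hq hp.out).mp (hq.dvd_of_dvd_pow (dvd_of_eq hn))
  subst this
  exact hxy (hu x y hx hy hy1)

theorem isCyclic_or_quaternion_of_unique {p : ℕ} [hp : Fact p.Prime] [Finite G] (hG : IsPGroup p G)
    (hu : ∀ x y : G, x ^ p = 1 → y ^ p = 1 → y ≠ 1 → x ∈ zpowers y) :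
    IsCyclic G ∨ (p = 2 ∧ ∃ n : ℕ, Nonempty (G ≃* QuaternionGroup (2 ^ (n + 1)))) := by
  have := hG.isNilpotent
  obtain ⟨A, -, ⟨hAn, hAa⟩, hmax⟩ := exists_maximal_ge
    (P := fun A : Subgroup G => A.Normal ∧ IsMulCommutative A) (H := ⊥)
    ⟨inferInstance, inferInstance⟩
  have hC := centralizer_eq_of_maximal_abelian_normal A hAa fun M h1 h2 h3 => hmax M ⟨h1, h2⟩ h3
  obtain ⟨a, rfl⟩ := (Subgroup.isCyclic_iff_exists_zpowers_eq_top A).mp
    (isCyclic_of_comm_of_unique hG hu hAa)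
  rw [centralizer_zpowers] at hC
  by_cases htop : zpowers a = ⊤
  · exact Or.inl (_root_.isCyclic_iff_exists_zpowers_eq_top.mpr ⟨a, htop⟩)
  right
  have ha : a ≠ 1 := by
    rintro rfl
    apply htop
    rw [← hC, eq_top_iff]
    intro g _
    simp [mem_centralizer_singleton_iff]
  have key : ∀ x, x ∉ zpowers a → x ^ p ∈ zpowers a → p = 2 ∧ x * a * x⁻¹ = a⁻¹ :=
    fun x h1 h2 => unique_key hG hu ha hC.le (hAn.conj_mem a (mem_zpowers a) x) h1 h2
  obtain ⟨g, hg⟩ : ∃ g, g ∉ zpowers a := by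
    by_contra h; push Not at h; exact htop ((eq_top_iff' _).mpr h)
  obtain ⟨i, hx, hxp⟩ := exists_pow_not_mem_pow_mem hG hg
  generalize g ^ p ^ i = x at hx hxp
  obtain ⟨rfl, hxa⟩ := key x hx hxp
  refine ⟨rfl, ?_⟩
  have ha2 : a ^ 2 ≠ 1 := fun e => hx (hC.le (by
    rw [mem_centralizer_singleton_iff, ← mul_inv_eq_iff_eq_mul, hxa]
    exact inv_eq_of_mul_eq_one_left (by rw [← pow_two, e])))
  obtain ⟨n, hn⟩ := (IsPGroup.iff_orderOf.mp hG) a
  obtain ⟨n, rfl⟩ : ∃ m, n = m + 2 := by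
    rcases n with _ | _ | n
    · exact absurd (orderOf_eq_one_iff.mp hn) ha
    · exact absurd (hn ▸ pow_orderOf_eq_one a) (by simpa using ha2)
    · exact ⟨n, rfl⟩
  have hsq : ∀ w : G, w ^ 2 ∈ zpowers a := by
    intro w
    by_contra hw
    obtain ⟨i, h1, h2⟩ := exists_pow_not_mem_pow_mem hG hw
    have e : (w ^ 2) ^ 2 ^ i = (w ^ 2 ^ i) ^ 2 := by rw [← pow_mul, ← pow_mul, mul_comm]
    rw [e] at h1 h2
    generalize w ^ 2 ^ i = v at h1 h2
    have h3 := (key _ h1 h2).2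
    obtain ⟨l, hl⟩ := mem_zpowers_iff.mp (hAn.conj_mem a (mem_zpowers a) v)
    rw [pow_conj_of_conj_eq_zpow hl.symm] at h3
    have h4 : (orderOf a : ℤ) ∣ l ^ 2 + 1 := by
      rw [orderOf_dvd_iff_zpow_eq_one, zpow_add_one, h3]; simp
    rw [hn] at h4
    have h5 : (4 : ℤ) ∣ l ^ 2 + 1 := Dvd.dvd.trans ⟨2 ^ n, by push_cast; ring⟩ h4
    rcases Int.even_or_odd' l with ⟨j, rfl | rfl⟩
    · have : (2 * j) ^ 2 + 1 = 4 * j ^ 2 + 1 := by ring
      omega
    · have : (2 * j + 1) ^ 2 + 1 = 4 * (j ^ 2 + j) + 2 := by ring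
      omega
  have hgen : closure ({a, x} : Set G) = ⊤ := by
    rw [eq_top_iff]
    intro w _
    have hA : zpowers a ≤ closure ({a, x} : Set G) := zpowers_le.mpr (Inv.left_mem_closure_pair a x)
    by_cases hw : w ∈ zpowers a
    · exact hA hw
    have h3 := (key w hw (hsq w)).2
    have : x⁻¹ * w ∈ zpowers a := hC.le (by
      rw [mem_centralizer_singleton_iff]
      calc x⁻¹ * w * a = x⁻¹ * (w * a * w⁻¹) * w := by group
        _ = a * (x⁻¹ * w) := by rw [h3, ← hxa]; group)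
    simpa using mul_mem (Inv.right_mem_closure_pair a x) (hA this)
  have hz : orderOf (a ^ 2 ^ (n + 1)) = 2 := by
    rw [orderOf_pow_of_dvd (by positivity) (by rw [hn]; exact pow_dvd_pow 2 (by omega)), hn,
      pow_succ 2 (n + 1), Nat.mul_div_cancel_left _ (by positivity)]
  have hx2 : x * x = a ^ 2 ^ (n + 1) := by
    obtain ⟨m, hm⟩ := mem_zpowers_iff.mp hxp
    have e1 : (x ^ 2) ^ 2 = 1 := by
      have : x * x ^ 2 * x⁻¹ = (x ^ 2)⁻¹ := by rw [← hm, Inv.conj_zpow_inv hxa, zpow_neg]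
      rw [pow_two (x ^ 2)]
      nth_rewrite 1 [show x ^ 2 = x * x ^ 2 * x⁻¹ by group]
      rw [this]; simp
    have e3 : (a ^ 2 ^ (n + 1)) ^ 2 = 1 := by
      have := pow_orderOf_eq_one (a ^ 2 ^ (n + 1)); rwa [hz] at this
    have e2 : x ^ 2 ≠ 1 := fun e => hx (zpowers_le.mpr (pow_mem (mem_zpowers a) _)
      (hu x _ e e3 (Inv.ne_one_of_ord2 hz)))
    rw [← pow_two]
    exact eq_of_mem_zpowers_of_sq_eq_one e3 (hu _ _ e1 e3 (Inv.ne_one_of_ord2 hz)) e2
  obtain ⟨e⟩ := Inv.quaternion_equiv (n := 2 ^ (n + 1)) (by rw [hn]; ring) hx2 hxa hx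
  exact ⟨n, ⟨(topEquiv.symm.trans (MulEquiv.subgroupCongr hgen.symm)).trans e⟩⟩

theorem mem_zpowers_of_unique {p : ℕ} (hp : p.Prime)
    (h : ∀ H K : Subgroup G, Nat.card H = p → Nat.card K = p → H = K) (x y : G) (hx : x ^ p = 1)
    (hy : y ^ p = 1) (hy1 : y ≠ 1) : x ∈ zpowers y := by
  by_cases hx1 : x = 1
  · rw [hx1]; exact one_mem _
  rw [← h (zpowers x) (zpowers y)
    (by rw [Nat.card_zpowers, orderOf_eq_prime_of_pow_eq_one hp hx hx1])
    (by rw [Nat.card_zpowers, orderOf_eq_prime_of_pow_eq_one hp hy hy1])]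
  exact mem_zpowers x

theorem mem_of_pow_card_eq_one_of_isCyclic [Finite G] {C K : Subgroup G} (hC : IsCyclic C)
    (hK : K ≤ C) {x : G} (hx : x ∈ C) (h : x ^ Nat.card K = 1) : x ∈ K := by
  let : CommGroup C := IsCyclic.commGroup
  have e : K.subgroupOf C = (powMonoidHom (Nat.card K) : C →* C).ker := by
    refine eq_of_le_of_card_ge (fun y hy => ?_) ?_
    · rw [MonoidHom.mem_ker, powMonoidHom_apply]
      exact Subtype.ext (orderOf_dvd_iff_pow_eq_one.mp (orderOf_dvd_natCard K hy))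
    · rw [IsCyclic.card_powMonoidHom_ker, card_subgroupOf_of_le hK]
      exact Nat.gcd_le_right _ Nat.card_pos
  have : (⟨x, hx⟩ : C) ∈ K.subgroupOf C := by
    rw [e, MonoidHom.mem_ker, powMonoidHom_apply]; exact Subtype.ext h
  exact this

theorem le_of_card_dvd_of_isCyclic [Finite G] {C H K : Subgroup G} (hC : IsCyclic C) (hH : H ≤ C)
    (hK : K ≤ C) (h : Nat.card H ∣ Nat.card K) : H ≤ K := fun _ hx =>
  mem_of_pow_card_eq_one_of_isCyclic hC hK (hH hx)
    (orderOf_dvd_iff_pow_eq_one.mp ((orderOf_dvd_natCard H hx).trans h))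

theorem eq_of_card_eq_of_isCyclic [Finite G] {C H K : Subgroup G} (hC : IsCyclic C) (hH : H ≤ C)
    (hK : K ≤ C) (h : Nat.card H = Nat.card K) : H = K :=
  le_antisymm (le_of_card_dvd_of_isCyclic hC hH hK h.dvd)
    (le_of_card_dvd_of_isCyclic hC hK hH h.symm.dvd)

theorem unique_of_forall_comm_isCyclic {p : ℕ} [hp : Fact p.Prime] [Finite G] (hG : IsPGroup p G)
    (h : ∀ A : Subgroup G, IsMulCommutative A → IsCyclic A) (x y : G) (hx : x ^ p = 1)
    (hy : y ^ p = 1) (hy1 : y ≠ 1) : x ∈ zpowers y := by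
  have : Nontrivial G := ⟨⟨y, 1, hy1⟩⟩
  have hZ : center G ≠ ⊥ := (nontrivial_iff_ne_bot _).mp hG.center_nontrivial
  obtain ⟨z, hz, hzp⟩ := exists_prime_orderOf_mem hp.out
    (dvd_card_of_isPGroup_of_ne_bot (hG.to_subgroup _) hZ)
  have key : ∀ H : Subgroup G, Nat.card H = p → H = zpowers z := fun H hH =>
    eq_of_card_eq_of_isCyclic (h (zpowers z ⊔ H) (isMulCommutative_sup inferInstance
      (by have := isCyclic_of_prime_card hH; infer_instance)
      ((zpowers_le.mpr hz).trans (center_le_centralizer _)))) le_sup_right le_sup_left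
      (by rw [hH, Nat.card_zpowers, hzp])
  exact mem_zpowers_of_unique hp.out (fun H K h1 h2 => by rw [key H h1, key K h2]) x y hx hy hy1

theorem isCyclic_or_quaternion_of_forall_comm_isCyclic {p : ℕ} [Fact p.Prime] [Finite G]
    (hG : IsPGroup p G) (h : ∀ A : Subgroup G, IsMulCommutative A → IsCyclic A) :
    IsCyclic G ∨ (p = 2 ∧ ∃ n : ℕ, Nonempty (G ≃* QuaternionGroup (2 ^ (n + 1)))) :=
  isCyclic_or_quaternion_of_unique hG (unique_of_forall_comm_isCyclic hG h)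

/-- `p`-subgroups of a group acting fixed-point-freely are cyclic or generalized quaternion. -/
theorem isCyclic_or_quaternion_of_fpf [Finite G] {A V P : Subgroup G}
    (hAV : A ≤ normalizer (V : Set G)) (hV : V ≠ ⊥)
    (hf : ∀ a ∈ A, a ≠ 1 → V ⊓ centralizer {a} = ⊥) {p : ℕ} [Fact p.Prime] (hP : IsPGroup p P)
    (hPA : P ≤ A) :
    IsCyclic P ∨ (p = 2 ∧ ∃ n : ℕ, Nonempty (P ≃* QuaternionGroup (2 ^ (n + 1)))) := by
  refine isCyclic_or_quaternion_of_forall_comm_isCyclic hP fun B hB => ?_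
  have h1 : B.map P.subtype ≤ A := (map_subtype_le B).trans hPA
  have := isCyclic_of_fpf_of_comm (isMulCommutative_map' hB P.subtype) (h1.trans hAV) hV
    (fpf_mono hf h1 le_rfl)
  exact (B.equivMapOfInjective P.subtype P.subtype_injective).isCyclic.mpr this

theorem isCyclic_of_fpf_of_odd [Finite G] {A V P : Subgroup G}
    (hAV : A ≤ normalizer (V : Set G)) (hV : V ≠ ⊥)
    (hf : ∀ a ∈ A, a ≠ 1 → V ⊓ centralizer {a} = ⊥) {p : ℕ} [Fact p.Prime] (hp : p ≠ 2)
    (hP : IsPGroup p P) (hPA : P ≤ A) : IsCyclic P :=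
  (isCyclic_or_quaternion_of_fpf hAV hV hf hP hPA).resolve_right fun h => hp h.1

theorem isZGroup_of_fpf_of_odd [Finite G] {A V : Subgroup G}
    (hAV : A ≤ normalizer (V : Set G)) (hV : V ≠ ⊥)
    (hf : ∀ a ∈ A, a ≠ 1 → V ⊓ centralizer {a} = ⊥) (hodd : ¬ 2 ∣ Nat.card A) : IsZGroup A := by
  refine ⟨fun p hp P => ?_⟩
  have := Fact.mk hp
  by_cases h2 : p = 2
  · subst h2
    have : (P : Subgroup A) = ⊥ := by
      by_contra h
      exact hodd ((dvd_card_of_isPGroup_of_ne_bot P.isPGroup' h).trans (card_subgroup_dvd_card _))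
    rw [this]; infer_instance
  · have := isCyclic_of_fpf_of_odd hAV hV hf h2 (P.isPGroup'.map A.subtype) (map_subtype_le _)
    exact ((P : Subgroup A).equivMapOfInjective A.subtype A.subtype_injective).isCyclic.mpr this

private theorem fpf_pq [Finite G] {A V : Subgroup G}
    (hAV : A ≤ normalizer (V : Set G)) (hV : V ≠ ⊥)
    (hf : ∀ a ∈ A, a ≠ 1 → V ⊓ centralizer {a} = ⊥) {p q : ℕ} (hp : p.Prime) (hq : q.Prime)
    (hpq : p < q) (h : Nat.card A = p * q) : IsCyclic A := by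
  obtain ⟨x, hx, hxp⟩ := exists_prime_orderOf_mem (H := A) hp (h ▸ dvd_mul_right p q)
  obtain ⟨y, hy, hyq⟩ := exists_prime_orderOf_mem (H := A) hq (h ▸ dvd_mul_left q p)
  have hyA : zpowers y ≤ A := zpowers_le.mpr hy
  have hn : ((zpowers y).subgroupOf A).Normal := by
    apply normal_of_index_eq_minFac_card
    have h1 := card_mul_relIndex hyA
    rw [Nat.card_zpowers, hyq, h, mul_comm p] at h1
    rw [← relIndex, Nat.eq_of_mul_eq_mul_left hq.pos h1, h]
    refine le_antisymm ?_ (Nat.minFac_le_of_dvd hp.two_le (dvd_mul_right p q))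
    have h2 := Nat.minFac_prime (n := p * q) (by nlinarith [hp.two_le, hq.two_le])
    rcases (Nat.Prime.dvd_mul h2).mp (Nat.minFac_dvd (p * q)) with h3 | h3
    · exact ((Nat.prime_dvd_prime_iff_eq h2 hp).mp h3).ge
    · rw [(Nat.prime_dvd_prime_iff_eq h2 hq).mp h3]; exact hpq.le
  have h1 := le_centralizer_of_fpf_of_prime hAV hV hf hyA (by rw [Nat.card_zpowers, hyq]; exact hq)
    hx (hxp ▸ hp) (le_normalizer_of_normal_subgroupOf hyA hx) (mem_zpowers y)
  rw [mem_centralizer_singleton_iff] at h1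
  have h2 : orderOf (x * y) = p * q := by
    rw [(Commute.symm h1).orderOf_mul_eq_mul_orderOf_of_coprime, hxp, hyq]
    rw [hxp, hyq]; exact (Nat.coprime_primes hp hq).mpr hpq.ne
  refine isCyclic_of_orderOf_eq_card (⟨x * y, A.mul_mem hx hy⟩ : A) ?_
  rw [orderOf_mk, h2, h]

/-- A group of order `pq` acting fixed-point-freely is cyclic. -/
theorem isCyclic_of_fpf_of_card_eq_mul [Finite G] {A V : Subgroup G}
    (hAV : A ≤ normalizer (V : Set G)) (hV : V ≠ ⊥)
    (hf : ∀ a ∈ A, a ≠ 1 → V ⊓ centralizer {a} = ⊥) {p q : ℕ} (hp : p.Prime) (hq : q.Prime)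
    (h : Nat.card A = p * q) : IsCyclic A := by
  rcases lt_trichotomy p q with h1 | rfl | h1
  · exact fpf_pq hAV hV hf hp hq h1 h
  · have := Fact.mk hp
    exact isCyclic_of_fpf_of_comm
      (IsPGroup.isMulCommutative_of_card_eq_prime_sq (p := p) (by rw [h, pow_two])) hAV hV hf
  · exact fpf_pq hAV hV hf hq hp h1 (by rw [h, mul_comm])

/-- In a `Z`-group acting fixed-point-freely there is a central element of prime order. -/
theorem inf_centralizer_ne_bot_of_fpf [Finite G] {A V : Subgroup G}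
    (hAV : A ≤ normalizer (V : Set G)) (hV : V ≠ ⊥)
    (hf : ∀ a ∈ A, a ≠ 1 → V ⊓ centralizer {a} = ⊥) (hA : A ≠ ⊥) :
    A ⊓ centralizer (A : Set G) ≠ ⊥ := by
  by_cases h2 : 2 ∣ Nat.card A
  · obtain ⟨s, hs, hs2⟩ := exists_prime_orderOf_mem Nat.prime_two h2
    refine ne_bot_iff_exists_ne_one.mpr ⟨⟨s, hs, fun a ha => ?_⟩,
      fun e => Inv.ne_one_of_ord2 hs2 (congrArg Subtype.val e)⟩
    have h3 : orderOf (a * s * a⁻¹) = 2 := by rw [Inv.orderOf_conj', hs2]
    rw [← mul_inv_eq_iff_eq_mul]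
    exact fpf_unique_involution hAV hV hf hs (A.mul_mem (A.mul_mem ha hs) (A.inv_mem ha))
      (Inv.ne_one_of_ord2 hs2) (Inv.ne_one_of_ord2 h3) (Inv.sq_of_ord2 hs2) (Inv.sq_of_ord2 h3)
  have hZ := isZGroup_of_fpf_of_odd hAV hV hf h2
  have : Nontrivial A := (nontrivial_iff_ne_bot A).mpr hA
  have hD : IsCyclic ↥⁅A, A⁆ := by
    rw [← map_subtype_commutator]
    exact ((_root_.commutator A).equivMapOfInjective A.subtype A.subtype_injective).isCyclic.mp
      (IsZGroup.isCyclic_commutator A)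
  have hDA : ⁅A, A⁆ ≤ A := commutator_le_of_le_normalizer le_normalizer
  have hsub : ⁅A, A⁆.subgroupOf A = _root_.commutator A := by
    rw [← map_subtype_commutator, map_subtype_subgroupOf]
  have hcop : (Nat.card ↥⁅A, A⁆).Coprime (⁅A, A⁆.relIndex A) := by
    rw [relIndex, ← card_subgroupOf_of_le hDA, hsub]
    exact IsZGroup.coprime_commutator_index A
  have hn : A ≤ normalizer ((⁅A, A⁆ : Subgroup G) : Set G) :=
    le_normalizer_commutator le_normalizer le_normalizer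
  obtain ⟨C, hCA, hsup, hinf, hcard⟩ := exists_complement_in hDA hn hcop
  have hC1 : C ≠ ⊥ := by
    rintro rfl
    rw [bot_sup_eq] at hsup
    apply (IsZGroup.commutator_lt A).ne
    rw [← hsub, hsup, subgroupOf_self]
  have hCa : IsMulCommutative C := by
    rw [← le_centralizer_iff_isMulCommutative, ← commutator_eq_bot_iff_le_centralizer, eq_bot_iff,
      ← hinf]
    exact le_inf (commutator_le_of_le_normalizer le_normalizer) (commutator_mono hCA hCA)
  obtain ⟨p, hp, hd⟩ := exists_prime_dvd_card hC1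
  obtain ⟨x, hx, hxp⟩ := exists_prime_orderOf_mem hp hd
  have h3 := le_centralizer_of_fpf_of_isCyclic hAV hV hf hDA hD (hCA hx) (hxp ▸ hp) (hn (hCA hx))
    (by rw [hxp]; exact (hcard ▸ hcop.symm).coprime_dvd_left hd)
  refine ne_bot_iff_exists_ne_one.mpr ⟨⟨x, hCA hx, ?_⟩, fun e => ?_⟩
  · refine le_centralizer_singleton_iff.mp ?_
    rw [← hsup]
    exact sup_le (le_centralizer_singleton_iff.mpr (le_centralizer C hx)) h3
  · have : x = 1 := congrArg Subtype.val e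
    rw [this, orderOf_one] at hxp
    exact hp.one_lt.ne hxp

end Cfsg.Agent.Core
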