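import Cfsg.Agent.Core.Hall

/-!
# Core library: coprime action (internal form: `A ≤ normalizer K` inside a group `G`)
-/

set_option autoImplicit false

namespace Cfsg.Agent.Core

open Subgroup
open scoped Pointwise commutatorElement

universe u v

variable {G : Type u} [Group G] {G' : Type v} [Group G']

theorem centralizer_anti {H K : Subgroup G} (h : H ≤ K) :
    centralizer (K : Set G) ≤ centralizer (H : Set G) := centralizer_le h

theorem mem_centralizer_of_mem_normalizer_of_disjoint {A K : Subgroup G}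
    (hA : A ≤ normalizer (K : Set G)) (hd : A ⊓ K = ⊥) {c : G} (hc : c ∈ K)
    (hn : c ∈ normalizer (A : Set G)) : c ∈ centralizer (A : Set G) := by
  rw [mem_centralizer_iff]
  intro a ha
  have h1 : a * (c * a⁻¹ * c⁻¹) ∈ A := mul_mem ha (conj_mem_of_mem_normalizer hn (inv_mem ha))
  have h2 : (a * c * a⁻¹) * c⁻¹ ∈ K := mul_mem (conj_mem_of_mem_normalizer (hA ha) hc) (inv_mem hc)
  have h3 : a * c * a⁻¹ * c⁻¹ ∈ A ⊓ K := ⟨by simpa [mul_assoc] using h1, h2⟩
  rw [hd, mem_bot] at h3
  calc a * c = (a * c * a⁻¹ * c⁻¹) * (c * a) := by group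
    _ = c * a := by rw [h3, one_mul]

theorem inf_normalizer_eq_inf_centralizer {A K : Subgroup G} (hA : A ≤ normalizer (K : Set G))
    (hd : A ⊓ K = ⊥) : K ⊓ normalizer (A : Set G) = K ⊓ centralizer (A : Set G) :=
  le_antisymm (fun _ h => ⟨h.1, mem_centralizer_of_mem_normalizer_of_disjoint hA hd h.1 h.2⟩)
    (inf_le_inf_left _ (centralizer_le_normalizer _))

/-- A coset `k N` fixed by `A` contains an element centralizing `A`. -/
theorem exists_centralizer_of_fixed_coset [Finite G] {A N : Subgroup G}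
    (hA : A ≤ normalizer (N : Set G)) (hc : (Nat.card A).Coprime (Nat.card N))
    (hs : Group.IsSolvable A ∨ Group.IsSolvable N) {k : G}
    (hk : ∀ a ∈ A, k⁻¹ * a * k * a⁻¹ ∈ N) : ∃ n ∈ N, k * n ∈ centralizer (A : Set G) := by
  have h1 : MulAut.conj k⁻¹ • A ≤ A ⊔ N := by
    rw [conj_smul_le_iff]
    intro a ha
    have : k⁻¹ * a * k⁻¹⁻¹ = (k⁻¹ * a * k * a⁻¹) * a := by group
    rw [this]
    exact mul_mem (mem_sup_right (hk a ha)) (mem_sup_left ha)
  obtain ⟨n, hn, h⟩ := exists_le_conj_of_le_sup hA h1 hc (by rwa [card_smul])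
    (hs.imp_right Or.inl)
  refine ⟨n, hn, ?_⟩
  rw [mem_centralizer_iff]
  intro a ha
  have h2 : n⁻¹ * (k⁻¹ * a * k) * n ∈ A := by
    have := h (conj_mem_conj_smul.mpr ha)
    rwa [mem_conj_smul, inv_inv] at this
  have h3 : n⁻¹ * (k⁻¹ * a * k) * n * a⁻¹ ∈ A ⊓ N := by
    refine ⟨A.mul_mem h2 (A.inv_mem ha), ?_⟩
    have : n⁻¹ * (k⁻¹ * a * k) * n * a⁻¹ = n⁻¹ * (k⁻¹ * a * k * a⁻¹) * (a * n * a⁻¹) := by group
    rw [this]
    exact N.mul_mem (N.mul_mem (N.inv_mem hn) (hk a ha)) (conj_mem_of_mem_normalizer (hA ha) hn)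
  rw [inf_eq_bot_of_coprime' hc, mem_bot] at h3
  calc a * (k * n) = (k * n) * (n⁻¹ * (k⁻¹ * a * k) * n * a⁻¹) * a := by group
    _ = k * n * a := by rw [h3, mul_one]

theorem solvable_or_of_le {A K A' K' : Subgroup G} (hs : Group.IsSolvable A ∨ Group.IsSolvable K)
    (h1 : A' ≤ A) (h2 : K' ≤ K) : Group.IsSolvable A' ∨ Group.IsSolvable K' :=
  hs.imp (fun h => isSolvable_of_le h h1) (fun h => isSolvable_of_le h h2)

/-- If `[K, A] ≤ N ≤ K` with `A` acting coprimely on `N`, then `K = C_K(A) N`. -/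
theorem exists_mul_of_commutator_le [Finite G] {A K N : Subgroup G}
    (hA : A ≤ normalizer (N : Set G)) (hc : (Nat.card A).Coprime (Nat.card N))
    (hs : Group.IsSolvable A ∨ Group.IsSolvable N) (hNK : N ≤ K) (h : ⁅K, A⁆ ≤ N) :
    ∀ k ∈ K, ∃ c ∈ K ⊓ centralizer (A : Set G), ∃ n ∈ N, k = c * n := by
  intro k hk
  obtain ⟨n, hn, h⟩ := exists_centralizer_of_fixed_coset hA hc hs (k := k) (fun a ha => by
    have := h (commutator_mem_commutator (inv_mem hk) ha)
    rwa [commutatorElement_def, inv_inv] at this)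
  exact ⟨k * n, ⟨K.mul_mem hk (hNK hn), h⟩, n⁻¹, inv_mem hn, by simp⟩

theorem le_centralizer_sup_of_commutator_le [Finite G] {A K N : Subgroup G}
    (hA : A ≤ normalizer (N : Set G)) (hc : (Nat.card A).Coprime (Nat.card N))
    (hs : Group.IsSolvable A ∨ Group.IsSolvable N) (hNK : N ≤ K) (h : ⁅K, A⁆ ≤ N) :
    (K ⊓ centralizer (A : Set G)) ⊔ N = K := by
  refine le_antisymm (sup_le inf_le_left hNK) fun k hk => ?_
  obtain ⟨c, hc, n, hn, rfl⟩ := exists_mul_of_commutator_le hA hc hs hNK h k hk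
  exact mul_mem (mem_sup_left hc) (mem_sup_right hn)

/-- Fixed points in a quotient: for `N` normal in `G` and `A` acting coprimely on `N`,
`C_{G/N}(A) = C_G(A) N / N`. -/
theorem centralizer_map_mk' [Finite G] {A N : Subgroup G} [N.Normal]
    (hc : (Nat.card A).Coprime (Nat.card N)) (hs : Group.IsSolvable A ∨ Group.IsSolvable N) :
    centralizer ((A.map (QuotientGroup.mk' N) : Subgroup (G ⧸ N)) : Set (G ⧸ N)) =
      (centralizer (A : Set G)).map (QuotientGroup.mk' N) := by
  refine le_antisymm ?_ (map_centralizer_le_centralizer_image _ _)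
  intro x hx
  obtain ⟨k, rfl⟩ := QuotientGroup.mk'_surjective N x
  obtain ⟨n, hn, h⟩ := exists_centralizer_of_fixed_coset le_normalizer_of_normal hc hs (k := k)
    (fun a ha => by
      have := hx _ ⟨a, ha, rfl⟩
      rw [← QuotientGroup.eq_one_iff]
      change QuotientGroup.mk' N _ = 1
      simp only [map_mul, map_inv]
      rw [mul_assoc _ _ (QuotientGroup.mk' N k), this]
      group)
  refine ⟨k * n, h, ?_⟩
  rw [map_mul, QuotientGroup.mk'_apply N n, (QuotientGroup.eq_one_iff n).mpr hn, mul_one]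

/-- Fixed points on a section: `C_{K/N}(A) = C_K(A) N / N` for `N ≤ K`. -/
theorem map_mk'_inf_centralizer [Finite G] {A K N : Subgroup G} [N.Normal] (hNK : N ≤ K)
    (hc : (Nat.card A).Coprime (Nat.card N)) (hs : Group.IsSolvable A ∨ Group.IsSolvable N) :
    K.map (QuotientGroup.mk' N) ⊓
        centralizer ((A.map (QuotientGroup.mk' N) : Subgroup (G ⧸ N)) : Set (G ⧸ N)) =
      (K ⊓ centralizer (A : Set G)).map (QuotientGroup.mk' N) := by
  rw [centralizer_map_mk' hc hs]
  refine le_antisymm ?_ (map_inf_le _ _ _)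
  rintro _ ⟨⟨k, hk, rfl⟩, c, hc, e⟩
  refine ⟨c, ⟨?_, hc⟩, e⟩
  have : c⁻¹ * k ∈ N := QuotientGroup.eq.mp e
  have := K.mul_mem hk (K.inv_mem (hNK this))
  simpa using this

/-- The normalizer of a subgroup `A` of order prime to `|N|` passes to the quotient. -/
theorem normalizer_map_mk' [Finite G] {A N : Subgroup G} [N.Normal]
    (hc : (Nat.card A).Coprime (Nat.card N)) (hs : Group.IsSolvable A ∨ Group.IsSolvable N) :
    normalizer ((A.map (QuotientGroup.mk' N) : Subgroup (G ⧸ N)) : Set (G ⧸ N)) =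
      (normalizer (A : Set G)).map (QuotientGroup.mk' N) := by
  refine le_antisymm ?_ (le_normalizer_map _)
  intro x hx
  obtain ⟨k, rfl⟩ := QuotientGroup.mk'_surjective N x
  rw [← conj_smul_eq_iff, ← map_conj_smul, map_mk'_eq_map_mk'_iff] at hx
  obtain ⟨n, hn, h⟩ := exists_conj_eq_of_sup_eq le_normalizer_of_normal hx.symm hc
    (by rwa [card_smul]) (hs.imp_right Or.inl)
  refine ⟨n⁻¹ * k, ?_, ?_⟩
  · rw [SetLike.mem_coe, ← conj_smul_eq_iff, ← conj_smul_conj_smul, ← h, conj_inv_smul_conj_smul]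
  · rw [map_mul, QuotientGroup.mk'_apply N n⁻¹, (QuotientGroup.eq_one_iff _).mpr (inv_mem hn),
      one_mul]

/-! ### `[K, A]` and `C_K(A)` -/

theorem commutator_le_of_le_normalizer {A K : Subgroup G} (hA : A ≤ normalizer (K : Set G)) :
    ⁅K, A⁆ ≤ K := le_normalizer_iff_commutator_le_left.mp hA

theorem exists_centralizer_mul_commutator [Finite G] {A K : Subgroup G}
    (hA : A ≤ normalizer (K : Set G)) (hc : (Nat.card A).Coprime (Nat.card K))
    (hs : Group.IsSolvable A ∨ Group.IsSolvable K) :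
    ∀ k ∈ K, ∃ c ∈ K ⊓ centralizer (A : Set G), ∃ n ∈ ⁅K, A⁆, k = c * n :=
  exists_mul_of_commutator_le (normalizer_commutator_ge_right K A)
    (coprime_card_of_le hc le_rfl (commutator_le_of_le_normalizer hA))
    (solvable_or_of_le hs le_rfl (commutator_le_of_le_normalizer hA))
    (commutator_le_of_le_normalizer hA) le_rfl

theorem commutator_sup_centralizer [Finite G] {A K : Subgroup G}
    (hA : A ≤ normalizer (K : Set G)) (hc : (Nat.card A).Coprime (Nat.card K))
    (hs : Group.IsSolvable A ∨ Group.IsSolvable K) :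
    ⁅K, A⁆ ⊔ (K ⊓ centralizer (A : Set G)) = K := by
  refine le_antisymm (sup_le (commutator_le_of_le_normalizer hA) inf_le_left) fun k hk => ?_
  obtain ⟨c, hc, n, hn, rfl⟩ := exists_centralizer_mul_commutator hA hc hs k hk
  exact mul_mem (mem_sup_right hc) (mem_sup_left hn)

/-- If every element of `K` is `x c` with `x ∈ X` and `c` centralizing `A`, then
`[K, A] ≤ [X, A]`. -/
theorem commutator_le_of_mul_centralizer {A K X : Subgroup G}
    (h : ∀ k ∈ K, ∃ x ∈ X, ∃ c ∈ centralizer (A : Set G), k = x * c) : ⁅K, A⁆ ≤ ⁅X, A⁆ := by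
  rw [commutator_le]
  intro k hk a ha
  obtain ⟨x, hx, c, hc, rfl⟩ := h k hk
  have : ⁅c, a⁆ = 1 := commutatorElement_eq_one_iff_mul_comm.mpr (hc a ha).symm
  rw [commutatorElement_mul_left_eq_conj_mul, this, mul_one, mul_inv_cancel, one_mul]
  exact commutator_mem_commutator hx ha

theorem commutator_commutator_eq [Finite G] {A K : Subgroup G}
    (hA : A ≤ normalizer (K : Set G)) (hc : (Nat.card A).Coprime (Nat.card K))
    (hs : Group.IsSolvable A ∨ Group.IsSolvable K) : ⁅⁅K, A⁆, A⁆ = ⁅K, A⁆ := by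
  refine le_antisymm (commutator_mono (commutator_le_of_le_normalizer hA) le_rfl) ?_
  apply commutator_le_of_mul_centralizer
  intro k hk
  obtain ⟨c, hc, n, hn, e⟩ := exists_centralizer_mul_commutator hA hc hs k⁻¹ (inv_mem hk)
  exact ⟨n⁻¹, inv_mem hn, c⁻¹, inv_mem hc.2, by rw [← mul_inv_rev, ← e, inv_inv]⟩

theorem commutator_eq_bot_of_commutator_commutator_eq_bot [Finite G] {A K : Subgroup G}
    (hA : A ≤ normalizer (K : Set G)) (hc : (Nat.card A).Coprime (Nat.card K))
    (hs : Group.IsSolvable A ∨ Group.IsSolvable K) (h : ⁅⁅K, A⁆, A⁆ = ⊥) : ⁅K, A⁆ = ⊥ := by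
  rwa [commutator_commutator_eq hA hc hs] at h

theorem le_centralizer_of_commutator_le_centralizer [Finite G] {A K : Subgroup G}
    (hA : A ≤ normalizer (K : Set G)) (hc : (Nat.card A).Coprime (Nat.card K))
    (hs : Group.IsSolvable A ∨ Group.IsSolvable K) (h : ⁅K, A⁆ ≤ centralizer (A : Set G)) :
    K ≤ centralizer (A : Set G) :=
  commutator_eq_bot_iff_le_centralizer.mp
    (commutator_eq_bot_of_commutator_commutator_eq_bot hA hc hs
      (commutator_eq_bot_iff_le_centralizer.mpr h))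

/-- Stability: if `A` centralizes `N` and `K/N` (`[K, A] ≤ N`) and acts coprimely on `N`, then
`A` centralizes `K`. -/
theorem le_centralizer_of_commutator_le_of_le_centralizer [Finite G] {A K N : Subgroup G}
    (hc : (Nat.card A).Coprime (Nat.card N)) (h : ⁅K, A⁆ ≤ N)
    (hN : N ≤ centralizer (A : Set G)) : K ≤ centralizer (A : Set G) := by
  intro k hk
  rw [mem_centralizer_iff]
  intro a ha
  have h1 : ∀ m : ℕ, ⁅k, a ^ m⁆ = ⁅k, a⁆ ^ m := by
    intro m
    induction m with
    | zero => simp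
    | succ m ih =>
      have h2 : a ^ m * ⁅k, a⁆ = ⁅k, a⁆ * a ^ m :=
        hN (h (commutator_mem_commutator hk ha)) _ (pow_mem ha m)
      rw [pow_succ, commutatorElement_mul_right_eq_mul_conj, ih, mul_assoc _ (a ^ m), h2, pow_succ]
      group
  have h3 : ⁅k, a⁆ ^ Nat.card A = 1 := by
    have : a ^ Nat.card A = 1 := congrArg Subtype.val (pow_card_eq_one' (x := (⟨a, ha⟩ : A)))
    rw [← h1, this, commutatorElement_one_right]
  have h4 : ⁅k, a⁆ ^ Nat.card N = 1 :=
    congrArg Subtype.val (pow_card_eq_one' (x := (⟨_, h (commutator_mem_commutator hk ha)⟩ : N)))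
  have h5 : orderOf ⁅k, a⁆ = 1 := Nat.eq_one_of_dvd_coprimes hc (orderOf_dvd_of_pow_eq_one h3)
    (orderOf_dvd_of_pow_eq_one h4)
  exact (commutatorElement_eq_one_iff_mul_comm.mp (orderOf_eq_one_iff.mp h5)).symm

theorem exists_centralizer_mul_centralizer [Finite G] {A X Y : Subgroup G}
    (hX : A ≤ normalizer (X : Set G)) (hY : A ≤ normalizer (Y : Set G))
    (hc : (Nat.card A).Coprime (Nat.card ↥(X ⊓ Y)))
    (hs : Group.IsSolvable A ∨ Group.IsSolvable ↥(X ⊓ Y)) {x y : G} (hx : x ∈ X) (hy : y ∈ Y)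
    (h : x * y ∈ centralizer (A : Set G)) :
    ∃ x' ∈ X ⊓ centralizer (A : Set G), ∃ y' ∈ Y ⊓ centralizer (A : Set G), x * y = x' * y' := by
  obtain ⟨d, hd, h1⟩ := exists_centralizer_of_fixed_coset (le_normalizer_inf hX hY) hc hs (k := x)
    (fun a ha => by
      constructor
      · have := X.mul_mem (X.inv_mem hx) (conj_mem_of_mem_normalizer (hX ha) hx)
        simpa [mul_assoc] using this
      · have e := h a ha
        have e2 : x⁻¹ * a * x * a⁻¹ = y * (a * y⁻¹ * a⁻¹) := by
          calc x⁻¹ * a * x * a⁻¹ = x⁻¹ * (a * (x * y)) * y⁻¹ * a⁻¹ := by group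
            _ = x⁻¹ * (x * y * a) * y⁻¹ * a⁻¹ := by rw [e]
            _ = _ := by group
        rw [e2]
        exact Y.mul_mem hy (conj_mem_of_mem_normalizer (hY ha) (Y.inv_mem hy)))
  refine ⟨x * d, ⟨X.mul_mem hx hd.1, h1⟩, d⁻¹ * y, ⟨Y.mul_mem (Y.inv_mem hd.2) hy, ?_⟩, by group⟩
  have : d⁻¹ * y = (x * d)⁻¹ * (x * y) := by group
  rw [this]
  exact (centralizer (A : Set G)).mul_mem ((centralizer (A : Set G)).inv_mem h1) h

/-! ### Glauberman's lemma -/

/-- Glauberman's lemma, existence of a fixed point in an `A`-invariant `K`-orbit. -/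
theorem exists_fixed_of_coprime [Finite G] {X : Type*} [MulAction G X] {A K : Subgroup G}
    (hA : A ≤ normalizer (K : Set G)) (hc : (Nat.card A).Coprime (Nat.card K))
    (hs : Group.IsSolvable A ∨ Group.IsSolvable K) (x : X)
    (hx : ∀ a ∈ A, ∃ k ∈ K, a • x = k • x) : ∃ k ∈ K, ∀ a ∈ A, a • k • x = k • x := by
  set S := (A ⊔ K) ⊓ MulAction.stabilizer G x with hS
  have hSK : S ≤ normalizer (K : Set G) := inf_le_left.trans (sup_le hA le_normalizer)
  have h1 : S ⊔ K = A ⊔ K := by
    refine le_antisymm (sup_le inf_le_left le_sup_right) (sup_le ?_ le_sup_right)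
    intro a ha
    obtain ⟨k, hk, e⟩ := hx a ha
    have : a = k * (k⁻¹ * a) := by simp
    rw [this]
    refine mul_mem (mem_sup_right hk) (mem_sup_left ⟨(A ⊔ K).mul_mem
      (mem_sup_right (inv_mem hk)) (mem_sup_left ha), ?_⟩)
    change (k⁻¹ * a) • x = x
    rw [mul_smul, e, inv_smul_smul]
  have h2 : (S ⊓ K).relIndex S = Nat.card A := by
    rw [inf_relIndex_left, ← relIndex_sup_of_le_normalizer hSK, h1,
      relIndex_sup_of_le_normalizer hA, ← inf_relIndex_left, inf_eq_bot_of_coprime' hc,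
      relIndex_bot_left]
  obtain ⟨B, hBS, h3, -, h4⟩ := exists_complement_in (inf_le_left : S ⊓ K ≤ S)
    (le_normalizer_inf le_normalizer hSK)
    (by rw [h2]; exact coprime_card_of_le hc.symm inf_le_right le_rfl)
  rw [h2] at h4
  have h5 : A ≤ B ⊔ K := by
    refine le_sup_left.trans (h1.ge.trans (sup_le ?_ le_sup_right))
    rw [← h3]
    exact sup_le le_sup_left (inf_le_right.trans le_sup_right)
  obtain ⟨k, hk, h6⟩ := exists_le_conj_of_le_sup (hBS.trans hSK) h5 (by rwa [h4]) hc
    (hs.elim (fun h => Or.inr (Or.inr h)) (fun h => Or.inr (Or.inl h)))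
  refine ⟨k, hk, fun a ha => ?_⟩
  have h7 : (k⁻¹ * a * k) • x = x := (hBS (mem_conj_smul.mp (h6 ha))).2
  rw [mul_smul, mul_smul, inv_smul_eq_iff] at h7
  exact h7

/-- Glauberman's lemma, transitivity of `C_K(A)` on the fixed points in a `K`-orbit. -/
theorem exists_centralizer_smul_eq [Finite G] {X : Type*} [MulAction G X] {A K : Subgroup G}
    (hA : A ≤ normalizer (K : Set G)) (hc : (Nat.card A).Coprime (Nat.card K))
    (hs : Group.IsSolvable A ∨ Group.IsSolvable K) (x : X) {k : G} (hk : k ∈ K)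
    (hx : ∀ a ∈ A, a • x = x) (hy : ∀ a ∈ A, a • k • x = k • x) :
    ∃ c ∈ K ⊓ centralizer (A : Set G), c • x = k • x := by
  have hAS : A ≤ MulAction.stabilizer G x := hx
  obtain ⟨n, hn, h⟩ := exists_centralizer_of_fixed_coset (N := K ⊓ MulAction.stabilizer G x)
    (le_normalizer_inf hA (hAS.trans le_normalizer)) (coprime_card_of_le hc le_rfl inf_le_left)
    (solvable_or_of_le hs le_rfl inf_le_left) (k := k) (fun a ha => by
      constructor
      · have := K.mul_mem (K.inv_mem hk) (conj_mem_of_mem_normalizer (hA ha) hk)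
        simpa [mul_assoc] using this
      · change (k⁻¹ * a * k * a⁻¹) • x = x
        rw [mul_smul, mul_smul, mul_smul, hx _ (inv_mem ha), hy a ha, inv_smul_smul])
  refine ⟨k * n, ⟨K.mul_mem hk hn.1, h⟩, ?_⟩
  rw [mul_smul, show n • x = x from hn.2]

/-- Glauberman's lemma for the conjugation action on subgroups: existence. -/
theorem exists_conj_invariant [Finite G] {A K : Subgroup G}
    (hA : A ≤ normalizer (K : Set G)) (hc : (Nat.card A).Coprime (Nat.card K))
    (hs : Group.IsSolvable A ∨ Group.IsSolvable K) (P : Subgroup G)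
    (hP : ∀ a ∈ A, ∃ k ∈ K, MulAut.conj a • P = MulAut.conj k • P) :
    ∃ k ∈ K, A ≤ normalizer ((MulAut.conj k • P : Subgroup G) : Set G) := by
  let _ : MulAction G (Subgroup G) := MulAction.compHom _ (MulAut.conj : G →* MulAut G)
  obtain ⟨k, hk, h⟩ := exists_fixed_of_coprime hA hc hs P hP
  exact ⟨k, hk, fun a ha => conj_smul_eq_iff.mp (h a ha)⟩

/-- Glauberman's lemma for the conjugation action on subgroups: conjugacy. -/
theorem exists_centralizer_conj_eq [Finite G] {A K : Subgroup G}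
    (hA : A ≤ normalizer (K : Set G)) (hc : (Nat.card A).Coprime (Nat.card K))
    (hs : Group.IsSolvable A ∨ Group.IsSolvable K) {P Q : Subgroup G}
    (hP : A ≤ normalizer (P : Set G)) (hQ : A ≤ normalizer (Q : Set G))
    (h : ∃ k ∈ K, MulAut.conj k • P = Q) :
    ∃ c ∈ K ⊓ centralizer (A : Set G), MulAut.conj c • P = Q := by
  let _ : MulAction G (Subgroup G) := MulAction.compHom _ (MulAut.conj : G →* MulAut G)
  obtain ⟨k, hk, rfl⟩ := h
  exact exists_centralizer_smul_eq hA hc hs P hk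
    (fun a ha => conj_smul_eq_of_mem_normalizer (hP ha))
    (fun a ha => conj_smul_eq_of_mem_normalizer (hQ ha))

/-- Two elements centralizing `A` that are conjugate under `K` are conjugate under `C_K(A)`. -/
theorem exists_centralizer_conj_elem_eq [Finite G] {A K : Subgroup G}
    (hA : A ≤ normalizer (K : Set G)) (hc : (Nat.card A).Coprime (Nat.card K))
    (hs : Group.IsSolvable A ∨ Group.IsSolvable K) {x k : G} (hk : k ∈ K)
    (hx : x ∈ centralizer (A : Set G)) (hy : k * x * k⁻¹ ∈ centralizer (A : Set G)) :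
    ∃ c ∈ K ⊓ centralizer (A : Set G), c * x * c⁻¹ = k * x * k⁻¹ := by
  let _ : MulAction G G := MulAction.compHom _ (MulAut.conj : G →* MulAut G)
  exact exists_centralizer_smul_eq hA hc hs x hk
    (fun a ha => by
      change a * x * a⁻¹ = x
      rw [hx a ha, mul_inv_cancel_right])
    (fun a ha => by
      change a * (k * x * k⁻¹) * a⁻¹ = k * x * k⁻¹
      rw [hy a ha, mul_inv_cancel_right])

/-! ### Invariant Sylow and Hall subgroups -/

theorem exists_invariant_isSylowIn [Finite G] {A K : Subgroup G}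
    (hA : A ≤ normalizer (K : Set G)) (hc : (Nat.card A).Coprime (Nat.card K))
    (hs : Group.IsSolvable A ∨ Group.IsSolvable K) (p : ℕ) [Fact p.Prime] :
    ∃ P, IsSylowIn p P K ∧ A ≤ normalizer (P : Set G) := by
  obtain ⟨P, hP⟩ := exists_isSylowIn p K
  obtain ⟨k, hk, h⟩ := exists_conj_invariant hA hc hs P (fun a ha => by
    obtain ⟨k, hk, e⟩ := hP.exists_conj (hP.conj_of_mem_normalizer (hA ha))
    exact ⟨k, hk, e.symm⟩)
  exact ⟨_, hP.conj_of_mem_normalizer (le_normalizer hk), h⟩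

theorem exists_centralizer_conj_of_isSylowIn [Finite G] {A K : Subgroup G}
    (hA : A ≤ normalizer (K : Set G)) (hc : (Nat.card A).Coprime (Nat.card K))
    (hs : Group.IsSolvable A ∨ Group.IsSolvable K) {p : ℕ} [Fact p.Prime] {P Q : Subgroup G}
    (hP : IsSylowIn p P K) (hQ : IsSylowIn p Q K) (hAP : A ≤ normalizer (P : Set G))
    (hAQ : A ≤ normalizer (Q : Set G)) :
    ∃ c ∈ K ⊓ centralizer (A : Set G), MulAut.conj c • P = Q :=
  exists_centralizer_conj_eq hA hc hs hAP hAQ (hP.exists_conj hQ)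

theorem exists_invariant_isSylowIn_ge [Finite G] {A K : Subgroup G}
    (hA : A ≤ normalizer (K : Set G)) (hc : (Nat.card A).Coprime (Nat.card K))
    (hs : Group.IsSolvable A ∨ Group.IsSolvable K) {p : ℕ} [Fact p.Prime] {U : Subgroup G}
    (hUK : U ≤ K) (hU : IsPGroup p U) (hAU : A ≤ normalizer (U : Set G)) :
    ∃ P, IsSylowIn p P K ∧ A ≤ normalizer (P : Set G) ∧ U ≤ P := by
  obtain ⟨M, hUM, ⟨h1, h2, h3⟩, hmax⟩ := exists_maximal_ge
    (P := fun M : Subgroup G => M ≤ K ∧ IsPGroup p M ∧ A ≤ normalizer (M : Set G)) ⟨hUK, hU, hAU⟩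
  refine ⟨M, isSylowIn_of_isSylowIn_normalizer ?_, h3, hUM⟩
  obtain ⟨P, hP, hAP⟩ := exists_invariant_isSylowIn (K := K ⊓ normalizer (M : Set G))
    (le_normalizer_inf hA (le_normalizer_normalizer h3)) (coprime_card_of_le hc le_rfl inf_le_left)
    (solvable_or_of_le hs le_rfl inf_le_left) p
  have hMP : M ≤ P := hP.le_of_le_normalizer h2 (le_inf h1 le_normalizer)
    (Or.inl (hP.1.trans inf_le_right))
  rwa [hmax P ⟨hP.1.trans inf_le_left, hP.2.1, hAP⟩ hMP] at hP

/-- An invariant Sylow subgroup meets the fixed-point subgroup in a Sylow subgroup. -/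
theorem IsSylowIn.inf_centralizer [Finite G] {A K : Subgroup G}
    (hA : A ≤ normalizer (K : Set G)) (hc : (Nat.card A).Coprime (Nat.card K))
    (hs : Group.IsSolvable A ∨ Group.IsSolvable K) {p : ℕ} [Fact p.Prime] {P : Subgroup G}
    (hP : IsSylowIn p P K) (hAP : A ≤ normalizer (P : Set G)) :
    IsSylowIn p (P ⊓ centralizer (A : Set G)) (K ⊓ centralizer (A : Set G)) := by
  obtain ⟨S, hS⟩ := exists_isSylowIn p (K ⊓ centralizer (A : Set G))
  have hAS : A ≤ normalizer (S : Set G) :=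
    (le_centralizer_iff.mp (hS.1.trans inf_le_right)).trans (centralizer_le_normalizer _)
  obtain ⟨Q, hQ, hAQ, hSQ⟩ := exists_invariant_isSylowIn_ge hA hc hs (hS.1.trans inf_le_left)
    hS.2.1 hAS
  obtain ⟨c, hcm, rfl⟩ := exists_centralizer_conj_of_isSylowIn hA hc hs hQ hP hAQ hAP
  have h1 := hS.conj_of_mem_normalizer (le_normalizer hcm)
  have h2 : MulAut.conj c • S ≤ MulAut.conj c • Q ⊓ centralizer (A : Set G) :=
    le_inf (pointwise_smul_le_pointwise_smul_iff.mpr hSQ) (h1.1.trans inf_le_right)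
  rwa [h1.eq_of_le hP.2.1.to_inf_left (inf_le_inf_right _ hP.1) h2]

theorem exists_invariant_isPiHallOf_ge [Finite G] {A K : Subgroup G}
    (hA : A ≤ normalizer (K : Set G)) (hc : (Nat.card A).Coprime (Nat.card K))
    (hs : Group.IsSolvable K) {π : Set ℕ} {U : Subgroup G} (hUK : U ≤ K)
    (hU : IsPiNum π (Nat.card U)) (hAU : A ≤ normalizer (U : Set G)) :
    ∃ H, IsPiHallOf π H K ∧ A ≤ normalizer (H : Set G) ∧ U ≤ H := by
  set L := A ⊔ K with hL
  set σ : Set ℕ := π ∪ {p | p ∣ Nat.card A} with hσ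
  have hLK : L ≤ normalizer (K : Set G) := sup_le hA le_normalizer
  have : (K.subgroupOf L).Normal := normal_subgroupOf_sup_of_le_normalizer hA
  have hi : IsPiNum σ (K.subgroupOf L).index := by
    change IsPiNum σ (K.relIndex L)
    rw [hL, relIndex_sup_of_le_normalizer hA]
    exact ((isPiNum_primes_dvd _).of_dvd (relIndex_dvd_card K A)).mono Set.subset_union_right
  obtain ⟨H, hH⟩ := exists_isPiHall_of_normal σ (K.subgroupOf L) (isSolvable_subgroupOf hs L) hi
  have hAUL : A ⊔ U ≤ L := sup_le_sup_left hUK A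
  obtain ⟨g, hg⟩ := exists_le_conj_of_isPiHall_of_normal (K.subgroupOf L)
    (isSolvable_subgroupOf hs L) hi hH (U := (A ⊔ U).subgroupOf L) (by
      rw [card_subgroupOf_of_le hAUL]
      exact isPiNum_card_sup hAU ((isPiNum_primes_dvd _).mono Set.subset_union_right)
        (hU.mono Set.subset_union_left))
  have h1 := isPiHallOf_map_subtype.mpr (isPiHall_smul hH (MulAut.conj g))
  have h2 : A ⊔ U ≤ (MulAut.conj g • H).map L.subtype := by
    rw [← map_subgroupOf_eq_of_le hAUL]; exact map_mono hg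
  set H' := (MulAut.conj g • H).map L.subtype
  have h3 := isPiHallOf_iff.mp (isPiHallOf_inf_of_normalizer h1 le_sup_right hLK)
  refine ⟨H' ⊓ K, isPiHallOf_iff.mpr ⟨inf_le_right, fun p hp hd => ?_,
    h3.2.2.mono (Set.compl_subset_compl.mpr Set.subset_union_left)⟩,
    le_normalizer_inf ((le_sup_left.trans h2).trans le_normalizer) hA,
    le_inf (le_sup_right.trans h2) hUK⟩
  refine (h3.2.1 p hp hd).resolve_right fun hpA => ?_
  exact hp.one_lt.ne' (Nat.eq_one_of_dvd_coprimes hc hpA (hd.trans (card_dvd_of_le inf_le_right)))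

theorem exists_invariant_isPiHallOf [Finite G] {A K : Subgroup G}
    (hA : A ≤ normalizer (K : Set G)) (hc : (Nat.card A).Coprime (Nat.card K))
    (hs : Group.IsSolvable K) (π : Set ℕ) :
    ∃ H, IsPiHallOf π H K ∧ A ≤ normalizer (H : Set G) := by
  obtain ⟨H, h1, h2, -⟩ := exists_invariant_isPiHallOf_ge hA hc hs (π := π) bot_le
    (by rw [card_bot]; exact isPiNum_one _) le_normalizer_of_normal
  exact ⟨H, h1, h2⟩

theorem exists_centralizer_conj_of_isPiHallOf [Finite G] {A K : Subgroup G}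
    (hA : A ≤ normalizer (K : Set G)) (hc : (Nat.card A).Coprime (Nat.card K))
    (hs : Group.IsSolvable K) {π : Set ℕ} {P Q : Subgroup G}
    (hP : IsPiHallOf π P K) (hQ : IsPiHallOf π Q K) (hAP : A ≤ normalizer (P : Set G))
    (hAQ : A ≤ normalizer (Q : Set G)) :
    ∃ c ∈ K ⊓ centralizer (A : Set G), MulAut.conj c • P = Q :=
  exists_centralizer_conj_eq hA hc (Or.inr hs) hAP hAQ (exists_conj_eq_of_isPiHallOf hs hP hQ)

/-! ### Nilpotent action and the P × Q lemma -/

theorem not_le_commutator_of_isNilpotent {U P L : Subgroup G} (hL : Group.IsNilpotent L)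
    (hU : U ≤ L) (hP : P ≤ L) (hne : U ≠ ⊥) : ¬ U ≤ ⁅U, P⁆ := by
  intro h
  obtain ⟨n, hn⟩ := (isNilpotent_iff_lowerCentralSeries L).mp hL
  have key : ∀ m, U ≤ L.lowerCentralSeries m := by
    intro m
    induction m with
    | zero => exact hU
    | succ m ih => exact h.trans (commutator_mono ih hP)
  exact hne (eq_bot_iff.mpr (hn ▸ key n))

theorem commutator_lt_of_isNilpotent {U P L : Subgroup G} (hL : Group.IsNilpotent L)
    (hU : U ≤ L) (hP : P ≤ L) (hn : P ≤ normalizer (U : Set G)) (hne : U ≠ ⊥) : ⁅U, P⁆ < U :=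
  lt_of_le_not_ge (commutator_le_of_le_normalizer hn) (not_le_commutator_of_isNilpotent hL hU hP hne)

theorem commutator_lt_of_isPGroup [Finite G] {p : ℕ} [Fact p.Prime] {U P : Subgroup G}
    (hU : IsPGroup p U) (hP : IsPGroup p P) (hn : P ≤ normalizer (U : Set G)) (hne : U ≠ ⊥) :
    ⁅U, P⁆ < U :=
  commutator_lt_of_isNilpotent (hP.to_sup_of_normal_right' hU hn).isNilpotent le_sup_right
    le_sup_left hn hne

/-- A `p`-group normalizing a nontrivial `p`-group has nontrivial fixed points. -/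
theorem inf_centralizer_ne_bot_of_isPGroup [Finite G] {p : ℕ} [Fact p.Prime] {U P : Subgroup G}
    (hU : IsPGroup p U) (hP : IsPGroup p P) (hn : P ≤ normalizer (U : Set G)) (hne : U ≠ ⊥) :
    U ⊓ centralizer (P : Set G) ≠ ⊥ := by
  have := inf_centralizer_ne_bot (hP.to_sup_of_normal_right' hU hn).isNilpotent le_sup_right
    (sup_le hn le_normalizer) hne
  exact fun h => this (eq_bot_iff.mpr (h ▸ inf_le_inf_left _ 
    (centralizer_anti le_sup_left)))

/-- The P × Q lemma in the form: `P U` nilpotent, `Q` acting coprimely on `U`. -/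
theorem pq_lemma_of_isNilpotent [Finite G] {P Q L : Subgroup G} (hL : Group.IsNilpotent L)
    (hP : P ≤ L) (hPQ : P ≤ centralizer (Q : Set G)) (U : Subgroup G) (hU : U ≤ L)
    (hc : (Nat.card Q).Coprime (Nat.card U)) (hPU : P ≤ normalizer (U : Set G))
    (hQU : Q ≤ normalizer (U : Set G))
    (hC : U ⊓ centralizer (P : Set G) ≤ centralizer (Q : Set G)) :
    Q ≤ centralizer (U : Set G) := by
  induction U using WellFoundedLT.induction with | _ U ih => ?_
  by_cases hne : U = ⊥
  · subst hne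
    rw [le_centralizer_iff]; exact bot_le
  have hlt := commutator_lt_of_isNilpotent hL hU hP hPU hne
  have hQP : Q ≤ normalizer (P : Set G) :=
    (le_centralizer_iff.mp hPQ).trans (centralizer_le_normalizer _)
  have h1 := ih _ hlt (hlt.le.trans hU) (coprime_card_of_le hc le_rfl hlt.le)
    (normalizer_commutator_ge_right U P) (le_normalizer_commutator hQU hQP)
    ((inf_le_inf_right _ hlt.le).trans hC)
  have h2 : ⁅⁅U, P⁆, Q⁆ = ⊥ := commutator_eq_bot_iff_le_centralizer.mpr (le_centralizer_iff.mp h1)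
  have h3 : ⁅⁅P, Q⁆, U⁆ = ⊥ := by
    rw [commutator_eq_bot_iff_le_centralizer.mpr hPQ, commutator_bot_left]
  have h4 : ⁅⁅Q, U⁆, P⁆ = ⊥ := commutator_commutator_eq_bot_of_rotate h2 h3
  rw [commutator_comm Q U, commutator_eq_bot_iff_le_centralizer] at h4
  have : Group.IsNilpotent U := isNilpotent_of_le hL hU
  rw [le_centralizer_iff]
  exact le_centralizer_of_commutator_le_centralizer hQU hc (Or.inr inferInstance)
    ((le_inf (commutator_le_of_le_normalizer hQU) h4).trans hC)

/-- Thompson's P × Q lemma. -/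
theorem pq_lemma [Finite G] {p : ℕ} [Fact p.Prime] {P Q U : Subgroup G} (hP : IsPGroup p P)
    (hQ : (Nat.card Q).Coprime p) (hU : IsPGroup p U) (hPQ : P ≤ centralizer (Q : Set G))
    (hPU : P ≤ normalizer (U : Set G)) (hQU : Q ≤ normalizer (U : Set G))
    (hC : U ⊓ centralizer (P : Set G) ≤ centralizer (Q : Set G)) : Q ≤ centralizer (U : Set G) :=
  pq_lemma_of_isNilpotent (hP.to_sup_of_normal_right' hU hPU).isNilpotent le_sup_left hPQ U
    le_sup_right (IsPGroup_coprime_card hU hQ).symm hPU hQU hC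

/-- If `A` acts coprimely on the nilpotent group `K` and centralizes a subgroup `C` of `K` with
`C_K(C) ≤ C`, then `A` centralizes `K`. -/
theorem le_centralizer_of_self_centralizing [Finite G] {A K C : Subgroup G}
    (hK : Group.IsNilpotent K) (hA : A ≤ normalizer (K : Set G))
    (hc : (Nat.card A).Coprime (Nat.card K)) (hCK : C ≤ K) (hCA : C ≤ centralizer (A : Set G))
    (hC : K ⊓ centralizer (C : Set G) ≤ C) : A ≤ centralizer (K : Set G) :=
  pq_lemma_of_isNilpotent hK hCK hCA K le_rfl hc (hCK.trans le_normalizer) hA (hC.trans hCA)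

/-! ### The Frattini quotient -/

theorem eq_of_sup_frattini [Finite G] {H K : Subgroup G} (hH : H ≤ K)
    (h : H ⊔ (frattini K).map K.subtype = K) : H = K := by
  have h1 : H.subgroupOf K ⊔ frattini K = ⊤ := by
    rw [← map_subtype_inj, Subgroup.map_sup, map_subgroupOf_eq_of_le hH, h,
      ← MonoidHom.range_eq_map, range_subtype]
  exact le_antisymm hH (subgroupOf_eq_top.mp (frattini_nongenerating h1))

theorem le_centralizer_of_commutator_le_frattini [Finite G] {A K : Subgroup G}
    (hA : A ≤ normalizer (K : Set G)) (hc : (Nat.card A).Coprime (Nat.card (frattini K)))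
    (h : ⁅K, A⁆ ≤ (frattini K).map K.subtype) : A ≤ centralizer (K : Set G) := by
  have hn : Group.IsNilpotent ((frattini K).map K.subtype) := isNilpotent_map frattini_nilpotent _
  have h1 := le_centralizer_sup_of_commutator_le
    (hA.trans (normalizer_le_normalizer_map_characteristic K (frattini K)))
    (by rwa [card_subtype]) (Or.inr inferInstance) (map_subtype_le _) h
  rw [le_centralizer_iff, ← inf_eq_left]
  exact eq_of_sup_frattini inf_le_left h1

end Cfsg.Agent.Core
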