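import Cfsg.Agent.Core.Systems
import Cfsg.Agent.PLoc.NPC
import Mathlib.GroupTheory.FixedPointFree

/-! Thompson's theorem on fixed-point-free automorphisms of prime order. -/

set_option autoImplicit false

namespace Cfsg.Agent.Core

open Subgroup
open scoped Pointwise commutatorElement

universe u v

variable {G : Type u} [Group G] {G' : Type v} [Group G']

theorem npc_of_isNilpotent [Finite G] {p : ℕ} [hp : Fact p.Prime] {H : Subgroup G}
    (h : Group.IsNilpotent H) : PLoc.NPC p H := by
  obtain ⟨Q, hQ⟩ := exists_isPiHallOf ({p} : Set ℕ)ᶜ (M := H) inferInstance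
  have h1 := isPiHallOf_iff.mp hQ
  rw [compl_compl] at h1
  exact PLoc.npc_of_normal (le_normalizer_of_isPiHallOf_of_isNilpotent h hQ)
    ((isPiNum_compl_singleton_iff hp.out).mp h1.2.1)
    ((isPiNum_singleton_iff hp.out (relIndex_pos _ _).ne').mp h1.2.2)

theorem IsSylowIn.isSylowOf {p : ℕ} {P K : Subgroup G}
    (h : IsSylowIn p P K) : PLoc.IsSylowOf p P K := ⟨h.1, h.2.1, h.2.2⟩

private theorem fpf_aux (n : ℕ) : ∀ (G : Type u) [Group G] [Finite G] (K : Subgroup G) (r : G),
    Nat.card K = n → K ⊔ zpowers r = ⊤ → K.Normal → (orderOf r).Prime →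
      K ⊓ centralizer {r} = ⊥ → Group.IsNilpotent K := by
  induction n using Nat.strong_induction_on with | _ n ih => ?_
  intro G _ _ K r hn hs hK hr h
  have hf := fpf_zpowers_of_prime hr h
  have hc := coprime_of_fpf (le_normalizer_of_normal : zpowers r ≤ _) hf
  have sub : ∀ X : Subgroup G, X < K → r ∈ normalizer (X : Set G) → Group.IsNilpotent X := by
    intro X hX hrX
    have hle : X ≤ X ⊔ zpowers r := le_sup_left
    let r' : ↥(X ⊔ zpowers r) := ⟨r, mem_sup_right (mem_zpowers r)⟩
    refine isNilpotent_of_subgroupOf hle (ih _ (hn ▸ card_lt_of_lt hX) _ (X.subgroupOf _) r'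
      (card_subgroupOf_of_le hle) ?_ ((normal_subgroupOf_iff_le_normalizer hle).mpr
        (sup_le le_normalizer (zpowers_le.mpr hrX))) (by rwa [← orderOf_coe]) ?_)
    · apply map_injective (X ⊔ zpowers r).subtype_injective
      rw [Subgroup.map_sup, map_subgroupOf_eq_of_le hle, MonoidHom.map_zpowers,
        ← MonoidHom.range_eq_map, range_subtype]
      rfl
    · rw [subgroupOf_inf_centralizer_singleton, eq_bot_iff.mpr (h ▸ inf_le_inf_right _ hX.le :
        X ⊓ centralizer {r} ≤ ⊥), bot_subgroupOf]
  have solv : ∀ (X : Subgroup G) [X.Normal], X ≤ K → X ≠ ⊥ → Group.IsSolvable X →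
      Group.IsNilpotent K := by
    intro X _ hXK hX1 hXs
    obtain ⟨N, q, hNX, hN, hq, hNe, hNq⟩ := exists_minNormal_elementaryAbelian_le hX1 hXs
    have := hN.1
    have := Fact.mk hq
    have hNK := hNX.trans hXK
    have hcN : (orderOf r).Coprime (Nat.card N) := by
      rw [← Nat.card_zpowers]; exact coprime_card_of_le hc le_rfl hNK
    have hr' : orderOf (QuotientGroup.mk' N r) = orderOf r := by
      refine ((Nat.dvd_prime hr).mp (orderOf_map_dvd _ r)).resolve_left fun e => ?_
      rw [orderOf_eq_one_iff, QuotientGroup.mk'_apply, QuotientGroup.eq_one_iff] at e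
      exact hr.ne_one (hcN.eq_one_of_dvd (orderOf_dvd_natCard N e))
    have h1 : Group.IsNilpotent (K.map (QuotientGroup.mk' N)) := by
      refine ih _ ?_ _ _ (QuotientGroup.mk' N r) rfl ?_ (map_mk'_normal K N) (hr' ▸ hr) ?_
      · rw [← hn, ← card_map_mk'_mul K N, inf_eq_right.mpr hNK]
        exact lt_mul_of_one_lt_right Nat.card_pos ((one_lt_card_iff_ne_bot N).mpr hN.2.1)
      · rw [← MonoidHom.map_zpowers]; exact map_mk'_sup_eq_top N hs
      · rw [map_mk'_inf_centralizer_singleton hNK hcN, h, Subgroup.map_bot]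
    have h2 : K ≤ centralizer (N : Set G) := by
      refine le_of_forall_isSylowIn_le fun p hp => ?_
      obtain ⟨P, hP, hPr⟩ := exists_invariant_isSylowIn (le_normalizer_of_normal : zpowers r ≤ _)
        hc (Or.inl (isSolvable_zpowers r)) p
      refine ⟨P, hP, ?_⟩
      by_cases hpq : p = q
      · subst hpq
        have h3 := (hP.map (QuotientGroup.mk' N)).le_normalizer_of_isNilpotent h1
        have hNP : N ≤ P := hP.le_of_le_normalizer hNq hNK (Or.inl le_normalizer_of_normal)
        rw [normalizer_map_mk'_of_le hNP, map_mk'_le_map_mk'_iff,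
          sup_eq_left.mpr (hNP.trans le_normalizer)] at h3
        exact (le_fitting (normal_of_sup_eq_top hs h3 hPr) hP.2.1.isNilpotent).trans
          (fitting_le_centralizer_of_isMinNormal hN)
      · refine le_centralizer_of_frobenius_action hNe.1 hPr (fpf_mono hf le_rfl hP.1)
          le_normalizer_of_normal le_normalizer_of_normal
          (IsPGroup.coprime_card_of_ne p q hpq P N hP.2.1 hNq) ?_
        rw [centralizer_zpowers, eq_bot_iff, ← h]
        exact inf_le_inf_right _ ((commutator_le_left _ _).trans hNK)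
    refine Subgroup.isNilpotent_of_ker_le_center ((QuotientGroup.mk' N).subgroupMap K) ?_
    intro x hx
    have hx' : (x : G) ∈ N := by
      have := congrArg Subtype.val (MonoidHom.mem_ker.mp hx)
      exact (QuotientGroup.eq_one_iff _).mp this
    rw [mem_center_iff]
    intro y
    exact Subtype.ext (h2 y.2 x hx').symm
  by_cases h2 : IsPGroup 2 K
  · exact h2.isNilpotent
  obtain ⟨p, hp, hd, hp2⟩ : ∃ p : ℕ, p.Prime ∧ p ∣ Nat.card K ∧ p ≠ 2 := by
    by_contra! hcon
    exact h2 (isPiNum_singleton_card_iff.mp hcon)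
  have := Fact.mk hp
  obtain ⟨P, hP, hPr⟩ := exists_invariant_isSylowIn (le_normalizer_of_normal : zpowers r ≤ _)
    hc (Or.inl (isSolvable_zpowers r)) p
  have hZP := PLoc.ZcOf_le (e := p) P
  have hZr := hPr.trans (PLoc.normalizer_le_normalizer_ZcOf (e := p) P)
  by_cases hZ : K ≤ normalizer (PLoc.ZcOf p P : Set G)
  · have := normal_of_sup_eq_top hs hZ hZr
    exact solv _ (hZP.trans hP.1) (PLoc.ZcOf_ne_bot hP.2.1 (hP.ne_bot hd) dvd_rfl)
      (isSolvable_of_isPGroup (hP.2.1.to_le hZP))
  have h3 := sub (K ⊓ normalizer (PLoc.ZcOf p P : Set G)) (inf_lt_left.mpr hZ)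
    (zpowers_le.mp (le_normalizer_inf le_normalizer_of_normal (le_normalizer_normalizer hZr)))
  have h4 : PLoc.NPC p K := by
    rw [← PLoc.npc_top_subtype_iff]
    refine PLoc.npc_of_ZcOf hp2 (S := P.subgroupOf K)
      (IsSylowIn.isSylowOf (by simpa using hP.subgroupOf le_rfl)) ?_
    rw [(PLoc.charFun_ZcOf dvd_rfl).subgroupOf hP.1, ← subgroupOf_normalizer_eq (hZP.trans hP.1),
      ← inf_subgroupOf_left, PLoc.npc_subgroupOf_iff inf_le_left]
    exact npc_of_isNilpotent h3
  have h5 := PLoc.npc_iff_coprime.mp h4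
  have : (PLoc.pResOf p K).Normal := normal_iff_top_le_normalizer.mpr
    (le_normalizer_of_normal.trans (PLoc.normalizer_le_normalizer_pResOf K))
  by_cases h6 : PLoc.pResOf p K = ⊥
  · exact (PLoc.pResOf_eq_bot_iff.mp h6).isNilpotent
  · have := sub _ (lt_of_le_of_ne (PLoc.pResOf_le K) fun e =>
      hp.coprime_iff_not_dvd.mp h5.symm (e.symm ▸ hd)) (le_normalizer_of_normal (mem_top r))
    exact solv _ (PLoc.pResOf_le K) h6 inferInstance

/-- Thompson's theorem, internal form. -/
theorem isNilpotent_of_fpf_prime [Finite G] {K : Subgroup G} {r : G}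
    (hrK : r ∈ normalizer (K : Set G)) (hr : (orderOf r).Prime) (h : K ⊓ centralizer {r} = ⊥) :
    Group.IsNilpotent K := by
  have hle : K ≤ K ⊔ zpowers r := le_sup_left
  let r' : ↥(K ⊔ zpowers r) := ⟨r, mem_sup_right (mem_zpowers r)⟩
  refine isNilpotent_of_subgroupOf hle (fpf_aux _ _ (K.subgroupOf _) r' rfl ?_
    ((normal_subgroupOf_iff_le_normalizer hle).mpr
      (sup_le le_normalizer (zpowers_le.mpr hrK))) (by rwa [← orderOf_coe]) ?_)
  · apply map_injective (K ⊔ zpowers r).subtype_injective
    rw [Subgroup.map_sup, map_subgroupOf_eq_of_le hle, MonoidHom.map_zpowers,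
      ← MonoidHom.range_eq_map, range_subtype]
    rfl
  · rw [subgroupOf_inf_centralizer_singleton, h, bot_subgroupOf]

/-- A group with a nontrivial fixed-point-free operator group is nilpotent. -/
theorem isNilpotent_of_fpf [Finite G] {A K : Subgroup G} (hA : A ≤ normalizer (K : Set G))
    (hA1 : A ≠ ⊥) (hf : ∀ a ∈ A, a ≠ 1 → K ⊓ centralizer {a} = ⊥) : Group.IsNilpotent K := by
  obtain ⟨p, hp, hd⟩ := exists_prime_dvd_card hA1
  obtain ⟨x, hx, hxp⟩ := exists_prime_orderOf_mem hp hd
  exact isNilpotent_of_fpf_prime (hA hx) (hxp ▸ hp)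
    (hf x hx fun e => hp.ne_one (by rw [← hxp, e, orderOf_one]))

theorem isNilpotent_of_fixedPointFree [Finite G] (φ : G ≃* G)
    (hφ : MonoidHom.FixedPointFree (φ : G →* G)) (hp : (orderOf φ).Prime) :
    Group.IsNilpotent G := by
  let S := G ⋊[MonoidHom.id (MulAut G)] MulAut G
  have : Finite S := Finite.of_equiv _ (SemidirectProduct.equivProd).symm
  have hn : (SemidirectProduct.inl : G →* S).range.Normal := by
    rw [SemidirectProduct.range_inl_eq_ker_rightHom]; infer_instance
  have h := isNilpotent_of_fpf_prime (K := (SemidirectProduct.inl : G →* S).range)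
    (r := SemidirectProduct.inr φ) (le_normalizer_of_normal (mem_top _))
    (by rwa [orderOf_injective _ SemidirectProduct.inr_injective]) (by
      rw [eq_bot_iff]
      rintro _ ⟨⟨g, rfl⟩, hg⟩
      have h1 := mem_centralizer_singleton_iff.mp hg
      have h2 := congrArg SemidirectProduct.left h1
      simp only [SemidirectProduct.mul_left, SemidirectProduct.left_inl, SemidirectProduct.left_inr,
        SemidirectProduct.right_inl, SemidirectProduct.right_inr, map_one, mul_one, one_mul,
        MonoidHom.id_apply] at h2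
      rw [hφ g h2.symm, map_one]
      exact one_mem _)
  exact isNilpotent_of_injective (f := (SemidirectProduct.inl : G →* S).rangeRestrict)
    (MonoidHom.rangeRestrict_injective_iff.mpr SemidirectProduct.inl_injective)

end Cfsg.Agent.Core
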