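import Cfsg.Agent.Core.Frobenius
import Cfsg.Agent.Comp.Basic

/-!
# Core library: subnormal subgroups (Wielandt's join theorem, zipper lemma)
-/

set_option autoImplicit false

namespace Cfsg.Agent.Core

open Subgroup
open scoped Pointwise commutatorElement
open Cfsg.Agent.Comp (SubIn subIn_iff subIn_top)

universe u v

variable {G : Type u} [Group G] {G' : Type v} [Group G']

theorem subIn_eq_or_exists_gt {A H : Subgroup G} (h : SubIn A H) :
    A = H ∨ ∃ X, A < X ∧ X ≤ normalizer (A : Set G) ∧ SubIn X H := by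
  induction h with
  | refl H => exact Or.inl rfl
  | @step K L H h1 h2 h3 ih =>
    rcases h1.eq_or_lt with rfl | h4
    · exact ih
    · exact Or.inr ⟨L, h4, h2, h3⟩

theorem subIn_conj {A H : Subgroup G} (h : SubIn A H) (g : G) :
    SubIn (MulAut.conj g • A) (MulAut.conj g • H) := h.map _

theorem subIn_conj_of_mem_normalizer {A H : Subgroup G} (h : SubIn A H) {g : G}
    (hg : g ∈ normalizer (H : Set G)) : SubIn (MulAut.conj g • A) H := by
  have := subIn_conj h g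
  rwa [conj_smul_eq_of_mem_normalizer hg] at this

theorem le_normalizer_of_forall_conj_le {T X : Subgroup G}
    (h : ∀ t ∈ T, MulAut.conj t • X ≤ X) : T ≤ normalizer (X : Set G) := by
  intro t ht
  rw [← conj_smul_eq_iff]
  exact le_antisymm (h t ht) (le_conj_smul_iff_inv_le.mpr (h _ (T.inv_mem ht)))

/-- Wielandt's join theorem. -/
theorem subIn_sup [Finite G] {A B H : Subgroup G} (hA : SubIn A H) (hB : SubIn B H) :
    SubIn (A ⊔ B) H := by
  induction H using WellFoundedLT.induction generalizing A B with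
  | ind H ihH =>
  induction A using WellFoundedGT.induction with
  | ind A ihA =>
  by_cases hn : H ≤ normalizer (A : Set G)
  · have := hB.sup_normalized hn
    rwa [sup_eq_left.mpr hA.le, sup_comm] at this
  rcases subIn_eq_or_exists_gt hA with rfl | ⟨X, hAX, hXA, hX⟩
  · exact absurd le_normalizer hn
  have h1 := ihA X hAX hX
  rcases h1.le.eq_or_lt with e | hlt
  · have hB' : ¬ B ≤ normalizer (A : Set G) := fun h => hn (e ▸ sup_le hXA h)
    obtain ⟨b, hb, hbA⟩ := SetLike.not_le_iff_exists.mp hB'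
    rcases hA.eq_or_exists with rfl | ⟨N, hNH, hHN, hAN⟩
    · exact absurd le_normalizer hn
    have h2 := (ihH N hNH hAN (subIn_conj_of_mem_normalizer hAN (hHN (hB.le hb)))).trans
      (SubIn.of_normal hNH.le hHN)
    have h3 : A < A ⊔ MulAut.conj b • A := left_lt_sup.mpr fun h =>
      hbA (conj_smul_eq_iff.mp (conj_smul_eq_of_le h))
    have h4 := ihA _ h3 h2
    rwa [show A ⊔ MulAut.conj b • A ⊔ B = A ⊔ B from le_antisymm
      (sup_le (sup_le le_sup_left (conj_smul_le_of_mem le_sup_left (mem_sup_right hb)))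
        le_sup_right) (sup_le_sup_right le_sup_left _)] at h4
  · exact (ihH _ hlt (hA.restrict (hAX.le.trans le_sup_left) h1.le)
      (hB.restrict le_sup_right h1.le)).trans h1

theorem subIn_sSup [Finite G] {S : Set (Subgroup G)} {H : Subgroup G} (h : ∀ A ∈ S, SubIn A H) :
    SubIn (sSup S) H := by
  obtain ⟨J, -, hJ, hm⟩ := exists_maximal_ge (P := fun J => SubIn J H ∧ J ≤ sSup S) (H := ⊥)
    ⟨SubIn.bot H, bot_le⟩
  have : J = sSup S := le_antisymm hJ.2 (sSup_le fun A hA => by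
    rw [← hm (J ⊔ A) ⟨subIn_sup hJ.1 (h A hA), sup_le hJ.2 (le_sSup hA)⟩ le_sup_left]
    exact le_sup_right)
  exact this ▸ hJ.1

theorem isSubnormal_sup [Finite G] {A B : Subgroup G} (hA : A.IsSubnormal) (hB : B.IsSubnormal) :
    (A ⊔ B).IsSubnormal :=
  subIn_top.mp (subIn_sup (subIn_top.mpr hA) (subIn_top.mpr hB))

theorem le_normalizer_sSup {S : Set (Subgroup G)} {H : Subgroup G}
    (h : ∀ U ∈ S, ∀ g ∈ H, MulAut.conj g • U ∈ S) :
    H ≤ normalizer ((sSup S : Subgroup G) : Set G) := by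
  refine le_normalizer_of_forall_conj_le fun t ht => ?_
  rw [conj_smul_le_iff_le_inv]
  exact sSup_le fun U hU => conj_smul_le_iff_le_inv.mp (le_sSup (h U hU t ht))

theorem exists_le_normalizer_sSup [Finite G] {H : Subgroup G} {S S₀ : Set (Subgroup G)}
    (hS : ∀ U ∈ S, U ≤ H) (hconj : ∀ U ∈ S, ∀ g ∈ H, MulAut.conj g • U ∈ S)
    (hJ : SubIn (sSup S₀) H) (h₀ : S₀ ⊂ S) :
    ∃ X ∈ S, X ∉ S₀ ∧ X ≤ normalizer ((sSup S₀ : Subgroup G) : Set G) := by
  induction H using WellFoundedLT.induction generalizing S with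
  | ind H ih =>
  obtain ⟨X, hX, hX₀⟩ := Set.exists_of_ssubset h₀
  rcases hJ.eq_or_exists with e | ⟨N, hNH, hHN, hJN⟩
  · exact ⟨X, hX, hX₀, (hS X hX).trans (e ▸ le_normalizer)⟩
  have h1 : S₀ ⊆ {U ∈ S | U ≤ N} := fun U hU => ⟨h₀.1 hU, (le_sSup hU).trans hJN.le⟩
  have h2 : ∀ U ∈ {U ∈ S | U ≤ N}, ∀ g ∈ H, MulAut.conj g • U ∈ {U ∈ S | U ≤ N} :=
    fun U hU g hg => ⟨hconj U hU.1 g hg, conj_smul_eq_of_mem_normalizer (hHN hg) ▸
      pointwise_smul_le_pointwise_smul_iff.mpr hU.2⟩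
  rcases h1.eq_or_ssubset with e | h3
  · exact ⟨X, hX, hX₀, (hS X hX).trans (le_normalizer_sSup (e ▸ h2))⟩
  · obtain ⟨Y, hY, h4⟩ := ih N hNH (fun U hU => hU.2) (fun U hU g hg => h2 U hU g (hNH.le hg))
      hJN h3
    exact ⟨Y, hY.1, h4⟩

/-- The set of conjugates of `A` subnormal in `V`. -/
def subConj (A V : Subgroup G) : Set (Subgroup G) :=
  {B | (∃ g : G, B = MulAut.conj g • A) ∧ SubIn B V}

theorem conj_mem_subConj {A V B : Subgroup G} (h : B ∈ subConj A V) {g : G} (hg : g ∈ V) :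
    MulAut.conj g • B ∈ subConj A V := by
  obtain ⟨⟨k, rfl⟩, h⟩ := h
  exact ⟨⟨g * k, conj_smul_conj_smul _ _ _⟩, subIn_conj_of_mem_normalizer h (le_normalizer hg)⟩

theorem zipper_general [Finite G] (A : Subgroup G) (U : Set (Subgroup G)) (hU : U.Nonempty)
    (h2 : ∀ V ∈ U, ∀ W ∈ U, ∀ B ∈ subConj A W, B ≤ V → B ∈ subConj A V)
    (h3 : ∀ V ∈ U, ∀ W ∈ U, ∃ X ∈ U,
      normalizer ((sSup (subConj A V ∩ subConj A W) : Subgroup G) : Set G) ≤ X) :
    ∃ M ∈ U, ∀ V ∈ U, V ≤ M := by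
  have key : ∀ (S₀ : Set (Subgroup G)) (V W : Subgroup G), V ∈ U → (∀ K ∈ U, V ≤ K → K = V) →
      W ∈ U → (∀ K ∈ U, W ≤ K → K = W) → subConj A V ∩ subConj A W = S₀ → V = W := by
    intro S₀
    induction S₀ using WellFoundedGT.induction with
    | ind S₀ ih =>
    intro V W hV hVm hW hWm e
    obtain ⟨X₀, hX₀, hNX₀⟩ := h3 V hV W hW
    obtain ⟨X, hX₀X, hX, hXm⟩ := exists_maximal_ge (P := fun K => K ∈ U) hX₀
    rw [e] at hNX₀
    have hNX := hNX₀.trans hX₀X
    have aux : ∀ V ∈ U, (∀ K ∈ U, V ≤ K → K = V) → S₀ ⊆ subConj A V → V = X := by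
      intro V hV hVm hs
      rcases hs.eq_or_ssubset with e' | hs'
      · refine (hVm X hX (le_trans ?_ hNX)).symm
        rw [e']
        exact le_normalizer_sSup fun B hB g hg => conj_mem_subConj hB hg
      · obtain ⟨Y, hY, hY₀, hYN⟩ := exists_le_normalizer_sSup (H := V) (fun B hB => hB.2.le)
          (fun B hB g hg => conj_mem_subConj hB hg) (subIn_sSup fun B hB => (hs hB).2) hs'
        have hsub : S₀ ⊆ subConj A V ∩ subConj A X := fun B hB => ⟨hs hB, h2 X hX V hV B (hs hB)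
          ((le_sSup hB).trans (le_normalizer.trans hNX))⟩
        refine ih _ (lt_of_le_of_ne hsub fun e' => hY₀ ?_) V X hV hVm hX hXm rfl
        rw [e']
        exact ⟨hY, h2 X hX V hV Y hY (hYN.trans hNX)⟩
    rw [aux V hV hVm (e ▸ Set.inter_subset_left), aux W hW hWm (e ▸ Set.inter_subset_right)]
  obtain ⟨V₀, hV₀⟩ := hU
  obtain ⟨M, -, hM, hMm⟩ := exists_maximal_ge (P := fun K => K ∈ U) hV₀
  refine ⟨M, hM, fun V hV => ?_⟩
  obtain ⟨W, hVW, hW, hWm⟩ := exists_maximal_ge (P := fun K => K ∈ U) hV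
  exact key _ W M hW hWm hM hMm rfl ▸ hVW

/-- Wielandt's zipper lemma. -/
theorem zipper [Finite G] {A : Subgroup G} (hA : ¬ A.IsSubnormal)
    (h : ∀ V, A ≤ V → V ≠ ⊤ → SubIn A V) : ∃ M, A ≤ M ∧ M ≠ ⊤ ∧ ∀ V, A ≤ V → V ≠ ⊤ → V ≤ M := by
  have hA' : A ≠ ⊤ := by rintro rfl; exact hA IsSubnormal.top
  suffices h : ∃ M ∈ {V | A ≤ V ∧ V ≠ ⊤}, ∀ V ∈ {V | A ≤ V ∧ V ≠ ⊤}, V ≤ M by
    obtain ⟨M, hM, hm⟩ := h
    exact ⟨M, hM.1, hM.2, fun V h1 h2 => hm V ⟨h1, h2⟩⟩
  refine zipper_general A {V | A ≤ V ∧ V ≠ ⊤} ⟨A, le_rfl, hA'⟩ ?_ ?_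
  · rintro V hV W - B ⟨⟨g, rfl⟩, -⟩ hB
    refine ⟨⟨g, rfl⟩, ?_⟩
    have := subIn_conj (h (MulAut.conj g⁻¹ • V) (conj_smul_le_iff_le_inv.mp hB)
      (by rw [Ne, smul_eq_top_iff]; exact hV.2)) g
    rwa [conj_smul_conj_inv_smul] at this
  · intro V hV W hW
    have h1 : A ≤ sSup (subConj A V ∩ subConj A W) :=
      le_sSup ⟨⟨⟨1, (conj_one_smul A).symm⟩, h V hV.1 hV.2⟩, ⟨1, (conj_one_smul A).symm⟩,
        h W hW.1 hW.2⟩
    refine ⟨_, ⟨h1.trans le_normalizer, fun e => hA ?_⟩, le_rfl⟩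
    have h2 : sSup (subConj A V ∩ subConj A W) ≤ V := sSup_le fun B hB => hB.1.2.le
    exact subIn_top.mp (((h V hV.1 hV.2).restrict h1 h2).trans (SubIn.of_normal le_top e.ge))

theorem subIn_subgroupOf {A V L : Subgroup G} (h : SubIn A V) :
    SubIn (A.subgroupOf L) (V.subgroupOf L) := h.comap _

theorem subIn_of_subgroupOf {A V L : Subgroup G} (hA : A ≤ L) (hV : V ≤ L)
    (h : SubIn (A.subgroupOf L) (V.subgroupOf L)) : SubIn A V := by
  have := h.map L.subtype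
  rwa [subgroupOf_map_subtype, subgroupOf_map_subtype, inf_eq_left.mpr hA, inf_eq_left.mpr hV]
    at this

theorem conj_smul_subgroupOf' (A L : Subgroup G) (l : L) :
    MulAut.conj l • A.subgroupOf L = (MulAut.conj (l : G) • A).subgroupOf L := by
  ext x
  rw [mem_conj_smul, mem_subgroupOf, mem_subgroupOf, mem_conj_smul]; rfl

theorem le_normalCore_of_forall_conj_le {A M : Subgroup G} (h : ∀ g : G, MulAut.conj g • A ≤ M) :
    A ≤ M.normalCore := fun _ hx g => h g (conj_mem_conj_smul.mpr hx)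

/-- Wielandt's subnormality criterion. -/
theorem isSubnormal_of_forall_conj [Finite G] {A : Subgroup G}
    (h : ∀ g : G, SubIn A (A ⊔ MulAut.conj g • A)) : A.IsSubnormal := by
  induction G, ‹Group G›, ‹Finite G› using card_induction' with | _ G ih => ?_
  by_contra hA
  have h1 : ∀ V, A ≤ V → V ≠ ⊤ → SubIn A V := fun V hV hV' => by
    refine subIn_iff.mpr ⟨hV, ih V (card_lt_of_ne_top hV') fun g => ?_⟩
    rw [conj_smul_subgroupOf', ← subgroupOf_sup hV (conj_smul_le_of_mem hV g.2)]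
    exact subIn_subgroupOf (h g)
  obtain ⟨M, hM, hM', hm⟩ := zipper hA h1
  have h2 : A ≤ M.normalCore := le_normalCore_of_forall_conj_le fun g =>
    le_sup_right.trans (hm _ le_sup_left fun e => hA (subIn_top.mp (e ▸ h g)))
  exact hA (subIn_top.mp ((h1 _ h2 fun e => hM' (top_le_iff.mp (e ▸ M.normalCore_le))).trans
    (SubIn.of_normal le_top le_normalizer_of_normal)))

theorem subIn_of_isNilpotent [Finite G] {A H : Subgroup G} (hH : Group.IsNilpotent H) (h : A ≤ H) :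
    SubIn A H := subIn_iff.mpr ⟨h, isSubnormal_of_isNilpotent _⟩

theorem IsSylowIn.inf_of_subIn [Finite G] {p : ℕ} [Fact p.Prime] {P K H : Subgroup G}
    (hP : IsSylowIn p P H) (h : SubIn K H) : IsSylowIn p (P ⊓ K) K := by
  induction h with
  | refl H => rwa [inf_eq_left.mpr hP.1]
  | @step K L H h1 h2 _ ih =>
    have := (ih hP).inf_of_normalizer h1 h2
    rwa [inf_assoc, inf_eq_right.mpr h1] at this

theorem isPiHallOf_inf_of_subIn [Finite G] {π : Set ℕ} {P K H : Subgroup G}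
    (hP : IsPiHallOf π P H) (h : SubIn K H) : IsPiHallOf π (P ⊓ K) K := by
  induction h with
  | refl H => rwa [inf_eq_left.mpr hP.1]
  | @step K L H h1 h2 _ ih =>
    have := isPiHallOf_inf_of_normalizer (ih hP) h1 h2
    rwa [inf_assoc, inf_eq_right.mpr h1] at this

theorem subIn_iterate_commutator_le {K H X : Subgroup G} (h : SubIn K H) (hX : X ≤ K) :
    ∃ m : ℕ, (fun L : Subgroup G => ⁅L, X⁆)^[m] H ≤ K := by
  induction h with
  | refl H => exact ⟨0, le_rfl⟩
  | @step K L H h1 h2 _ ih =>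
    obtain ⟨m, hm⟩ := ih (hX.trans h1)
    refine ⟨m + 1, ?_⟩
    rw [Function.iterate_succ_apply']
    refine (commutator_mono hm hX).trans ?_
    rw [commutator_comm]
    exact commutator_le_of_le_normalizer h2

theorem subIn_of_iterate_commutator_le {K : Subgroup G} (m : ℕ) {T : Subgroup G}
    (hT : K ≤ normalizer (T : Set G)) (h : (fun L : Subgroup G => ⁅L, K⁆)^[m] T ≤ K) :
    SubIn K (K ⊔ T) := by
  induction m generalizing T with
  | zero => rw [sup_eq_left.mpr (show T ≤ K from h)]; exact SubIn.refl K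
  | succ m ih =>
    rw [Function.iterate_succ_apply] at h
    refine (ih (le_normalizer_commutator hT le_normalizer) h).trans (SubIn.of_normal
      (sup_le_sup_left (commutator_le_of_le_normalizer hT) K) (sup_le
        (le_sup_left.trans le_normalizer) (le_normalizer_of_forall_conj_le fun t ht => ?_)))
    rw [smul_sup]
    refine sup_le (conj_smul_le_iff.mpr fun k hk => ?_) (le_trans (le_of_eq ?_) le_sup_right)
    · have : t * k * t⁻¹ = ⁅t, k⁆ * k := by rw [commutatorElement_def]; group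
      rw [this]
      exact mul_mem (mem_sup_right (commutator_mem_commutator ht hk)) (mem_sup_left hk)
    · exact conj_smul_eq_of_mem_normalizer (normalizer_commutator_ge_left T K ht)

theorem matsuyama [Finite G] (p : ℕ) [Fact p.Prime] (Z Y : Subgroup G)
    (h : ∀ g : G, IsPGroup p ↥(⨆ y ∈ Y, MulAut.conj (y * g) • Z)) :
    ∃ P : Sylow p G, Y ≤ normalizer
      ((sSup {B | (∃ g : G, B = MulAut.conj g • Z) ∧ B ≤ (P : Subgroup G)} : Subgroup G) : Set G) := by
  let Sg : Subgroup G → Set (Subgroup G) := fun P => {B | (∃ g : G, B = MulAut.conj g • Z) ∧ B ≤ P}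
  obtain ⟨Q, -, ⟨hQ, hYQ, hQSg⟩, hm⟩ := exists_maximal_ge (P := fun Q : Subgroup G =>
    IsPGroup p Q ∧ Y ≤ normalizer (Q : Set G) ∧ Q ≤ sSup (Sg Q)) (H := ⊥)
    ⟨IsPGroup.of_bot, le_normalizer_of_normal, bot_le⟩
  obtain ⟨P, hP⟩ := hQ.exists_le_sylow
  have e : sSup (Sg Q) = Q := le_antisymm (sSup_le fun B hB => hB.2) hQSg
  have hs : Sg Q ⊆ Sg P := fun B hB => ⟨hB.1, hB.2.trans hP⟩
  refine ⟨P, ?_⟩
  rcases hs.eq_or_ssubset with e' | hs'
  · change Y ≤ normalizer ((sSup (Sg P) : Subgroup G) : Set G)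
    rwa [← e', e]
  exfalso
  obtain ⟨X, ⟨⟨g, rfl⟩, hXP⟩, hX₀, hXN⟩ := exists_le_normalizer_sSup (H := P) (S := Sg P)
    (fun B hB => hB.2) (by
      rintro _ ⟨⟨k, rfl⟩, hk⟩ g hg
      exact ⟨⟨g * k, conj_smul_conj_smul _ _ _⟩, conj_smul_le_of_mem hk hg⟩)
    (subIn_of_isNilpotent P.isPGroup'.isNilpotent (e.symm ▸ hP)) hs'
  rw [e] at hXN
  let W := ⨆ y ∈ Y, MulAut.conj (y * g) • Z
  have hW : W ≤ normalizer (Q : Set G) := iSup₂_le fun y hy => by
    rw [← conj_smul_conj_smul]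
    exact conj_smul_le_of_mem hXN (hYQ hy)
  have hYW : Y ≤ normalizer (W : Set G) := le_normalizer_of_forall_conj_le fun t ht => by
    rw [conj_smul_le_iff_le_inv]
    refine iSup₂_le fun y hy => ?_
    rw [← conj_smul_le_iff_le_inv, conj_smul_conj_smul, ← mul_assoc]
    exact le_iSup₂_of_le (t * y) (Y.mul_mem ht hy) le_rfl
  have h1 := hm (W ⊔ Q) ⟨IsPGroup.to_sup_of_normal_right' (h g) hQ hW, le_normalizer_sup hYW hYQ,
    sup_le (iSup₂_le fun y hy => le_sSup ⟨⟨_, rfl⟩,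
      le_trans (le_iSup₂_of_le y hy le_rfl) le_sup_left⟩)
      (hQSg.trans (sSup_le_sSup fun B hB => ⟨hB.1, hB.2.trans le_sup_right⟩))⟩ le_sup_right
  refine hX₀ ⟨⟨g, rfl⟩, ?_⟩
  rw [← h1]
  refine le_trans ?_ le_sup_left
  exact le_iSup₂_of_le 1 Y.one_mem (by rw [one_mul])

end Cfsg.Agent.Core
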