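import Mathlib
import Cfsg.Prelude.Def_Local
import Cfsg.Prelude.Def_OddOrderLocal
import Cfsg.Prelude.Def_SolvableStructure
import Cfsg.Prelude.Def_PLocal

/-!
# Core library, basic kit

General lemmas on finite groups: induction on the order, conjugation of subgroups, orders of
joins, images and preimages, the Dedekind law, minimal normal subgroups.
-/

set_option autoImplicit false

namespace Cfsg.Agent.Core

open Subgroup
open scoped Pointwise commutatorElement

universe u v

/-- Strong induction on the order of a finite group. -/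
theorem card_induction {P : ∀ (G : Type u) [Group G] [Finite G], Prop}
    (h : ∀ (G : Type u) [Group G] [Finite G],
      (∀ (H : Type u) [Group H] [Finite H], Nat.card H < Nat.card G → P H) → P G)
    (G : Type u) [Group G] [Finite G] : P G := by
  suffices key : ∀ (n : ℕ) (G : Type u) [Group G] [Finite G], Nat.card G = n → P G from
    key _ G rfl
  intro n
  induction n using Nat.strong_induction_on with
  | _ n ih =>
    intro G _ _ hG
    exact h G (fun H _ _ hH => ih _ (hG ▸ hH) H rfl)

variable {G : Type u} [Group G] {G' : Type v} [Group G']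

/-! ### Orders -/

theorem card_lt_of_lt [Finite G] {H K : Subgroup G} (h : H < K) : Nat.card H < Nat.card K :=
  lt_of_le_of_ne (card_le_of_le h.le) fun e => h.ne (eq_of_le_of_card_ge h.le e.ge)

theorem card_lt_of_ne_top [Finite G] {H : Subgroup G} (h : H ≠ ⊤) : Nat.card H < Nat.card G := by
  rw [← card_top (G := G)]
  exact card_lt_of_lt (lt_top_iff_ne_top.mpr h)

theorem card_quotient_lt [Finite G] {N : Subgroup G} (h : N ≠ ⊥) :
    Nat.card (G ⧸ N) < Nat.card G := by
  rw [← index_eq_card, ← N.index_mul_card]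
  exact lt_mul_of_one_lt_right (Nat.pos_of_ne_zero index_ne_zero_of_finite)
    (N.one_lt_card_iff_ne_bot.mpr h)

theorem index_pos [Finite G] (H : Subgroup G) : 0 < H.index :=
  Nat.pos_of_ne_zero index_ne_zero_of_finite

theorem relIndex_pos [Finite G] (H K : Subgroup G) : 0 < H.relIndex K :=
  index_pos _

theorem card_subgroupOf (H K : Subgroup G) : Nat.card (H.subgroupOf K) = Nat.card ↥(H ⊓ K) := by
  rw [← subgroupOf_map_subtype, card_subtype]

theorem card_subgroupOf_of_le {H K : Subgroup G} (h : H ≤ K) :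
    Nat.card (H.subgroupOf K) = Nat.card H := by
  rw [card_subgroupOf, inf_eq_left.mpr h]

theorem card_subgroupOf_dvd (H K : Subgroup G) : Nat.card (H.subgroupOf K) ∣ Nat.card H := by
  rw [card_subgroupOf]; exact card_dvd_of_le inf_le_left

theorem card_inf_mul_relIndex (H K : Subgroup G) :
    Nat.card ↥(H ⊓ K) * H.relIndex K = Nat.card K := by
  rw [← card_subgroupOf]; exact card_mul_index _

theorem card_mul_relIndex {H K : Subgroup G} (h : H ≤ K) :
    Nat.card H * H.relIndex K = Nat.card K := by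
  rw [← card_inf_mul_relIndex H K, inf_eq_left.mpr h]

theorem card_map_mul_card_inf_ker (H : Subgroup G) (f : G →* G') :
    Nat.card (H.map f) * Nat.card ↥(H ⊓ f.ker) = Nat.card H := by
  rw [← relIndex_ker, mul_comm, inf_comm, card_inf_mul_relIndex]

theorem card_map_mk'_mul (H N : Subgroup G) [N.Normal] :
    Nat.card (H.map (QuotientGroup.mk' N)) * Nat.card ↥(H ⊓ N) = Nat.card H := by
  have := card_map_mul_card_inf_ker H (QuotientGroup.mk' N)
  rwa [QuotientGroup.ker_mk'] at this

theorem card_map_mk' (H N : Subgroup G) [N.Normal] :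
    Nat.card (H.map (QuotientGroup.mk' N)) = N.relIndex H := by
  rw [← relIndex_ker, QuotientGroup.ker_mk']

theorem card_comap_of_surjective {f : G →* G'} (hf : Function.Surjective f) (K : Subgroup G') :
    Nat.card (K.comap f) = Nat.card K * Nat.card f.ker := by
  have := card_map_mul_card_inf_ker (K.comap f) f
  rw [map_comap_eq_self_of_surjective hf, inf_eq_right.mpr (ker_le_comap f K)] at this
  exact this.symm

theorem card_comap_mk' (N : Subgroup G) [N.Normal] (K : Subgroup (G ⧸ N)) :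
    Nat.card (K.comap (QuotientGroup.mk' N)) = Nat.card K * Nat.card N := by
  rw [card_comap_of_surjective (QuotientGroup.mk'_surjective N), QuotientGroup.ker_mk']

theorem comap_map_mk'' (H N : Subgroup G) [N.Normal] :
    (H.map (QuotientGroup.mk' N)).comap (QuotientGroup.mk' N) = H ⊔ N := by
  rw [comap_map_eq, QuotientGroup.ker_mk']

theorem map_comap_mk' (N : Subgroup G) [N.Normal] (K : Subgroup (G ⧸ N)) :
    (K.comap (QuotientGroup.mk' N)).map (QuotientGroup.mk' N) = K :=
  map_comap_eq_self_of_surjective (QuotientGroup.mk'_surjective N) K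

theorem le_comap_mk' (N : Subgroup G) [N.Normal] (K : Subgroup (G ⧸ N)) :
    N ≤ K.comap (QuotientGroup.mk' N) := by
  have := ker_le_comap (QuotientGroup.mk' N) K
  rwa [QuotientGroup.ker_mk'] at this

theorem map_mk'_le_map_mk'_iff {H K N : Subgroup G} [N.Normal] :
    H.map (QuotientGroup.mk' N) ≤ K.map (QuotientGroup.mk' N) ↔ H ≤ K ⊔ N := by
  rw [map_le_iff_le_comap, comap_map_mk'']

theorem map_mk'_eq_bot_iff {H N : Subgroup G} [N.Normal] :
    H.map (QuotientGroup.mk' N) = ⊥ ↔ H ≤ N := by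
  rw [Subgroup.map_eq_bot_iff, QuotientGroup.ker_mk']

theorem map_mk'_eq_top_iff {H N : Subgroup G} [N.Normal] :
    H.map (QuotientGroup.mk' N) = ⊤ ↔ H ⊔ N = ⊤ := by
  constructor
  · intro h
    rw [← comap_map_mk'', h, comap_top]
  · intro h
    have := congrArg (map (QuotientGroup.mk' N)) h
    rwa [Subgroup.map_sup, map_mk'_eq_bot_iff.mpr le_rfl, sup_bot_eq,
      map_top_of_surjective _ (QuotientGroup.mk'_surjective N)] at this

theorem map_mk'_eq_map_mk'_iff {H K N : Subgroup G} [N.Normal] :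
    H.map (QuotientGroup.mk' N) = K.map (QuotientGroup.mk' N) ↔ H ⊔ N = K ⊔ N := by
  constructor
  · intro h
    rw [← comap_map_mk'', h, comap_map_mk'']
  · intro h
    apply le_antisymm <;> rw [map_mk'_le_map_mk'_iff]
    · rw [← h]; exact le_sup_left
    · rw [h]; exact le_sup_left

theorem mem_map_mk'_iff {H N : Subgroup G} [N.Normal] {g : G} :
    (g : G ⧸ N) ∈ H.map (QuotientGroup.mk' N) ↔ g ∈ H ⊔ N := by
  rw [← comap_map_mk'']; rfl

theorem index_map_mk' (H N : Subgroup G) [N.Normal] :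
    (H.map (QuotientGroup.mk' N)).index = (H ⊔ N).index := by
  rw [← comap_map_mk'', index_comap_of_surjective _ (QuotientGroup.mk'_surjective N)]

/-! ### Products of subgroups -/

theorem mem_sup_of_le_normalizer_right {H N : Subgroup G} (h : H ≤ normalizer (N : Set G))
    {x : G} : x ∈ H ⊔ N ↔ ∃ y ∈ H, ∃ z ∈ N, y * z = x := by
  rw [← SetLike.mem_coe, coe_mul_of_left_le_normalizer_right H N h, Set.mem_mul]; rfl

theorem mem_sup_of_le_normalizer_left {N H : Subgroup G} (h : H ≤ normalizer (N : Set G))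
    {x : G} : x ∈ N ⊔ H ↔ ∃ y ∈ N, ∃ z ∈ H, y * z = x := by
  rw [← SetLike.mem_coe, coe_mul_of_right_le_normalizer_left N H h, Set.mem_mul]; rfl

theorem relIndex_sup_of_le_normalizer {H N : Subgroup G} (h : H ≤ normalizer (N : Set G)) :
    N.relIndex (H ⊔ N) = N.relIndex H := by
  have : (N.subgroupOf (H ⊔ N)).Normal := normal_subgroupOf_sup_of_le_normalizer h
  rw [← relIndex_subgroupOf (H := N) (K := H) (L := H ⊔ N) le_sup_left,
    ← relIndex_sup_right (H.subgroupOf (H ⊔ N)), ← subgroupOf_sup le_sup_left le_sup_right,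
    subgroupOf_self, relIndex_top_right]
  rfl

theorem card_sup_mul_card_inf {H N : Subgroup G} (h : H ≤ normalizer (N : Set G)) :
    Nat.card ↥(H ⊔ N) * Nat.card ↥(H ⊓ N) = Nat.card H * Nat.card N := by
  rw [← card_mul_relIndex (le_sup_right : N ≤ H ⊔ N), relIndex_sup_of_le_normalizer h,
    ← card_inf_mul_relIndex N H, inf_comm N H]
  ring

theorem card_sup_mul_card_inf_of_normal (H N : Subgroup G) [N.Normal] :
    Nat.card ↥(H ⊔ N) * Nat.card ↥(H ⊓ N) = Nat.card H * Nat.card N :=
  card_sup_mul_card_inf le_normalizer_of_normal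

theorem card_sup_dvd {H N : Subgroup G} (h : H ≤ normalizer (N : Set G)) :
    Nat.card ↥(H ⊔ N) ∣ Nat.card H * Nat.card N :=
  ⟨_, (card_sup_mul_card_inf h).symm⟩

theorem card_sup_of_disjoint {H N : Subgroup G} (h : H ≤ normalizer (N : Set G))
    (hd : H ⊓ N = ⊥) : Nat.card ↥(H ⊔ N) = Nat.card H * Nat.card N := by
  rw [← card_sup_mul_card_inf h, hd, card_bot, mul_one]

theorem inf_eq_bot_of_coprime' {H K : Subgroup G} (h : (Nat.card H).Coprime (Nat.card K)) :
    H ⊓ K = ⊥ := (disjoint_of_coprime_natCard h).eq_bot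

theorem card_sup_of_coprime {H N : Subgroup G} (h : H ≤ normalizer (N : Set G))
    (hd : (Nat.card H).Coprime (Nat.card N)) : Nat.card ↥(H ⊔ N) = Nat.card H * Nat.card N :=
  card_sup_of_disjoint h (inf_eq_bot_of_coprime' hd)

/-- The order of a product set of two subgroups. -/
theorem ncard_mul_mul_card_inf [Finite G] (H K : Subgroup G) :
    ((H : Set G) * (K : Set G)).ncard * Nat.card ↥(H ⊓ K) = Nat.card H * Nat.card K := by
  classical
  have h1 : Nat.card ((H : Set G) * (K : Set G) : Set G) =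
      Nat.card K * Nat.card ((H : Set G).image (QuotientGroup.mk : G → G ⧸ K)) :=
    Subgroup.card_mul_eq_card_subgroup_mul_card_quotient K (H : Set G)
  have h2 : Nat.card ((H : Set G).image (QuotientGroup.mk : G → G ⧸ K)) = K.relIndex H := by
    have h3 := MulAction.index_stabilizer H ((1 : G) : G ⧸ K)
    have h4 : MulAction.stabilizer H ((1 : G) : G ⧸ K) = K.subgroupOf H := by
      ext x
      rw [MulAction.mem_stabilizer_iff, mem_subgroupOf]
      change (((x : G) * 1 : G) : G ⧸ K) = _ ↔ _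
      rw [QuotientGroup.eq]
      simp
    have h5 : MulAction.orbit H ((1 : G) : G ⧸ K) =
        (H : Set G).image (QuotientGroup.mk : G → G ⧸ K) := by
      ext q
      constructor
      · rintro ⟨x, rfl⟩
        exact ⟨x * 1, by simp, rfl⟩
      · rintro ⟨x, hx, rfl⟩
        refine ⟨⟨x, hx⟩, ?_⟩
        change ((x * 1 : G) : G ⧸ K) = _
        rw [mul_one]
    rw [h4, h5] at h3
    rw [relIndex, h3, Nat.card_coe_set_eq]
  rw [← Nat.card_coe_set_eq, h1, h2, ← card_inf_mul_relIndex K H, inf_comm K H]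
  ring

/-- Dedekind's modular law. -/
theorem inf_sup_dedekind {A N C : Subgroup G} (hA : A ≤ normalizer (N : Set G)) (h : N ≤ C) :
    (A ⊔ N) ⊓ C = (A ⊓ C) ⊔ N := by
  apply le_antisymm
  · rintro x ⟨hx, hxC⟩
    obtain ⟨a, ha, n, hn, rfl⟩ := (mem_sup_of_le_normalizer_right hA).mp hx
    refine mul_mem (mem_sup_left ⟨ha, ?_⟩) (mem_sup_right hn)
    exact (mul_mem_cancel_right (h hn)).mp hxC
  · exact sup_le (le_inf (inf_le_left.trans le_sup_left) inf_le_right) (le_inf le_sup_right h)

/-- Dedekind's modular law, the other form. -/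
theorem inf_sup_dedekind' {A N C : Subgroup G} (hA : A ≤ normalizer (N : Set G)) (h : A ≤ C) :
    (A ⊔ N) ⊓ C = A ⊔ (N ⊓ C) := by
  apply le_antisymm
  · rintro x ⟨hx, hxC⟩
    obtain ⟨a, ha, n, hn, rfl⟩ := (mem_sup_of_le_normalizer_right hA).mp hx
    refine mul_mem (mem_sup_left ha) (mem_sup_right ⟨hn, ?_⟩)
    exact (mul_mem_cancel_left (h ha)).mp hxC
  · exact sup_le (le_inf le_sup_left h) (le_inf (inf_le_left.trans le_sup_right) inf_le_right)

theorem subgroupOf_sup_eq_top_of_le {A N L : Subgroup G} [N.Normal] (h : N ⊔ A = ⊤)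
    (hA : A ≤ L) : N.subgroupOf L ⊔ A.subgroupOf L = ⊤ := by
  rw [← inf_subgroupOf_right N L, ← subgroupOf_sup inf_le_right hA, subgroupOf_eq_top,
    sup_comm, ← inf_sup_dedekind' le_normalizer_of_normal hA, sup_comm, h, top_inf_eq]

theorem sup_subgroupOf_eq_top_of_le {A N L : Subgroup G} [N.Normal] (h : N ⊔ A = ⊤)
    (hN : N ≤ L) : N.subgroupOf L ⊔ A.subgroupOf L = ⊤ := by
  rw [← inf_subgroupOf_right A L, ← subgroupOf_sup hN inf_le_right, subgroupOf_eq_top,
    sup_comm, ← inf_sup_dedekind le_normalizer_of_normal hN, sup_comm, h, top_inf_eq]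

theorem isComplement'_of_normal {N H : Subgroup G} [N.Normal] (h1 : N ⊓ H = ⊥)
    (h2 : N ⊔ H = ⊤) : IsComplement' N H := by
  apply isComplement'_of_disjoint_and_mul_eq_univ (disjoint_iff.mpr h1)
  rw [← normal_mul, h2, coe_top]

theorem isComplement'_iff_of_normal {N H : Subgroup G} [N.Normal] :
    IsComplement' N H ↔ N ⊓ H = ⊥ ∧ N ⊔ H = ⊤ :=
  ⟨fun h => ⟨h.disjoint.eq_bot, h.sup_eq_top⟩, fun h => isComplement'_of_normal h.1 h.2⟩

theorem exists_mul_of_isComplement' {N H : Subgroup G} (h : IsComplement' N H) (g : G) :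
    ∃ n ∈ N, ∃ x ∈ H, n * x = g := by
  obtain ⟨⟨n, x⟩, hx⟩ := (h.existsUnique g).exists
  exact ⟨n, n.2, x, x.2, hx⟩

/-! ### Conjugation of subgroups -/

theorem mem_conj_smul {H : Subgroup G} {g x : G} : x ∈ MulAut.conj g • H ↔ g⁻¹ * x * g ∈ H := by
  rw [mem_pointwise_smul_iff_inv_smul_mem, ← map_inv, MulAut.smul_def, MulAut.conj_apply, inv_inv]

theorem mem_conj_smul' {H : Subgroup G} {g x : G} :
    x ∈ MulAut.conj g • H ↔ ∃ h ∈ H, g * h * g⁻¹ = x :=
  mem_smul_pointwise_iff_exists _ _ _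

theorem conj_mem_conj_smul {H : Subgroup G} {g x : G} :
    g * x * g⁻¹ ∈ MulAut.conj g • H ↔ x ∈ H := by
  rw [mem_conj_smul]; simp [mul_assoc]

theorem conj_smul_eq_map (H : Subgroup G) (g : G) :
    MulAut.conj g • H = H.map (MulAut.conj g).toMonoidHom := rfl

theorem conj_smul_eq_map' (H : Subgroup G) (g : G) :
    MulAut.conj g • H = H.map (MulAut.conj g : G →* G) := rfl

theorem conj_smul_conj_smul (H : Subgroup G) (g k : G) :
    MulAut.conj g • MulAut.conj k • H = MulAut.conj (g * k) • H := by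
  rw [map_mul, mul_smul]

theorem conj_one_smul (H : Subgroup G) : MulAut.conj (1 : G) • H = H := by
  rw [map_one, one_smul]

theorem conj_inv_smul_conj_smul (H : Subgroup G) (g : G) :
    MulAut.conj g⁻¹ • MulAut.conj g • H = H := by
  rw [conj_smul_conj_smul, inv_mul_cancel, conj_one_smul]

theorem conj_smul_conj_inv_smul (H : Subgroup G) (g : G) :
    MulAut.conj g • MulAut.conj g⁻¹ • H = H := by
  rw [conj_smul_conj_smul, mul_inv_cancel, conj_one_smul]

theorem conj_smul_eq_iff {H : Subgroup G} {g : G} :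
    MulAut.conj g • H = H ↔ g ∈ normalizer (H : Set G) :=
  mem_normalizer_iff_map_conj_eq.symm

theorem conj_smul_eq_of_mem_normalizer {H : Subgroup G} {g : G}
    (h : g ∈ normalizer (H : Set G)) : MulAut.conj g • H = H := conj_smul_eq_iff.mpr h

theorem card_smul {α : Type*} [Group α] [MulDistribMulAction α G] (a : α) (H : Subgroup G) :
    Nat.card ↥(a • H) = Nat.card H :=
  (Nat.card_congr (equivSMul a H).toEquiv).symm

theorem index_smul {α : Type*} [Group α] [MulDistribMulAction α G] (a : α) (H : Subgroup G) :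
    (a • H).index = H.index :=
  index_map_of_bijective (f := MulDistribMulAction.toMonoidHom G a) (MulAction.bijective a) H

theorem smul_top' {α : Type*} [Group α] [MulDistribMulAction α G] (a : α) :
    a • (⊤ : Subgroup G) = ⊤ := by
  ext x; simp [mem_pointwise_smul_iff_inv_smul_mem]

theorem smul_eq_bot_iff {α : Type*} [Group α] [MulDistribMulAction α G] (a : α)
    (H : Subgroup G) : a • H = ⊥ ↔ H = ⊥ := by
  rw [smul_eq_iff_eq_inv_smul, smul_bot]

theorem smul_eq_top_iff {α : Type*} [Group α] [MulDistribMulAction α G] (a : α)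
    (H : Subgroup G) : a • H = ⊤ ↔ H = ⊤ := by
  rw [smul_eq_iff_eq_inv_smul, smul_top']

theorem conj_smul_le_iff {H K : Subgroup G} {g : G} :
    MulAut.conj g • H ≤ K ↔ ∀ h ∈ H, g * h * g⁻¹ ∈ K := by
  constructor
  · intro hle h hh
    exact hle (conj_mem_conj_smul.mpr hh)
  · intro hle x hx
    obtain ⟨h, hh, rfl⟩ := mem_conj_smul'.mp hx
    exact hle h hh

theorem conj_smul_le_iff_le_inv {H K : Subgroup G} {g : G} :
    MulAut.conj g • H ≤ K ↔ H ≤ MulAut.conj g⁻¹ • K := by
  rw [pointwise_smul_subset_iff, map_inv]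

theorem le_conj_smul_iff_inv_le {H K : Subgroup G} {g : G} :
    H ≤ MulAut.conj g • K ↔ MulAut.conj g⁻¹ • H ≤ K := by
  rw [subset_pointwise_smul_iff, map_inv]

theorem conj_smul_le_of_mem {H K : Subgroup G} {g : G} (h : H ≤ K) (hg : g ∈ K) :
    MulAut.conj g • H ≤ K :=
  conj_smul_le_iff.mpr fun _ hx => mul_mem (mul_mem hg (h hx)) (inv_mem hg)

theorem conj_smul_le_of_normal {H N : Subgroup G} [hN : N.Normal] (h : H ≤ N) (g : G) :
    MulAut.conj g • H ≤ N :=
  conj_smul_le_iff.mpr fun _ hx => hN.conj_mem _ (h hx) g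

theorem map_conj_smul (f : G →* G') (H : Subgroup G) (g : G) :
    (MulAut.conj g • H).map f = MulAut.conj (f g) • H.map f := by
  rw [conj_smul_eq_map, conj_smul_eq_map, map_map, map_map]
  congr 1
  ext x
  simp

theorem normalizer_conj_smul (H : Subgroup G) (g : G) :
    normalizer ((MulAut.conj g • H : Subgroup G) : Set G) =
      MulAut.conj g • normalizer (H : Set G) := by
  rw [conj_smul_eq_map, conj_smul_eq_map, map_equiv_normalizer_eq]

theorem centralizer_conj_smul (H : Subgroup G) (g : G) :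
    centralizer ((MulAut.conj g • H : Subgroup G) : Set G) =
      MulAut.conj g • centralizer (H : Set G) := by
  ext x
  rw [mem_conj_smul, mem_centralizer_iff, mem_centralizer_iff]
  constructor
  · intro h y hy
    have := h (g * y * g⁻¹) (conj_mem_conj_smul.mpr hy)
    calc y * (g⁻¹ * x * g) = g⁻¹ * (g * y * g⁻¹ * x) * g := by group
      _ = g⁻¹ * (x * (g * y * g⁻¹)) * g := by rw [this]
      _ = _ := by group
  · intro h y hy
    obtain ⟨z, hz, rfl⟩ := mem_conj_smul'.mp hy
    have := h z hz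
    calc g * z * g⁻¹ * x = g * (z * (g⁻¹ * x * g)) * g⁻¹ := by group
      _ = g * (g⁻¹ * x * g * z) * g⁻¹ := by rw [this]
      _ = _ := by group

theorem commutator_conj_smul (H K : Subgroup G) (g : G) :
    MulAut.conj g • ⁅H, K⁆ = ⁅MulAut.conj g • H, MulAut.conj g • K⁆ := by
  rw [conj_smul_eq_map, map_commutator]; rfl

theorem conj_smul_eq_of_le [Finite G] {H : Subgroup G} {g : G} (h : MulAut.conj g • H ≤ H) :
    MulAut.conj g • H = H :=
  eq_of_le_of_card_ge h (card_smul _ _).ge

theorem mem_normalizer_of_conj_mem [Finite G] {H : Subgroup G} {g : G}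
    (h : ∀ x ∈ H, g * x * g⁻¹ ∈ H) : g ∈ normalizer (H : Set G) :=
  mem_normalizer_fintype h

theorem conj_mem_of_mem_normalizer {H : Subgroup G} {g x : G} (hg : g ∈ normalizer (H : Set G))
    (hx : x ∈ H) : g * x * g⁻¹ ∈ H := (mem_normalizer_iff.mp hg x).mp hx

theorem conj_mem_of_mem_normalizer' {H : Subgroup G} {g x : G} (hg : g ∈ normalizer (H : Set G))
    (hx : x ∈ H) : g⁻¹ * x * g ∈ H := (mem_normalizer_iff''.mp hg x).mp hx

/-- Transport a conjugacy inside a subgroup `L` to the ambient group. -/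
theorem conj_smul_eq_of_subgroupOf {H K L : Subgroup G} (hH : H ≤ L) (hK : K ≤ L) (l : L)
    (h : MulAut.conj l • H.subgroupOf L = K.subgroupOf L) : MulAut.conj (l : G) • H = K := by
  have := congrArg (map L.subtype) h
  rwa [map_conj_smul, map_subgroupOf_eq_of_le hH, map_subgroupOf_eq_of_le hK] at this

theorem le_conj_smul_of_subgroupOf {H K L : Subgroup G} (hK : K ≤ L) (l : L)
    (h : K.subgroupOf L ≤ MulAut.conj l • H.subgroupOf L) : K ≤ MulAut.conj (l : G) • H := by
  have := map_mono (f := L.subtype) h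
  rw [map_conj_smul, map_subgroupOf_eq_of_le hK, subgroupOf_map_subtype] at this
  exact this.trans (pointwise_smul_le_pointwise_smul_iff.mpr inf_le_left)

/-! ### Normalizers and characteristic subgroups -/

theorem le_normalizer_inf {A H K : Subgroup G} (hH : A ≤ normalizer (H : Set G))
    (hK : A ≤ normalizer (K : Set G)) : A ≤ normalizer ((H ⊓ K : Subgroup G) : Set G) :=
  (le_inf hH hK).trans inf_normalizer_le_normalizer_inf

theorem le_normalizer_sup {A H K : Subgroup G} (hH : A ≤ normalizer (H : Set G))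
    (hK : A ≤ normalizer (K : Set G)) : A ≤ normalizer ((H ⊔ K : Subgroup G) : Set G) :=
  (le_inf hH hK).trans (normalizer_inf_normalizer_le_normalizer_sup H K)

theorem normalizer_le_normalizer_centralizer (H : Subgroup G) :
    normalizer (H : Set G) ≤ normalizer (centralizer (H : Set G) : Set G) := by
  intro g hg
  rw [← conj_smul_eq_iff, ← centralizer_conj_smul, conj_smul_eq_of_mem_normalizer hg]

theorem normalizer_le_normalizer_normalizer (H : Subgroup G) :
    normalizer (H : Set G) ≤ normalizer (normalizer (H : Set G) : Set G) := le_normalizer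

theorem le_normalizer_centralizer {A H : Subgroup G} (h : A ≤ normalizer (H : Set G)) :
    A ≤ normalizer (centralizer (H : Set G) : Set G) :=
  h.trans (normalizer_le_normalizer_centralizer H)

theorem le_normalizer_normalizer {A H : Subgroup G} (h : A ≤ normalizer (H : Set G)) :
    A ≤ normalizer (normalizer (H : Set G) : Set G) := h.trans le_normalizer

theorem le_normalizer_commutator {A H K : Subgroup G} (hH : A ≤ normalizer (H : Set G))
    (hK : A ≤ normalizer (K : Set G)) : A ≤ normalizer ((⁅H, K⁆ : Subgroup G) : Set G) := by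
  intro g hg
  rw [← conj_smul_eq_iff, commutator_conj_smul, conj_smul_eq_of_mem_normalizer (hH hg),
    conj_smul_eq_of_mem_normalizer (hK hg)]

/-- The normalizer of `H` normalizes every characteristic subgroup of `H`. -/
theorem normalizer_le_normalizer_map_characteristic (H : Subgroup G) (K : Subgroup H)
    [hK : K.Characteristic] :
    normalizer (H : Set G) ≤ normalizer ((K.map H.subtype : Subgroup G) : Set G) := by
  rw [le_normalizer_iff]
  rintro g hg _ ⟨x, hx, rfl⟩
  refine ⟨H.normalizerMonoidHom ⟨g, hg⟩ x, ?_, rfl⟩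
  have := (characteristic_iff_le_comap.mp hK) (H.normalizerMonoidHom ⟨g, hg⟩) hx
  exact this

theorem normal_iff_top_le_normalizer {H : Subgroup G} : H.Normal ↔ ⊤ ≤ normalizer (H : Set G) := by
  rw [top_le_iff, normalizer_eq_top_iff]

theorem normal_of_sup_eq_top {H A B : Subgroup G} (h : A ⊔ B = ⊤)
    (hA : A ≤ normalizer (H : Set G)) (hB : B ≤ normalizer (H : Set G)) : H.Normal := by
  rw [normal_iff_top_le_normalizer, ← h]; exact sup_le hA hB

theorem map_le_normalizer_map {A H : Subgroup G} (h : A ≤ normalizer (H : Set G))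
    (f : G →* G') : A.map f ≤ normalizer ((H.map f : Subgroup G') : Set G') :=
  (map_mono h).trans (le_normalizer_map f)

theorem comap_le_normalizer_comap {A H : Subgroup G'} (h : A ≤ normalizer (H : Set G'))
    (f : G →* G') : A.comap f ≤ normalizer ((H.comap f : Subgroup G) : Set G) :=
  (comap_mono h).trans (le_normalizer_comap f)

theorem subgroupOf_le_normalizer_subgroupOf {A H : Subgroup G} (h : A ≤ normalizer (H : Set G))
    (L : Subgroup G) : A.subgroupOf L ≤ normalizer ((H.subgroupOf L : Subgroup L) : Set L) :=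
  comap_le_normalizer_comap h L.subtype

theorem le_normalizer_of_subgroupOf {A H L : Subgroup G} (hA : A ≤ L) (hH : H ≤ L)
    (h : A.subgroupOf L ≤ normalizer ((H.subgroupOf L : Subgroup L) : Set L)) :
    A ≤ normalizer (H : Set G) := by
  have := map_le_normalizer_map h L.subtype
  rwa [map_subgroupOf_eq_of_le hA, map_subgroupOf_eq_of_le hH] at this

theorem le_normalizer_map_subtype_of_normal {L : Subgroup G} (K : Subgroup L) [K.Normal] :
    L ≤ normalizer ((K.map L.subtype : Subgroup G) : Set G) := by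
  have := map_le_normalizer_map (A := ⊤) (H := K) le_normalizer_of_normal L.subtype
  rwa [← MonoidHom.range_eq_map, range_subtype] at this

theorem mem_centralizer_map_subtype_iff {L : Subgroup G} {K : Subgroup L} {x : L} :
    (x : G) ∈ centralizer ((K.map L.subtype : Subgroup G) : Set G) ↔ x ∈ centralizer (K : Set L) := by
  simp only [mem_centralizer_iff, coe_map, Set.mem_image, SetLike.mem_coe, coe_subtype,
    forall_exists_index, and_imp, forall_apply_eq_imp_iff₂]
  refine forall₂_congr fun y _ => ?_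
  rw [Subtype.ext_iff]; rfl

theorem centralizer_subgroupOf {H L : Subgroup G} (h : H ≤ L) :
    centralizer ((H.subgroupOf L : Subgroup L) : Set L) = (centralizer (H : Set G)).subgroupOf L := by
  ext x
  rw [mem_subgroupOf, ← mem_centralizer_map_subtype_iff, map_subgroupOf_eq_of_le h]

theorem map_subtype_center (H : Subgroup G) :
    (center H).map H.subtype = H ⊓ centralizer (H : Set G) := by
  ext x
  constructor
  · rintro ⟨y, hy, rfl⟩
    refine ⟨y.2, fun z hz => ?_⟩
    exact congrArg Subtype.val (mem_center_iff.mp hy ⟨z, hz⟩)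
  · rintro ⟨h1, h2⟩
    exact ⟨⟨x, h1⟩, mem_center_iff.mpr fun z => Subtype.ext (h2 z z.2), rfl⟩

theorem isMulCommutative_iff_mem {H : Subgroup G} :
    IsMulCommutative H ↔ ∀ x ∈ H, ∀ y ∈ H, x * y = y * x := by
  rw [← le_centralizer_iff_isMulCommutative]
  exact ⟨fun h x hx y hy => h hy x hx, fun h x hx y hy => h y hy x hx⟩

theorem isMulCommutative_of_le {H K : Subgroup G} (hK : IsMulCommutative K) (h : H ≤ K) :
    IsMulCommutative H :=
  isMulCommutative_iff_mem.mpr fun x hx y hy => isMulCommutative_iff_mem.mp hK x (h hx) y (h hy)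

theorem isMulCommutative_map' {H : Subgroup G} (hH : IsMulCommutative H) (f : G →* G') :
    IsMulCommutative (H.map f) := by
  rw [isMulCommutative_iff_mem] at hH ⊢
  rintro _ ⟨x, hx, rfl⟩ _ ⟨y, hy, rfl⟩
  rw [← map_mul, ← map_mul, hH x hx y hy]

/-! ### Transfer of group properties -/

theorem isSolvable_of_le {H K : Subgroup G} (hK : Group.IsSolvable K) (h : H ≤ K) :
    Group.IsSolvable H :=
  Group.isSolvable_of_isSolvable_injective (inclusion_injective h)

theorem isSolvable_map {H : Subgroup G} (hH : Group.IsSolvable H) (f : G →* G') :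
    Group.IsSolvable (H.map f) :=
  Group.isSolvable_of_surjective (f.subgroupMap_surjective H)

theorem isSolvable_subgroupOf {H : Subgroup G} (hH : Group.IsSolvable H) (L : Subgroup G) :
    Group.IsSolvable (H.subgroupOf L) := by
  have : Group.IsSolvable ↥(H ⊓ L) := isSolvable_of_le hH inf_le_left
  rw [← inf_subgroupOf_right]
  exact Group.isSolvable_of_surjective
    (f := (subgroupOfEquivOfLe (inf_le_right : H ⊓ L ≤ L)).symm.toMonoidHom) (MulEquiv.surjective _)

theorem isSolvable_of_mulEquiv (e : G ≃* G') [Group.IsSolvable G] : Group.IsSolvable G' :=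
  Group.isSolvable_of_surjective (f := e.toMonoidHom) e.surjective

theorem isSolvable_of_subgroupOf {H L : Subgroup G} (h : H ≤ L)
    (hH : Group.IsSolvable (H.subgroupOf L)) : Group.IsSolvable H :=
  isSolvable_of_mulEquiv (subgroupOfEquivOfLe h)

theorem isSolvable_of_top (h : Group.IsSolvable (⊤ : Subgroup G)) : Group.IsSolvable G :=
  isSolvable_of_mulEquiv topEquiv

theorem isSolvable_comap_mk' {N : Subgroup G} [N.Normal] (hN : Group.IsSolvable N)
    {K : Subgroup (G ⧸ N)} (hK : Group.IsSolvable K) :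
    Group.IsSolvable (K.comap (QuotientGroup.mk' N)) := by
  refine Group.isSolvable_of_ker_le_range (inclusion (le_comap_mk' N K))
    ((QuotientGroup.mk' N).subgroupComap K) ?_
  intro x hx
  refine ⟨⟨x, ?_⟩, rfl⟩
  rw [MonoidHom.mem_ker, Subtype.ext_iff] at hx
  exact (QuotientGroup.eq_one_iff _).mp hx

theorem isSolvable_sup_of_normal {H N : Subgroup G} [N.Normal] (hH : Group.IsSolvable H)
    (hN : Group.IsSolvable N) : Group.IsSolvable ↥(H ⊔ N) := by
  rw [← comap_map_mk'']
  exact isSolvable_comap_mk' hN (isSolvable_map hH _)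

theorem isSolvable_sup {H N : Subgroup G} (h : H ≤ normalizer (N : Set G))
    (hH : Group.IsSolvable H) (hN : Group.IsSolvable N) : Group.IsSolvable ↥(H ⊔ N) := by
  have : (N.subgroupOf (H ⊔ N)).Normal := normal_subgroupOf_sup_of_le_normalizer h
  apply isSolvable_of_top
  rw [← subgroupOf_self, subgroupOf_sup le_sup_left le_sup_right]
  exact isSolvable_sup_of_normal (isSolvable_subgroupOf hH _) (isSolvable_subgroupOf hN _)

theorem isSolvable_quotient_of_sup_eq_top {H N : Subgroup G} [N.Normal] (h : H ⊔ N = ⊤)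
    (hH : Group.IsSolvable H) : Group.IsSolvable (G ⧸ N) := by
  apply isSolvable_of_top
  rw [← map_mk'_eq_top_iff.mpr h]
  exact isSolvable_map hH _

theorem isSolvable_of_quotient_of_disjoint {H N : Subgroup G} [N.Normal] (h : H ⊓ N = ⊥)
    (hq : Group.IsSolvable (G ⧸ N)) : Group.IsSolvable H := by
  apply Group.isSolvable_of_isSolvable_injective (f := (QuotientGroup.mk' N).comp H.subtype)
  rw [← MonoidHom.ker_eq_bot_iff, eq_bot_iff]
  intro x hx
  have hx' : (x : G) ∈ H ⊓ N := ⟨x.2, (QuotientGroup.eq_one_iff _).mp hx⟩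
  rw [h] at hx'
  exact Subtype.ext hx'

theorem isNilpotent_of_injective {f : G →* G'} (hf : Function.Injective f)
    [Group.IsNilpotent G'] : Group.IsNilpotent G :=
  Group.nilpotent_of_mulEquiv (MonoidHom.ofInjective hf).symm

theorem isNilpotent_of_le {H K : Subgroup G} (hK : Group.IsNilpotent K) (h : H ≤ K) :
    Group.IsNilpotent H :=
  isNilpotent_of_injective (inclusion_injective h)

theorem isNilpotent_map {H : Subgroup G} (hH : Group.IsNilpotent H) (f : G →* G') :
    Group.IsNilpotent (H.map f) :=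
  Group.nilpotent_of_surjective _ (f.subgroupMap_surjective H)

theorem isNilpotent_subgroupOf {H : Subgroup G} (hH : Group.IsNilpotent H) (L : Subgroup G) :
    Group.IsNilpotent (H.subgroupOf L) := by
  have : Group.IsNilpotent ↥(H ⊓ L) := isNilpotent_of_le hH inf_le_left
  rw [← inf_subgroupOf_right]
  exact Group.nilpotent_of_mulEquiv (subgroupOfEquivOfLe (inf_le_right : H ⊓ L ≤ L)).symm

theorem isNilpotent_of_subgroupOf {H L : Subgroup G} (h : H ≤ L)
    (hH : Group.IsNilpotent (H.subgroupOf L)) : Group.IsNilpotent H :=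
  Group.nilpotent_of_mulEquiv (subgroupOfEquivOfLe h)

theorem isNilpotent_of_comm (h : IsMulCommutative G) : Group.IsNilpotent G := by
  let : CommGroup G := { ‹Group G› with mul_comm := h.is_comm.comm }
  infer_instance

theorem isSolvable_of_comm' (h : IsMulCommutative G) : Group.IsSolvable G :=
  Group.isSolvable_of_comm h.is_comm.comm

theorem isSolvable_of_isPGroup [Finite G] {p : ℕ} [Fact p.Prime] (h : IsPGroup p G) :
    Group.IsSolvable G := by
  have := h.isNilpotent
  infer_instance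

theorem isNilpotent_iff_sylow_normal [Finite G] :
    Group.IsNilpotent G ↔ ∀ (p : ℕ) (_ : Fact p.Prime) (P : Sylow p G), (P : Subgroup G).Normal :=
  (Group.isNilpotent_of_finite_tfae (G := G)).out 0 3

theorem isNilpotent_iff_coatom_normal [Finite G] :
    Group.IsNilpotent G ↔ ∀ H : Subgroup G, IsCoatom H → H.Normal :=
  (Group.isNilpotent_of_finite_tfae (G := G)).out 0 2

theorem isPGroup_subgroupOf {p : ℕ} {H : Subgroup G} (hH : IsPGroup p H) (L : Subgroup G) :
    IsPGroup p (H.subgroupOf L) := hH.comap_subtype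

theorem isPGroup_of_subgroupOf {p : ℕ} {H L : Subgroup G} (h : H ≤ L)
    (hH : IsPGroup p (H.subgroupOf L)) : IsPGroup p H :=
  hH.of_equiv (subgroupOfEquivOfLe h)

theorem isPGroup_smul {α : Type*} [Group α] [MulDistribMulAction α G] {p : ℕ} {H : Subgroup G}
    (hH : IsPGroup p H) (a : α) : IsPGroup p ↥(a • H) := hH.of_equiv (equivSMul a H)

theorem isPGroup_iff_mem {p : ℕ} {H : Subgroup G} :
    IsPGroup p H ↔ ∀ x ∈ H, ∃ k : ℕ, x ^ p ^ k = 1 := by
  constructor
  · intro h x hx
    obtain ⟨k, hk⟩ := h ⟨x, hx⟩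
    exact ⟨k, congrArg Subtype.val hk⟩
  · intro h x
    obtain ⟨k, hk⟩ := h x x.2
    exact ⟨k, Subtype.ext hk⟩

theorem IsPGroup_coprime_card [Finite G] {p : ℕ} [Fact p.Prime] (h : IsPGroup p G) {n : ℕ}
    (hn : n.Coprime p) : (Nat.card G).Coprime n := by
  obtain ⟨k, hk⟩ := h.exists_card_eq
  rw [hk]
  exact Nat.Coprime.pow_left k hn.symm

theorem eq_bot_of_isPGroup_of_coprime [Finite G] {p : ℕ} [Fact p.Prime] {H : Subgroup G}
    (h : IsPGroup p H) (hn : (Nat.card H).Coprime p) : H = ⊥ := by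
  have := IsPGroup_coprime_card h hn
  rwa [Nat.coprime_self, ← eq_bot_iff_card] at this

theorem dvd_card_of_isPGroup_of_ne_bot [Finite G] {p : ℕ} [Fact p.Prime] {H : Subgroup G}
    (h : IsPGroup p H) (hn : H ≠ ⊥) : p ∣ Nat.card H := by
  by_contra hd
  exact hn (eq_bot_of_isPGroup_of_coprime h
    ((Nat.Prime.coprime_iff_not_dvd Fact.out).mpr hd).symm)

/-! ### Extremal subgroups -/

theorem exists_maximal_ge [Finite G] {P : Subgroup G → Prop} {H : Subgroup G} (h : P H) :
    ∃ M, H ≤ M ∧ P M ∧ ∀ K, P K → M ≤ K → K = M := by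
  obtain ⟨M, hM⟩ := (Set.toFinite {K | P K ∧ H ≤ K}).exists_maximal ⟨H, h, le_rfl⟩
  exact ⟨M, hM.prop.2, hM.prop.1, fun K hK hMK =>
    le_antisymm (hM.le_of_ge ⟨hK, hM.prop.2.trans hMK⟩ hMK) hMK⟩

theorem exists_minimal_le [Finite G] {P : Subgroup G → Prop} {H : Subgroup G} (h : P H) :
    ∃ M, M ≤ H ∧ P M ∧ ∀ K, P K → K ≤ M → K = M := by
  obtain ⟨M, hM⟩ := (Set.toFinite {K | P K ∧ K ≤ H}).exists_minimal ⟨H, h, le_rfl⟩
  exact ⟨M, hM.prop.2, hM.prop.1, fun K hK hMK =>
    le_antisymm hMK (hM.le_of_le ⟨hK, hMK.trans hM.prop.2⟩ hMK)⟩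

theorem exists_coatom_ge [Finite G] {H : Subgroup G} (h : H ≠ ⊤) :
    ∃ M, IsCoatom M ∧ H ≤ M :=
  (eq_top_or_exists_le_coatom H).resolve_left h

theorem sSup_mem_of_sup_closed [Finite G] {S : Set (Subgroup G)} (hbot : ⊥ ∈ S)
    (hsup : ∀ A ∈ S, ∀ B ∈ S, A ⊔ B ∈ S) : sSup S ∈ S :=
  SupClosed.sSup_mem (fun A hA B hB => hsup A hA B hB) (Set.toFinite S) hbot subset_rfl

/-- `M` is a minimal normal subgroup of `G`. -/
def IsMinNormal (M : Subgroup G) : Prop :=
  M.Normal ∧ M ≠ ⊥ ∧ ∀ K : Subgroup G, K.Normal → K ≤ M → K = ⊥ ∨ K = M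

theorem exists_minNormal_le [Finite G] {N : Subgroup G} [hN : N.Normal] (h : N ≠ ⊥) :
    ∃ M, M ≤ N ∧ IsMinNormal M := by
  obtain ⟨M, hMN, ⟨h1, h2⟩, h3⟩ :=
    exists_minimal_le (P := fun K : Subgroup G => K.Normal ∧ K ≠ ⊥) ⟨hN, h⟩
  refine ⟨M, hMN, h1, h2, fun K hK hKM => ?_⟩
  by_cases hK' : K = ⊥
  · exact Or.inl hK'
  · exact Or.inr (h3 K ⟨hK, hK'⟩ hKM)

theorem exists_minNormal [Finite G] [Nontrivial G] : ∃ M : Subgroup G, IsMinNormal M := by
  obtain ⟨M, -, hM⟩ := exists_minNormal_le (N := (⊤ : Subgroup G)) top_ne_bot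
  exact ⟨M, hM⟩

theorem IsMinNormal.isMulCommutative {M : Subgroup G} (hM : IsMinNormal M)
    (hs : Group.IsSolvable M) : IsMulCommutative M := by
  have := hM.1
  have hlt : ⁅M, M⁆ < M := by
    have := (nontrivial_iff_ne_bot M).mpr hM.2.1
    rw [← map_subtype_commutator]
    conv_rhs => rw [← M.range_subtype, MonoidHom.range_eq_map]
    rw [map_subtype_lt_map_subtype]
    exact Group.IsSolvable.commutator_lt_top_of_nontrivial M
  exact commutator_self_eq_bot_iff.mp
    ((hM.2.2 _ inferInstance hlt.le).resolve_right hlt.ne)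

/-- The elements of an abelian subgroup killed by the `n`-th power map. -/
def powKer (M : Subgroup G) (hM : IsMulCommutative M) (n : ℕ) : Subgroup G where
  carrier := {x | x ∈ M ∧ x ^ n = 1}
  mul_mem' := by
    rintro a b ⟨ha, ha'⟩ ⟨hb, hb'⟩
    refine ⟨mul_mem ha hb, ?_⟩
    have : Commute a b := isMulCommutative_iff_mem.mp hM a ha b hb
    rw [this.mul_pow, ha', hb', one_mul]
  one_mem' := ⟨one_mem _, one_pow _⟩
  inv_mem' := by
    rintro a ⟨ha, ha'⟩
    exact ⟨inv_mem ha, by rw [inv_pow, ha', inv_one]⟩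

theorem mem_powKer {M : Subgroup G} {hM : IsMulCommutative M} {n : ℕ} {x : G} :
    x ∈ powKer M hM n ↔ x ∈ M ∧ x ^ n = 1 := Iff.rfl

theorem powKer_le (M : Subgroup G) (hM : IsMulCommutative M) (n : ℕ) : powKer M hM n ≤ M :=
  fun _ h => h.1

theorem normalizer_le_normalizer_powKer (M : Subgroup G) (hM : IsMulCommutative M) (n : ℕ) :
    normalizer (M : Set G) ≤ normalizer (powKer M hM n : Set G) := by
  rw [le_normalizer_iff]
  rintro g hg x ⟨hx, hx'⟩
  refine ⟨conj_mem_of_mem_normalizer hg hx, ?_⟩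
  rw [conj_pow, hx', mul_one, mul_inv_cancel]

theorem powKer_normal (M : Subgroup G) [M.Normal] (hM : IsMulCommutative M) (n : ℕ) :
    (powKer M hM n).Normal := by
  rw [normal_iff_top_le_normalizer, ← normalizer_eq_top M]
  exact normalizer_le_normalizer_powKer M hM n

theorem exists_prime_orderOf_mem [Finite G] {H : Subgroup G} {p : ℕ} (hp : p.Prime)
    (h : p ∣ Nat.card H) : ∃ x ∈ H, orderOf x = p := by
  have := Fact.mk hp
  obtain ⟨x, hx⟩ := exists_prime_orderOf_dvd_card' p h
  exact ⟨x, x.2, by rw [← hx, orderOf_coe]⟩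

theorem exists_prime_dvd_card [Finite G] {H : Subgroup G} (h : H ≠ ⊥) :
    ∃ p : ℕ, p.Prime ∧ p ∣ Nat.card H :=
  Nat.exists_prime_and_dvd (fun e => h ((eq_bot_iff_card H).mpr e))

theorem IsMinNormal.exists_prime_pow_eq_one [Finite G] {M : Subgroup G} (hM : IsMinNormal M)
    (hs : IsMulCommutative M) : ∃ p : ℕ, p.Prime ∧ ∀ x ∈ M, x ^ p = 1 := by
  obtain ⟨p, hp, hd⟩ := exists_prime_dvd_card hM.2.1
  obtain ⟨x, hx, hxp⟩ := exists_prime_orderOf_mem hp hd
  have := hM.1
  refine ⟨p, hp, ?_⟩
  rcases hM.2.2 _ (powKer_normal M hs p) (powKer_le M hs p) with h | h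
  · have : x ∈ powKer M hs p := ⟨hx, hxp ▸ pow_orderOf_eq_one x⟩
    rw [h, mem_bot] at this
    rw [this, orderOf_one] at hxp
    exact absurd hxp.symm hp.ne_one
  · intro y hy
    rw [← h] at hy
    exact hy.2

theorem isPGroup_of_pow_eq_one {p : ℕ} {M : Subgroup G} (h : ∀ x ∈ M, x ^ p = 1) :
    IsPGroup p M :=
  isPGroup_iff_mem.mpr fun x hx => ⟨1, by rw [pow_one, h x hx]⟩

theorem IsMinNormal.isElementaryAbelian [Finite G] {M : Subgroup G} (hM : IsMinNormal M)
    (hs : Group.IsSolvable M) : ∃ p : ℕ, p.Prime ∧ IsElementaryAbelian p M := by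
  obtain ⟨p, hp, h⟩ := hM.exists_prime_pow_eq_one (hM.isMulCommutative hs)
  exact ⟨p, hp, hM.isMulCommutative hs, h⟩

theorem IsMinNormal.exists_isPGroup [Finite G] {M : Subgroup G} (hM : IsMinNormal M)
    (hs : Group.IsSolvable M) : ∃ p : ℕ, p.Prime ∧ IsPGroup p M := by
  obtain ⟨p, hp, h⟩ := hM.isElementaryAbelian hs
  exact ⟨p, hp, isPGroup_of_pow_eq_one h.2⟩

/-- A nontrivial solvable normal subgroup contains an elementary abelian minimal normal
subgroup. -/
theorem exists_minNormal_elementaryAbelian_le [Finite G] {N : Subgroup G} [N.Normal] (h : N ≠ ⊥)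
    (hs : Group.IsSolvable N) :
    ∃ (M : Subgroup G) (p : ℕ), M ≤ N ∧ IsMinNormal M ∧ p.Prime ∧ IsElementaryAbelian p M ∧
      IsPGroup p M := by
  obtain ⟨M, hMN, hM⟩ := exists_minNormal_le h
  obtain ⟨p, hp, he⟩ := hM.isElementaryAbelian (isSolvable_of_le hs hMN)
  exact ⟨M, p, hMN, hM, hp, he, isPGroup_of_pow_eq_one he.2⟩

theorem exists_minNormal_elementaryAbelian [Finite G] [Nontrivial G] [Group.IsSolvable G] :
    ∃ (M : Subgroup G) (p : ℕ), IsMinNormal M ∧ p.Prime ∧ IsElementaryAbelian p M ∧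
      IsPGroup p M := by
  obtain ⟨M, p, -, h⟩ := exists_minNormal_elementaryAbelian_le (N := (⊤ : Subgroup G)) top_ne_bot
    inferInstance
  exact ⟨M, p, h⟩

end Cfsg.Agent.Core
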