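import Cfsg.Agent.Core.Systems
import Cfsg.Agent.Char.Integral

/-! The Kegel-Wielandt theorem: a product of two nilpotent subgroups is solvable. -/

set_option autoImplicit false

namespace Cfsg.Agent.Core

open Subgroup
open scoped Pointwise commutatorElement

universe u v

variable {G : Type u} [Group G] {G' : Type v} [Group G']

theorem IsProd.exists_isProd_isSylowIn [Finite G] {p : ℕ} [hp : Fact p.Prime]
    {L A B P Q : Subgroup G} (h : IsProd L A B) (hP : IsSylowIn p P A) (hQ : IsSylowIn p Q B)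
    (hA : A ≤ normalizer (P : Set G)) (hB : B ≤ normalizer (Q : Set G)) :
    ∃ S, IsSylowIn p S L ∧ IsProd S P Q := by
  obtain ⟨S, hS, hPS⟩ := exists_isSylowIn_ge (hP.1.trans h.left) hP.2.1
  obtain ⟨x, hx, hQS⟩ := hS.exists_le_conj (hQ.1.trans h.right) hQ.2.1
  obtain ⟨b, hb, a, ha, rfl⟩ := h.symm.exists_mul x hx
  have hS' := hS.conj_of_mem_normalizer (le_normalizer (h.left ha))
  have h1 : P ≤ MulAut.conj a • S := by
    rw [← conj_smul_eq_of_mem_normalizer (hA ha)]
    exact pointwise_smul_le_pointwise_smul_iff.mpr hPS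
  have h2 : Q ≤ MulAut.conj a • S := by
    rwa [← conj_smul_conj_smul, le_conj_smul_iff_inv_le,
      conj_smul_eq_of_mem_normalizer (hB (inv_mem hb))] at hQS
  refine ⟨_, hS', isProd_of_card h1 h2 ?_⟩
  obtain ⟨T, hT, hle⟩ := exists_isSylowIn_ge (inf_le_inf hP.1 hQ.1) (hP.2.1.to_le inf_le_left)
  have e := h.card
  rw [← card_mul_relIndex hS'.1, ← card_mul_relIndex hT.1, ← card_mul_relIndex hP.1,
    ← card_mul_relIndex hQ.1, mul_mul_mul_comm, mul_mul_mul_comm (Nat.card P)] at e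
  have k : ∀ {X Y : Subgroup G}, IsSylowIn p X Y →
      IsPiNum {p} (Nat.card X) ∧ IsPiNum ({p} : Set ℕ)ᶜ (X.relIndex Y) := fun h =>
    (isPiHallOf_iff.mp (isSylowIn_iff_isPiHallOf.mp h)).2
  rw [← IsPiNum.eq_of_mul_eq ((k hS').1.mul (k hT).1) ((k hP).1.mul (k hQ).1)
    ((k hS').2.mul (k hT).2) ((k hP).2.mul (k hQ).2) e]
  exact Nat.mul_le_mul_left _ (card_le_of_le hle)

theorem exists_pCore_ne_bot [Finite G] [Nontrivial G] [Group.IsSolvable G] :
    ∃ p : ℕ, p.Prime ∧ pCore p G ≠ ⊥ := by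
  by_contra! h
  exact fitting_ne_bot (G := G) (eq_bot_iff.mpr (fitting_le_iff.mpr fun p hp => (h p hp.out).le))

theorem exists_isPGroup_normalizer_le [Finite G] {H : Subgroup G} (hs : Group.IsSolvable H)
    (hne : H ≠ ⊥) : ∃ (U : Subgroup G) (t : ℕ), t.Prime ∧ IsPGroup t U ∧ U ≤ H ∧ U ≠ ⊥ ∧
      normalizer (H : Set G) ≤ normalizer (U : Set G) := by
  have := (nontrivial_iff_ne_bot H).mpr hne
  obtain ⟨t, ht, h⟩ := exists_pCore_ne_bot (G := H)
  exact ⟨(pCore t H).map H.subtype, t, ht, (pCore_isPGroup t).map _, map_subtype_le _,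
    by rwa [Ne, map_eq_bot_iff_of_injective _ H.subtype_injective],
    normalizer_le_normalizer_map_characteristic H _⟩

theorem le_pPrimeCore_of_le_centralizer [Finite G] [Group.IsSolvable G] {p : ℕ} [Fact p.Prime]
    {P T : Subgroup G} (hP : IsSylowIn p P ⊤) (hT : (Nat.card T).Coprime p)
    (h : T ≤ centralizer (P : Set G)) : T ≤ pPrimeCore p G := by
  have h1 := hP.map (QuotientGroup.mk' (pPrimeCore p G))
  rw [map_top_of_surjective _ (QuotientGroup.mk'_surjective _)] at h1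
  have h2 : pCore p _ ≤ P.map (QuotientGroup.mk' (pPrimeCore p G)) :=
    h1.le_of_le_normalizer (pCore_isPGroup p) le_top (Or.inl le_normalizer_of_normal)
  have h3 : T.map (QuotientGroup.mk' (pPrimeCore p G)) ≤ pCore p _ := by
    refine le_trans ?_ (centralizer_pCore_le p (pPrimeCore_quotient_pPrimeCore p))
    refine le_trans ?_ (centralizer_anti h2)
    rw [← commutator_eq_bot_iff_le_centralizer, ← map_commutator,
      commutator_eq_bot_iff_le_centralizer.mpr h, Subgroup.map_bot]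
  rw [← map_mk'_eq_bot_iff]
  exact eq_bot_of_isPGroup_of_coprime ((pCore_isPGroup p).to_le h3)
    (hT.coprime_dvd_left (card_map_dvd _ _))

theorem le_map_pPrimeCore_of_le_centralizer [Finite G] {p : ℕ} [Fact p.Prime]
    {P T X : Subgroup G} (hs : Group.IsSolvable X) (hP : IsSylowIn p P X) (hTX : T ≤ X)
    (hT : (Nat.card T).Coprime p) (h : T ≤ centralizer (P : Set G)) :
    T ≤ (pPrimeCore p X).map X.subtype := by
  rw [← map_subgroupOf_eq_of_le hTX]
  refine map_mono (le_pPrimeCore_of_le_centralizer (P := P.subgroupOf X)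
    (by simpa using hP.subgroupOf le_rfl) (by rwa [card_subgroupOf_of_le hTX]) ?_)
  rw [centralizer_subgroupOf hP.1]
  exact subgroupOf_mono X h

theorem IsProd.isPiHallOf [Finite G] {M Y Z A B : Subgroup G} (h : IsProd M Y Z) (hY : Y ≤ A)
    (hZ : Z ≤ B) (hc : (Nat.card A).Coprime (Nat.card B)) :
    IsPiHallOf {p | p ∣ Nat.card A} Y M :=
  isPiHallOf_iff.mpr ⟨h.left, (isPiNum_primes_dvd _).of_dvd (card_dvd_of_le hY),
    isPiNum_compl_primes_dvd_iff.mpr
      (hc.symm.coprime_dvd_left (h.relIndex_dvd.trans (card_dvd_of_le hZ)))⟩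

theorem isPGroup_zpowers_of_prime {x : G} (_h : (orderOf x).Prime) :
    IsPGroup (orderOf x) (zpowers x) := IsPGroup.of_card (n := 1) (by simp)

theorem exists_mem_center_orderOf [Finite G] {A : Subgroup G} (hA : Group.IsNilpotent A) {r : ℕ}
    (hr : r.Prime) (hd : r ∣ Nat.card A) :
    ∃ z ∈ A, z ∈ centralizer (A : Set G) ∧ orderOf z = r := by
  have := Fact.mk hr
  obtain ⟨R, hR⟩ := exists_isSylowIn r A
  have h1 := inf_centralizer_ne_bot hA hR.1 (hR.le_normalizer_of_isNilpotent hA) (hR.ne_bot hd)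
  obtain ⟨z, hz, e⟩ := exists_prime_orderOf_mem hr
    (dvd_card_of_isPGroup_of_ne_bot (hR.2.1.to_le inf_le_left) h1)
  exact ⟨z, hR.1 hz.1, hz.2, e⟩

/-- The situation of a simple minimal counterexample. -/
private structure KW (A B : Subgroup G) : Prop where
  prod : IsProd ⊤ A B
  nilA : Group.IsNilpotent A
  nilB : Group.IsNilpotent B
  cop : (Nat.card A).Coprime (Nat.card B)
  simple : ∀ N : Subgroup G, N.Normal → N = ⊥ ∨ N = ⊤
  solv : ∀ X Y Z : Subgroup G, X ≠ ⊤ → IsProd X Y Z → Group.IsNilpotent Y →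
    Group.IsNilpotent Z → Group.IsSolvable X
  twoA : ∀ p : ℕ, ∃ r : ℕ, r.Prime ∧ r ≠ p ∧ r ∣ Nat.card A
  twoB : ∀ p : ℕ, ∃ r : ℕ, r.Prime ∧ r ≠ p ∧ r ∣ Nat.card B

namespace KW

variable [Finite G] {A B : Subgroup G}

omit [Finite G] in
private theorem symm (h : KW A B) : KW B A :=
  ⟨h.prod.symm, h.nilB, h.nilA, h.cop.symm, h.simple, h.solv, h.twoB, h.twoA⟩

omit [Finite G] in
private theorem conj (h : KW A B) (g : G) : KW A (MulAut.conj g • B) :=
  ⟨h.prod.conj_right (mem_top g), h.nilA, isNilpotent_map h.nilB _, by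
    rw [card_smul]; exact h.cop, h.simple, h.solv, h.twoA, by rw [card_smul]; exact h.twoB⟩

omit [Finite G] in
private theorem normalizer_ne (h : KW A B) {U : Subgroup G} (h1 : U ≠ ⊥) (h2 : U ≠ ⊤) :
    normalizer (U : Set G) ≠ ⊤ := fun e =>
  (h.simple U (normalizer_eq_top_iff.mp e)).elim h1 h2

private theorem normalizer_ne' (h : KW A B) {U : Subgroup G} (h1 : U ≠ ⊥) {p : ℕ}
    [hp : Fact p.Prime] (h2 : IsPGroup p U) : normalizer (U : Set G) ≠ ⊤ := by
  refine h.normalizer_ne h1 fun e => ?_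
  obtain ⟨r, hr, hrp, hd⟩ := h.twoA p
  exact hrp (isPiNum_singleton_card_iff.mpr h2 r hr (hd.trans (card_dvd_of_le (e ▸ le_top))))

private theorem hall (h : KW A B) : IsPiHallOf {p | p ∣ Nat.card A} A ⊤ :=
  h.prod.isPiHallOf le_rfl le_rfl h.cop

private theorem sylow (h : KW A B) {r : ℕ} [hr : Fact r.Prime] {R : Subgroup G}
    (hR : IsSylowIn r R A) (hd : ¬ r ∣ Nat.card B) : IsSylowIn r R ⊤ :=
  hR.trans le_top fun h1 => hd (h1.trans h.prod.relIndex_dvd)

omit [Finite G] in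
private theorem not_dvd (h : KW A B) {r : ℕ} (hr : r.Prime) (hd : r ∣ Nat.card A) :
    ¬ r ∣ Nat.card B := hr.coprime_iff_not_dvd.mp (h.cop.coprime_dvd_left hd)

private theorem star (h : KW A B) {p q : ℕ} [hp : Fact p.Prime] [hq : Fact q.Prime]
    {A₁ B₁ : Subgroup G} (lA : A₁ ≤ A) (pA : IsPGroup p A₁) (nA : A ≤ normalizer (A₁ : Set G))
    (eA : A₁ ≠ ⊥) (lB : B₁ ≤ B) (pB : IsPGroup q B₁) (nB : B ≤ normalizer (B₁ : Set G))
    (eB : B₁ ≠ ⊥) (hne : A₁ ⊔ B₁ ≠ ⊤) :
    IsPiNum ({p} ∪ {q}) (Nat.card ↥(A₁ ⊔ B₁)) ∧ ∃ X, X ≠ ⊤ ∧ A₁ ⊔ B₁ ≤ X ∧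
      ((∀ R ≤ A, (Nat.card R).Coprime p → R ≤ X) ∨ (∀ R ≤ B, (Nat.card R).Coprime q → R ≤ X)) := by
  have hM := h.prod.normalizer_sup nA nB
  have h0 : A₁ ⊔ B₁ ≠ ⊥ := fun e => eA (eq_bot_iff.mpr (e ▸ le_sup_left))
  have hs := h.solv _ _ _ (h.normalizer_ne h0 hne) hM (isNilpotent_of_le h.nilA inf_le_right)
    (isNilpotent_of_le h.nilB inf_le_right)
  have h1 : IsPiNum ({p} ∪ {q}) (Nat.card ↥(A₁ ⊔ B₁)) := hM.isPiNum_sup hs
    (le_sup_left.trans le_normalizer) (le_sup_right.trans le_normalizer) (inf_le_right.trans nA)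
    (inf_le_right.trans nB) (isPiNum_card_of_isPGroup pA (Or.inl rfl))
    (isPiNum_card_of_isPGroup pB (Or.inr rfl))
  refine ⟨h1, ?_⟩
  obtain ⟨U, t, ht, hU, hUH, hU1, hn⟩ := exists_isPGroup_normalizer_le
    (isSolvable_of_le hs le_normalizer) h0
  have := Fact.mk ht
  refine ⟨normalizer (U : Set G), h.normalizer_ne' hU1 hU, le_normalizer.trans hn, ?_⟩
  rcases h1 t ht ((dvd_card_of_isPGroup_of_ne_bot hU hU1).trans (card_dvd_of_le hUH)) with
    rfl | rfl
  · left
    intro R hR hc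
    have h2 := le_of_isPiHallOf_of_le_normalizer (hM.isPiHallOf inf_le_right inf_le_right h.cop)
      (isPiNum_card_of_isPGroup hU ((dvd_card_of_isPGroup_of_ne_bot pA eA).trans
        (card_dvd_of_le lA))) (hUH.trans le_normalizer) (Or.inl (inf_le_left.trans hn))
    exact (le_centralizer_of_isNilpotent_of_coprime h.nilA hR (h2.trans inf_le_right)
      (IsPGroup_coprime_card hU hc).symm).trans (centralizer_le_normalizer _)
  · right
    intro R hR hc
    have h2 := le_of_isPiHallOf_of_le_normalizer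
      (hM.symm.isPiHallOf inf_le_right inf_le_right h.cop.symm)
      (isPiNum_card_of_isPGroup hU ((dvd_card_of_isPGroup_of_ne_bot pB eB).trans
        (card_dvd_of_le lB))) (hUH.trans le_normalizer) (Or.inl (inf_le_left.trans hn))
    exact (le_centralizer_of_isNilpotent_of_coprime h.nilB hR (h2.trans inf_le_right)
      (IsPGroup_coprime_card hU hc).symm).trans (centralizer_le_normalizer _)

private theorem gen_sylow (h : KW A B) {r s : ℕ} [hr : Fact r.Prime] [hs : Fact s.Prime]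
    {R S : Subgroup G} (hR : IsSylowIn r R A) (hS : IsSylowIn s S B) (eR : R ≠ ⊥) (eS : S ≠ ⊥) :
    R ⊔ S = ⊤ := by
  by_contra hne
  have nR := hR.le_normalizer_of_isNilpotent h.nilA
  have nS := hS.le_normalizer_of_isNilpotent h.nilB
  have hR' := h.sylow hR (h.not_dvd hr.out
    ((dvd_card_of_isPGroup_of_ne_bot hR.2.1 eR).trans (card_dvd_of_le hR.1)))
  have hS' := h.symm.sylow hS (h.symm.not_dvd hs.out
    ((dvd_card_of_isPGroup_of_ne_bot hS.2.1 eS).trans (card_dvd_of_le hS.1)))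
  have h1 := isProd_of_isPiNum le_sup_left le_sup_right
    (isPiHallOf_iff.mp (isSylowIn_iff_isPiHallOf.mp (hR'.of_le le_sup_left le_top))).2.2
    (isPiHallOf_iff.mp (isSylowIn_iff_isPiHallOf.mp (hS'.of_le le_sup_right le_top))).2.2
    (h.star hR.1 hR.2.1 nR eR hS.1 hS.2.1 nS eS hne).1
  obtain ⟨N, hN, h2, h3⟩ := kegel_lemma (A := R) (B := S) fun x => by
    obtain ⟨a, ha, b, hb, rfl⟩ := h.prod.exists_mul x (mem_top x)
    refine ⟨MulAut.conj a • (R ⊔ S), by rwa [Ne, smul_eq_top_iff], ?_⟩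
    have := h1.conj a
    rwa [conj_smul_eq_of_mem_normalizer (nR ha), ← conj_smul_eq_of_mem_normalizer (nS hb),
      conj_smul_conj_smul, smul_sup, conj_smul_eq_of_mem_normalizer (nR ha),
      conj_smul_conj_smul, ← conj_smul_conj_smul S a b, conj_smul_eq_of_mem_normalizer (nS hb),
      ← conj_smul_eq_of_mem_normalizer (nR ha), ← smul_sup,
      conj_smul_eq_of_mem_normalizer (nR ha), ← conj_smul_eq_of_mem_normalizer (nS hb),
      conj_smul_conj_smul, conj_smul_eq_of_mem_normalizer (nS hb)] at this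
  rcases h.simple N hN with rfl | rfl
  · exact h3.elim (fun h => eR (eq_bot_iff.mpr h)) fun h => eS (eq_bot_iff.mpr h)
  · exact h2 rfl

omit [Finite G] in
private theorem gen_left (h : KW A B) {B₁ X : Subgroup G} (nB : B ≤ normalizer (B₁ : Set G))
    (eB : B₁ ≠ ⊥) (h1 : A ≤ X) (h2 : B₁ ≤ X) : X = ⊤ := by
  have := h.prod.symm.le_normalCore nB h2 h1
  rcases h.simple _ X.normalCore_normal with e | e
  · exact absurd (eq_bot_iff.mpr (e ▸ this)) eB
  · exact eq_top_iff.mpr (e ▸ X.normalCore_le)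

private theorem gen_aux (h : KW A B) {p q : ℕ} [hp : Fact p.Prime] [hq : Fact q.Prime]
    {B₁ X : Subgroup G} (lB : B₁ ≤ B) (pB : IsPGroup q B₁) (nB : B ≤ normalizer (B₁ : Set G))
    (eB : B₁ ≠ ⊥) (h1 : B₁ ≤ X) (h2 : ∀ R ≤ A, (Nat.card R).Coprime p → R ≤ X) : X = ⊤ := by
  obtain ⟨r, hr, hrp, hd⟩ := h.twoA p
  have := Fact.mk hr
  obtain ⟨R, hR⟩ := exists_isSylowIn r A
  have hRX := h2 R hR.1 (IsPGroup_coprime_card hR.2.1 ((Nat.coprime_primes hp.out hr).mpr hrp.symm))
  by_contra hX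
  obtain ⟨-, Y, hY, h3, h4 | h4⟩ := h.star hR.1 hR.2.1 (hR.le_normalizer_of_isNilpotent h.nilA)
    (hR.ne_bot hd) lB pB nB eB fun e => hX (eq_top_iff.mpr (e ▸ sup_le hRX h1))
  · refine hY (h.gen_left nB eB (le_of_forall_isSylowIn_le fun t ht => ?_) (le_sup_right.trans h3))
    by_cases htr : t = r
    · subst htr; exact ⟨R, hR, le_sup_left.trans h3⟩
    · obtain ⟨T, hT⟩ := exists_isSylowIn t A
      exact ⟨T, hT, h4 T hT.1 (IsPGroup_coprime_card hT.2.1
        ((Nat.coprime_primes hr ht.out).mpr (Ne.symm htr)))⟩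
  · obtain ⟨s, hs, hsq, hd'⟩ := h.twoB q
    have := Fact.mk hs
    obtain ⟨S, hS⟩ := exists_isSylowIn s B
    refine hY (eq_top_iff.mpr (h.gen_sylow hR hS (hR.ne_bot hd) (hS.ne_bot hd') ▸
      sup_le (le_sup_left.trans h3) (h4 S hS.1 ?_)))
    exact IsPGroup_coprime_card hS.2.1 ((Nat.coprime_primes hq.out hs).mpr hsq.symm)

private theorem gen (h : KW A B) {p q : ℕ} [hp : Fact p.Prime] [hq : Fact q.Prime]
    {A₁ B₁ : Subgroup G} (lA : A₁ ≤ A) (pA : IsPGroup p A₁) (nA : A ≤ normalizer (A₁ : Set G))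
    (eA : A₁ ≠ ⊥) (lB : B₁ ≤ B) (pB : IsPGroup q B₁) (nB : B ≤ normalizer (B₁ : Set G))
    (eB : B₁ ≠ ⊥) : A₁ ⊔ B₁ = ⊤ := by
  by_contra hne
  obtain ⟨-, X, hX, h1, h2 | h2⟩ := h.star lA pA nA eA lB pB nB eB hne
  · exact hX (h.gen_aux lB pB nB eB (le_sup_right.trans h1) h2)
  · exact hX (h.symm.gen_aux lA pA nA eA (le_sup_left.trans h1) h2)

private theorem isPiNum_of_normalizer (h : KW A B) {z : G} (hz : z ∈ A)
    (hzc : z ∈ centralizer (A : Set G)) (hzp : (orderOf z).Prime) {K : Subgroup G}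
    (hK : z ∈ normalizer (K : Set G)) (hc : (orderOf z).Coprime (Nat.card K)) :
    IsPiNum {p | p ∣ Nat.card A} (Nat.card K) := by
  intro q hq hd
  by_contra hqA
  have := Fact.mk hq
  have := Fact.mk hzp
  obtain ⟨W, hW, hn⟩ := exists_invariant_isSylowIn (zpowers_le.mpr hK)
    (by rwa [Nat.card_zpowers]) (Or.inl (isSolvable_zpowers z)) q
  obtain ⟨S, hS⟩ := exists_isSylowIn q B
  obtain ⟨g, -, hg⟩ := (h.symm.sylow hS hqA).exists_le_conj le_top hW.2.1
  have hWB : W ≤ MulAut.conj g • B := hg.trans (pointwise_smul_le_pointwise_smul_iff.mpr hS.1)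
  have h' := h.conj g
  obtain ⟨y, hy, hyc, hyq⟩ := exists_mem_center_orderOf h'.nilB hq
    ((dvd_card_of_isPGroup_of_ne_bot hW.2.1 (hW.ne_bot hd)).trans (card_dvd_of_le hWB))
  have k : ∀ {C : Subgroup G} {x : G}, x ∈ centralizer (C : Set G) →
      C ≤ normalizer ((zpowers x : Subgroup G) : Set G) := fun hx =>
    le_trans (by rwa [centralizer_zpowers, le_centralizer_singleton_iff])
      (centralizer_le_normalizer _)
  have h1 := h'.gen (zpowers_le.mpr hz) (isPGroup_zpowers_of_prime hzp) (k hzc)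
    (by rw [Ne, zpowers_eq_bot]; rintro rfl; simp [Nat.not_prime_one] at hzp)
    (zpowers_le.mpr hy) (hyq ▸ isPGroup_zpowers_of_prime (hyq ▸ hq)) (k hyc)
    (by rw [Ne, zpowers_eq_bot]; rintro rfl; exact hq.ne_one (by rw [← hyq, orderOf_one]))
  exact h.normalizer_ne' (hW.ne_bot hd) hW.2.1 (eq_top_iff.mpr (h1 ▸ sup_le hn
    (zpowers_le.mpr (centralizer_le_normalizer _ (centralizer_anti hWB hyc)))))

private theorem le_normalizer_inf' (h : KW A B) {X : Subgroup G} (hs : Group.IsSolvable X)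
    (hH : IsPiHallOf {p | p ∣ Nat.card A} (X ⊓ A) X) (hZ : A ⊓ centralizer (A : Set G) ≤ X) :
    X ≤ normalizer ((X ⊓ A : Subgroup G) : Set G) := by
  have key : ∀ r : ℕ, r.Prime → r ∣ Nat.card A → ∃ O, O ≤ X ⊓ A ∧ X ≤ normalizer (O : Set G) ∧
      ∀ T ≤ X ⊓ A, (Nat.card T).Coprime r → T ≤ O := by
    intro r hr hd
    have := Fact.mk hr
    obtain ⟨z, hz, hzc, hzr⟩ := exists_mem_center_orderOf h.nilA hr hd
    have h1 := le_normalizer_map_subtype_of_normal (pPrimeCore r X)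
    refine ⟨_, le_of_isPiHallOf_of_le_normalizer hH (h.isPiNum_of_normalizer hz hzc (hzr ▸ hr)
      (h1 (hZ ⟨hz, hzc⟩)) ?_) (map_subtype_le _) (Or.inl (inf_le_left.trans h1)), h1,
      fun T hT hc => ?_⟩
    · rw [hzr, card_subtype]; exact (pPrimeCore_coprime r).symm
    · obtain ⟨P, hP⟩ := exists_isSylowIn r (X ⊓ A)
      exact le_map_pPrimeCore_of_le_centralizer hs
        (hP.trans inf_le_left fun h2 => (isPiHallOf_iff.mp hH).2.2 r hr h2 hd)
        (hT.trans inf_le_left) hc (le_centralizer_of_isNilpotent_of_coprime h.nilA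
          (hT.trans inf_le_right) (hP.1.trans inf_le_right) (IsPGroup_coprime_card hP.2.1 hc).symm)
  obtain ⟨r, hr, -, hd⟩ := h.twoA 0
  obtain ⟨s, hs, hsr, hd'⟩ := h.twoA r
  obtain ⟨O₁, a1, a2, a3⟩ := key r hr hd
  obtain ⟨O₂, b1, b2, b3⟩ := key s hs hd'
  have : X ⊓ A = O₁ ⊔ O₂ := by
    refine le_antisymm (le_of_forall_isSylowIn_le fun t ht => ?_) (sup_le a1 b1)
    obtain ⟨T, hT⟩ := exists_isSylowIn t (X ⊓ A)
    refine ⟨T, hT, ?_⟩
    by_cases htr : t = r
    · exact (b3 T hT.1 (IsPGroup_coprime_card hT.2.1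
        ((Nat.coprime_primes hs ht.out).mpr (htr ▸ hsr)))).trans le_sup_right
    · exact (a3 T hT.1 (IsPGroup_coprime_card hT.2.1
        ((Nat.coprime_primes hr ht.out).mpr (Ne.symm htr)))).trans le_sup_left
  rw [this]
  exact le_normalizer_sup a2 b2

private theorem le_normalizer_of_le (h : KW A B) {X : Subgroup G} (hX : X ≠ ⊤) (hA : A ≤ X) :
    X ≤ normalizer (A : Set G) := by
  have h1 := h.prod.of_le_left hA le_top
  have := h.le_normalizer_inf' (h.solv _ _ _ hX h1 h.nilA (isNilpotent_of_le h.nilB inf_le_right))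
    (by rw [inf_eq_right.mpr hA]; exact isPiHallOf_of_le h.hall hA le_top) (inf_le_left.trans hA)
  rwa [inf_eq_right.mpr hA] at this

private theorem normalizer_sylow_le (h : KW A B) {r : ℕ} [Fact r.Prime] {R : Subgroup G}
    (hR : IsSylowIn r R A) (eR : R ≠ ⊥) : normalizer (R : Set G) ≤ normalizer (A : Set G) :=
  h.le_normalizer_of_le (h.normalizer_ne' eR hR.2.1) (hR.le_normalizer_of_isNilpotent h.nilA)

private theorem le_of_le_normalizer (h : KW A B) {U : Subgroup G} (hU : U ≤ normalizer (A : Set G))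
    (hπ : IsPiNum {p | p ∣ Nat.card A} (Nat.card U)) : U ≤ A :=
  le_of_isPiHallOf_of_le_normalizer h.hall hπ le_top (Or.inr hU)

private theorem mem_normalizer_of_mem_conj (h : KW A B) {d g : G} (hd : (orderOf d).Prime)
    (hc : centralizer {d} ≤ normalizer (A : Set G)) (hg : d ∈ MulAut.conj g • A) :
    g ∈ normalizer (A : Set G) := by
  obtain ⟨r, hr, hrp, hrd⟩ := h.twoA (orderOf d)
  have := Fact.mk hr
  obtain ⟨R, hR⟩ := exists_isSylowIn r A
  have hR' := hR.conj g
  have h1 := le_centralizer_of_isNilpotent_of_coprime (h.symm.conj g).nilB hR'.1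
    (zpowers_le.mpr hg) (IsPGroup_coprime_card hR'.2.1 (by
      rw [Nat.card_zpowers]; exact (Nat.coprime_primes hd hr).mpr hrp.symm))
  rw [centralizer_zpowers] at h1
  have h2 := h.le_of_le_normalizer (h1.trans hc) (isPiNum_card_of_isPGroup hR'.2.1 hrd)
  have h3 := hR.le_of_le_normalizer hR'.2.1 h2
    (Or.inr (h2.trans (hR.le_normalizer_of_isNilpotent h.nilA)))
  exact h.normalizer_sylow_le hR (hR.ne_bot hrd) (conj_smul_eq_iff.mp (conj_smul_eq_of_le h3))

private theorem centralizer_ne (h : KW A B) {d : G} (hd : (orderOf d).Prime) :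
    centralizer {d} ≠ (⊤ : Subgroup G) := by
  intro e
  have := Fact.mk hd
  refine h.normalizer_ne' (U := zpowers d) ?_ (isPGroup_zpowers_of_prime hd) (eq_top_iff.mpr ?_)
  · rw [Ne, zpowers_eq_bot]; rintro rfl; simp [Nat.not_prime_one] at hd
  · rw [← e, ← centralizer_zpowers]; exact centralizer_le_normalizer _

private theorem sylow_le_centralizer (h : KW A B) {d : G} (hd : (orderOf d).Prime) (hdA : d ∈ A)
    {r : ℕ} [hr : Fact r.Prime] (hrd : r ≠ orderOf d) {R : Subgroup G} (hR : IsSylowIn r R A) :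
    R ≤ centralizer {d} := by
  rw [← centralizer_zpowers]
  exact le_centralizer_of_isNilpotent_of_coprime h.nilA hR.1
    (zpowers_le.mpr hdA) (IsPGroup_coprime_card hR.2.1 (by
      rw [Nat.card_zpowers]; exact (Nat.coprime_primes hd hr.out).mpr hrd.symm))

private theorem centralizer_le_of_normalizer (h : KW A B) {d : G} (hd : (orderOf d).Prime)
    (hdA : d ∈ A) (hdB : d ∈ normalizer (B : Set G)) :
    centralizer {d} ≤ normalizer (A : Set G) := by
  have h1 : IsProd (centralizer {d}) (centralizer {d} ⊓ A) (centralizer {d} ⊓ B) := by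
    refine ⟨inf_le_left, inf_le_left, fun c hc => ?_⟩
    obtain ⟨a, ha, b, hb, rfl⟩ := h.prod.exists_mul c (mem_top c)
    have e := mem_centralizer_singleton_iff.mp hc
    have h2 : a⁻¹ * (d * a * d⁻¹) ∈ A ⊓ B := by
      refine mem_inf.mpr ⟨mul_mem (inv_mem ha) (mul_mem (mul_mem hdA ha) (inv_mem hdA)), ?_⟩
      have : a⁻¹ * (d * a * d⁻¹) = b * (d * b * d⁻¹)⁻¹ := by
        calc a⁻¹ * (d * a * d⁻¹) = a⁻¹ * (d * (a * b)) * b⁻¹ * d⁻¹ := by group
          _ = _ := by rw [← e]; group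
      rw [this]
      exact mul_mem hb (inv_mem (conj_mem_of_mem_normalizer hdB hb))
    rw [inf_eq_bot_of_coprime' h.cop, mem_bot, inv_mul_eq_one, eq_mul_inv_iff_mul_eq] at h2
    have h3 : a ∈ centralizer {d} := mem_centralizer_singleton_iff.mpr h2
    exact ⟨a, ⟨h3, ha⟩, b, ⟨(mul_mem_cancel_left h3).mp hc, hb⟩, rfl⟩
  have h2 := h.le_normalizer_inf' (h.solv _ _ _ (h.centralizer_ne hd) h1
    (isNilpotent_of_le h.nilA inf_le_right) (isNilpotent_of_le h.nilB inf_le_right))
    (h1.isPiHallOf inf_le_right inf_le_right h.cop)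
    (inf_le_right.trans (centralizer_le_centralizer_singleton hdA))
  obtain ⟨r, hr, hrp, hrd⟩ := h.twoA (orderOf d)
  have := Fact.mk hr
  obtain ⟨R, hR⟩ := exists_isSylowIn r A
  have hR' := hR.of_le (le_inf (h.sylow_le_centralizer hd hdA hrp hR) hR.1) inf_le_right
  exact (h2.trans (hR'.normalizer_le (inf_le_right.trans
    (hR.le_normalizer_of_isNilpotent h.nilA)))).trans (h.normalizer_sylow_le hR (hR.ne_bot hrd))

private theorem centralizer_le (h : KW A B) {d : G} (hd : (orderOf d).Prime) (hdA : d ∈ A) :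
    centralizer {d} ≤ normalizer (A : Set G) := by
  by_cases hH : centralizer {d} ⊓ normalizer (A : Set G) ≤ A
  · set X := centralizer ({d} : Set G) with hX
    have hZ : A ⊓ centralizer (A : Set G) ≤ X :=
      inf_le_right.trans (centralizer_le_centralizer_singleton hdA)
    have hn : Group.IsNilpotent ↥(X ⊓ A) := isNilpotent_of_le h.nilA inf_le_right
    have key : ∀ (p : ℕ) [Fact p.Prime] (P : Subgroup G), IsSylowIn p P (X ⊓ A) → P ≠ ⊥ →
        X ⊓ normalizer (P : Set G) = X ⊓ A := by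
      intro p hp P hP eP
      refine le_antisymm (le_inf inf_le_left (le_trans (inf_le_inf_left _ fun g hg => ?_) hH))
        (le_inf inf_le_left (hP.le_normalizer_of_isNilpotent hn))
      obtain ⟨z, hz, hzc, hzp⟩ := exists_mem_center_orderOf h.nilA hp.out
        ((dvd_card_of_isPGroup_of_ne_bot hP.2.1 eP).trans
          (card_dvd_of_le (hP.1.trans inf_le_right)))
      have h1 : zpowers z ≤ X ⊓ A := zpowers_le.mpr ⟨hZ ⟨hz, hzc⟩, hz⟩
      have h2 := hP.le_of_le_normalizer (hzp ▸ isPGroup_zpowers_of_prime (hzp ▸ hp.out)) h1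
        (Or.inr (h1.trans (hP.le_normalizer_of_isNilpotent hn)))
      refine h.mem_normalizer_of_mem_conj (hzp ▸ hp.out) (h.le_normalizer_of_le
        (h.centralizer_ne (hzp ▸ hp.out)) (le_centralizer_singleton_iff.mpr hzc)) ?_
      rw [mem_conj_smul]
      exact (hP.1 (conj_mem_of_mem_normalizer' hg (h2 (mem_zpowers z)))).2
    obtain ⟨K, hK, hc⟩ := exists_normal_complement_of_normalizer_eq (H := A.subgroupOf X)
      (fun p hp hP => by
        obtain ⟨r, hr, hrp, hrd⟩ := h.twoA p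
        obtain ⟨z, hz, hzc, hzp⟩ := exists_mem_center_orderOf h.nilA hr hrd
        refine hrp (isPiNum_singleton_card_iff.mpr hP r hr ?_)
        rw [← hzp, ← orderOf_coe (⟨z, hZ ⟨hz, hzc⟩⟩ : X) |>.symm]
        exact orderOf_dvd_natCard _ hz)
      (fun p hp P hP eP => by
        have h1 := hP.map X.subtype
        rw [subgroupOf_map_subtype, inf_comm] at h1
        have h2 := key p _ h1 (by rwa [Ne, map_eq_bot_iff_of_injective _ X.subtype_injective])
        rw [← map_subtype_subgroupOf P, ← subgroupOf_normalizer_eq (map_subtype_le P),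
          ← inf_subgroupOf_left, h2, inf_subgroupOf_left])
    have hcop : ∀ r : ℕ, r.Prime → r ∣ Nat.card A → ¬ r ∣ Nat.card K := by
      intro r hr hrd
      have := Fact.mk hr
      obtain ⟨z, hz, hzc, hzp⟩ := exists_mem_center_orderOf h.nilA hr hrd
      obtain ⟨P, hP⟩ := exists_isSylowIn r (X ⊓ A)
      have eP := hP.ne_bot (hzp ▸ orderOf_dvd_natCard _ ⟨hZ ⟨hz, hzc⟩, hz⟩)
      have h1 := isSylowIn_of_isSylowIn_normalizer (K := X) (by rwa [key r P hP eP])
      rw [← hc.index_eq_card, ← relIndex, ← inf_relIndex_left]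
      exact fun h2 => h1.2.2 (h2.trans (relIndex_dvd_of_le_left X hP.1))
    obtain ⟨r, hr, -, hrd⟩ := h.twoA 0
    obtain ⟨z, hz, hzc, hzp⟩ := exists_mem_center_orderOf h.nilA hr hrd
    have h1 := h.isPiNum_of_normalizer hz hzc (hzp ▸ hr)
      (le_normalizer_map_subtype_of_normal K (hZ ⟨hz, hzc⟩))
      (by rw [hzp, card_subtype]; exact hr.coprime_iff_not_dvd.mpr (hcop r hr hrd))
    rw [card_subtype] at h1
    have h2 : K = ⊥ := eq_bot_of_isPiNum h1 fun t ht h2 h3 => hcop t ht h3 h2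
    have h3 := hc.sup_eq_top
    rw [h2, bot_sup_eq, subgroupOf_eq_top] at h3
    exact h3.trans le_normalizer
  · obtain ⟨q, hq, hqd, hqA⟩ : ∃ q : ℕ, q.Prime ∧
        q ∣ Nat.card ↥(centralizer {d} ⊓ normalizer (A : Set G)) ∧ ¬ q ∣ Nat.card A := by
      by_contra! hcon
      exact hH (h.le_of_le_normalizer inf_le_right hcon)
    obtain ⟨y, hy, hyq⟩ := exists_prime_orderOf_mem hq hqd
    have := Fact.mk hq
    have h1 := h.prod.of_le_left (le_normalizer (H := A)) le_top
    obtain ⟨S, hS⟩ := exists_isSylowIn q (normalizer (A : Set G) ⊓ B)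
    obtain ⟨g, -, hg⟩ := (hS.trans inf_le_left fun h2 =>
      hqA (h2.trans h1.symm.relIndex_dvd)).exists_le_conj (zpowers_le.mpr hy.2)
        (hyq ▸ isPGroup_zpowers_of_prime (hyq ▸ hq))
    have hyB : y ∈ MulAut.conj g • B := pointwise_smul_le_pointwise_smul_iff.mpr
      (hS.1.trans inf_le_right) (hg (mem_zpowers y))
    have h' := h.conj g
    exact h'.centralizer_le_of_normalizer hd hdA (h'.symm.centralizer_le_of_normalizer
      (hyq ▸ hq) hyB hy.2 (mem_centralizer_singleton_comm.mp hy.1))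

private theorem card_le (h : KW A B) : Nat.card A ≤ Nat.card B := by
  obtain ⟨r, hr, -, hrd⟩ := h.twoA 0
  have hA1 : A ≠ ⊥ := fun e => hr.ne_one (by rwa [e, card_bot, Nat.dvd_one] at hrd)
  have hA2 : A ≠ ⊤ := fun e => by
    obtain ⟨r, hr, -, hrd⟩ := h.twoB 0
    exact h.symm.not_dvd hr hrd (hrd.trans (card_dvd_of_le (e ▸ le_top)))
  obtain ⟨g, hg⟩ : ∃ g, g ∉ normalizer (A : Set G) := by
    by_contra! hcon
    exact h.normalizer_ne hA1 hA2 ((eq_top_iff' _).mpr hcon)
  have h1 : A ⊓ MulAut.conj g • A = ⊥ := by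
    by_contra hne
    obtain ⟨p, hp, hd⟩ := exists_prime_dvd_card hne
    obtain ⟨d, hd, e⟩ := exists_prime_orderOf_mem hp hd
    exact hg (h.mem_normalizer_of_mem_conj (e ▸ hp) (h.centralizer_le (e ▸ hp) hd.1) hd.2)
  have h2 := card_mul_card_le (L := ⊤) (H := A) (K := MulAut.conj g • A) le_top le_top
  have h3 := h.prod.card
  rw [inf_eq_bot_of_coprime' h.cop] at h3
  rw [h1, h3, card_smul] at h2
  exact Nat.le_of_mul_le_mul_left h2 Nat.card_pos

private theorem false (h : KW A B) : False := by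
  obtain ⟨r, hr, -, hrd⟩ := h.twoA 0
  exact h.not_dvd hr hrd (le_antisymm h.card_le h.symm.card_le ▸ hrd)

end KW

/-- The Kegel-Wielandt theorem. -/
theorem IsProd.isSolvable_of_isNilpotent_top [Finite G] {A B : Subgroup G} (h : IsProd ⊤ A B)
    (hA : Group.IsNilpotent A) (hB : Group.IsNilpotent B) : Group.IsSolvable G := by
  induction G, ‹Group G›, ‹Finite G› using card_induction' with | _ G ih => ?_
  have solv : ∀ X Y Z : Subgroup G, X ≠ ⊤ → IsProd X Y Z → Group.IsNilpotent Y →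
      Group.IsNilpotent Z → Group.IsSolvable X := fun X Y Z hX h1 hY hZ =>
    ih X (card_lt_of_ne_top hX) h1.subgroupOf (isNilpotent_subgroupOf hY X)
      (isNilpotent_subgroupOf hZ X)
  have quo : ∀ (N : Subgroup G) [N.Normal], N ≠ ⊥ → Group.IsSolvable (G ⧸ N) := fun N _ hN =>
    ih _ (card_quotient_lt hN) (h.map_mk' N) (isNilpotent_map hA _) (isNilpotent_map hB _)
  by_contra hcon
  have nosolv : ∀ (N : Subgroup G) [N.Normal], N ≠ ⊥ → ¬ Group.IsSolvable N := fun N _ hN hs =>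
    hcon (isSolvable_of_normal_of_quotient N hs (quo N hN))
  have notp : ∀ (p : ℕ) [Fact p.Prime] (N : Subgroup G) [N.Normal], N ≠ ⊥ → ¬ IsPGroup p N :=
    fun p _ N _ hN hp => nosolv N hN (isSolvable_of_isPGroup hp)
  have hG : Nontrivial G := by
    by_contra h1
    rw [not_nontrivial_iff_subsingleton] at h1
    exact hcon inferInstance
  have simple : ∀ N : Subgroup G, N.Normal → N = ⊥ ∨ N = ⊤ := by
    by_contra! h1
    obtain ⟨M, hM, hM1, hM2⟩ := h1
    obtain ⟨N, hNM, hN⟩ := exists_minNormal_le hM1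
    have := hN.1
    have hN2 : N ≠ ⊤ := fun e => hM2 (eq_top_iff.mpr (e ▸ hNM))
    have k : ∀ {A B : Subgroup G}, IsProd ⊤ A B → Group.IsNilpotent A → Group.IsNilpotent B →
        A ⊔ N = ⊤ := fun {A B} h hA hB => by
      by_contra h1
      exact nosolv N hN.2.1 (isSolvable_of_le (solv _ _ _ h1 (h.of_le_left le_sup_left le_top) hA
        (isNilpotent_of_le hB inf_le_right)) le_sup_right)
    have hAN := k h hA hB
    have hBN := k h.symm hB hA
    obtain ⟨p, hp, hd⟩ := Nat.exists_prime_and_dvd (index_eq_one.not.mpr hN2)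
    have := Fact.mk hp
    obtain ⟨P, hP⟩ := exists_isSylowIn p A
    obtain ⟨Q, hQ⟩ := exists_isSylowIn p B
    have nP := hP.le_normalizer_of_isNilpotent hA
    have nQ := hQ.le_normalizer_of_isNilpotent hB
    have hP' := hP.map (QuotientGroup.mk' N)
    have hQ' := hQ.map (QuotientGroup.mk' N)
    have hn := isNilpotent_map hA (QuotientGroup.mk' N)
    rw [map_mk'_eq_top_iff.mpr hAN] at hP' hn
    rw [map_mk'_eq_top_iff.mpr hBN] at hQ'
    have hPQ : P ⊔ N = Q ⊔ N := map_mk'_eq_map_mk'_iff.mp (hQ'.eq_of_le hP'.2.1 le_top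
      (hP'.le_of_le_normalizer hQ'.2.1 le_top
        (Or.inr (le_top.trans (hP'.le_normalizer_of_isNilpotent hn)))))
    have hP1 : P.map (QuotientGroup.mk' N) ≠ ⊥ := hP'.ne_bot (by rwa [card_top])
    have fin : ∀ {A P : Subgroup G}, A ⊔ N = ⊤ → A ≤ normalizer (P : Set G) → IsPGroup p P →
        P.map (QuotientGroup.mk' N) ≠ ⊥ → ∀ M : Subgroup ↥(P ⊔ N), M.Normal → M ≠ ⊤ →
        ¬ P.subgroupOf (P ⊔ N) ≤ M := by
      intro A P hAN nP hP hP1 M hM hM1 hle
      have h1 : P ≤ M.map (P ⊔ N).subtype :=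
        (map_subgroupOf_eq_of_le (le_sup_left : P ≤ P ⊔ N)).ge.trans (map_mono hle)
      have h2 : ⁅P, N⁆ ≤ M.map (P ⊔ N).subtype := (commutator_mono h1 le_rfl).trans
        (commutator_le_of_le_normalizer (le_sup_right.trans (le_normalizer_map_subtype_of_normal M)))
      have := normal_of_sup_eq_top hAN (le_normalizer_commutator nP le_normalizer_of_normal)
        (normalizer_commutator_ge_right P N)
      rcases hN.2.2 _ this (commutator_le_right P N) with e | e
      · have := normal_of_sup_eq_top hAN nP ((le_centralizer_iff.mp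
          (commutator_eq_bot_iff_le_centralizer.mp e)).trans (centralizer_le_normalizer _))
        exact notp p P (fun e => hP1 (by rw [e, Subgroup.map_bot])) hP
      · exact (map_subtype_lt hM1).not_ge (sup_le h1 (e.ge.trans h2))
    obtain ⟨M, hM, hM1, hle⟩ := kegel_lemma (A := P.subgroupOf (P ⊔ N))
      (B := Q.subgroupOf (P ⊔ N)) fun x => by
        obtain ⟨S, hS, h1⟩ := (h.conj_right (mem_top (x : G))).exists_isProd_isSylowIn hP
          (hQ.conj x) nP (by
            rw [normalizer_conj_smul]; exact pointwise_smul_le_pointwise_smul_iff.mpr nQ)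
        have h2 : MulAut.conj (x : G) • Q ≤ P ⊔ N :=
          conj_smul_le_of_mem (hPQ ▸ le_sup_left) x.2
        have h3 : S ≤ P ⊔ N := h1.sup_eq ▸ sup_le le_sup_left h2
        refine ⟨S.subgroupOf (P ⊔ N), fun e => notp p N hN.2.1 (hS.2.1.to_le
          (le_sup_right.trans (subgroupOf_eq_top.mp e))), ?_⟩
        rw [conj_smul_subgroupOf']
        refine ⟨subgroupOf_mono _ h1.left, subgroupOf_mono _ h1.right, fun g hg => ?_⟩
        obtain ⟨a, ha, b, hb, e⟩ := h1.exists_mul g hg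
        exact ⟨⟨a, mem_sup_left ha⟩, ha, ⟨b, h2 hb⟩, hb, Subtype.ext e⟩
    rcases hle with hle | hle
    · exact fin hAN nP hP.2.1 hP1 M hM hM1 hle
    · revert M
      rw [hPQ]
      intro M hM hM1 hle
      exact fin hBN nQ hQ.2.1 (hQ'.ne_bot (by rwa [card_top])) M hM hM1 hle
  have cop : (Nat.card A).Coprime (Nat.card B) := by
    refine Nat.coprime_of_dvd fun p hp h1 h2 => ?_
    have := Fact.mk hp
    obtain ⟨P, hP⟩ := exists_isSylowIn p A
    obtain ⟨Q, hQ⟩ := exists_isSylowIn p B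
    have nP := hP.le_normalizer_of_isNilpotent hA
    have nQ := hQ.le_normalizer_of_isNilpotent hB
    obtain ⟨M, hM, hM1, hle⟩ := kegel_lemma (A := P) (B := Q) fun x => by
      obtain ⟨S, hS, h1⟩ := (h.conj_right (mem_top (x : G))).exists_isProd_isSylowIn hP
        (hQ.conj x) nP (by
          rw [normalizer_conj_smul]; exact pointwise_smul_le_pointwise_smul_iff.mpr nQ)
      exact ⟨S, fun e => notp p ⊤ top_ne_bot (e ▸ hS.2.1), h1⟩
    rcases simple M hM with rfl | rfl
    · exact hle.elim (fun h => hP.ne_bot h1 (eq_bot_iff.mpr h))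
        fun h => hQ.ne_bot h2 (eq_bot_iff.mpr h)
    · exact hM1 rfl
  have : IsSimpleGroup G := ⟨simple⟩
  have two : ∀ {A B : Subgroup G}, IsProd ⊤ A B → Group.IsNilpotent A → Group.IsNilpotent B →
      ∀ p : ℕ, ∃ r : ℕ, r.Prime ∧ r ≠ p ∧ r ∣ Nat.card A := by
    intro A B h hA hB p
    by_contra! h1
    have hA2 : A ≠ ⊤ := fun e => hcon (have := isNilpotent_of_top (e ▸ hA); inferInstance)
    have hB2 : B ≠ ⊤ := fun e => hcon (have := isNilpotent_of_top (e ▸ hB); inferInstance)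
    have hA1 : A ≠ ⊥ := fun e => hB2 (h.symm.eq_of_le (e ▸ bot_le))
    have hB1 : B ≠ ⊥ := fun e => hA2 (h.eq_of_le (e ▸ bot_le))
    obtain ⟨r, hr, hd⟩ := exists_prime_dvd_card hA1
    have h2 : IsPiNum {r} (Nat.card A) := fun t ht htd => by
      have e1 : r = p := by_contra fun e => h1 r hr e hd
      have e2 : t = p := by_contra fun e => h1 t ht e htd
      exact e2.trans e1.symm
    obtain ⟨⟨z, hz⟩, hz1⟩ := ne_bot_iff_exists_ne_one.mp
      (inf_centralizer_ne_bot hB le_rfl le_normalizer hB1)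
    obtain ⟨k, hk⟩ := (isPiNum_singleton_iff hr (index_pos (centralizer {z})).ne').mp
      (h2.of_dvd ((index_dvd_of_le (le_centralizer_singleton_iff.mpr hz.2)).trans
        (by simpa using h.symm.relIndex_dvd)))
    exact hcon (isSolvable_of_comm' ⟨⟨Char.comm_of_simple_of_prime_pow_class hr
      (fun e => hz1 (Subtype.ext e)) hk⟩⟩)
  exact KW.false ⟨h, hA, hB, cop, simple, solv, two h hA hB, two h.symm hB hA⟩

theorem IsProd.isSolvable_of_isNilpotent [Finite G] {L A B : Subgroup G} (h : IsProd L A B)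
    (hA : Group.IsNilpotent A) (hB : Group.IsNilpotent B) : Group.IsSolvable L :=
  h.subgroupOf.isSolvable_of_isNilpotent_top (isNilpotent_subgroupOf hA L)
    (isNilpotent_subgroupOf hB L)

theorem IsProd.isProd_sup_isSylowIn [Finite G] {A B : Subgroup G} (h : IsProd ⊤ A B)
    (hA : Group.IsNilpotent A) (hB : Group.IsNilpotent B)
    (hc : (Nat.card A).Coprime (Nat.card B)) {p q : ℕ} [hp : Fact p.Prime] [hq : Fact q.Prime]
    {P Q : Subgroup G} (hP : IsSylowIn p P A) (hQ : IsSylowIn q Q B) : IsProd (P ⊔ Q) P Q := by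
  by_cases eP : P = ⊥
  · exact isProd_sup_of_le_normalizer (eP ▸ bot_le)
  by_cases eQ : Q = ⊥
  · rw [sup_comm]; exact (isProd_sup_of_le_normalizer (eQ ▸ bot_le)).symm
  have hP' := hP.trans le_top fun h1 => hp.out.coprime_iff_not_dvd.mp (hc.coprime_dvd_left
    ((dvd_card_of_isPGroup_of_ne_bot hP.2.1 eP).trans (card_dvd_of_le hP.1)))
    (h1.trans h.relIndex_dvd)
  have hQ' := hQ.trans le_top fun h1 => hq.out.coprime_iff_not_dvd.mp (hc.symm.coprime_dvd_left
    ((dvd_card_of_isPGroup_of_ne_bot hQ.2.1 eQ).trans (card_dvd_of_le hQ.1)))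
    (h1.trans h.symm.relIndex_dvd)
  exact isProd_of_isPiNum le_sup_left le_sup_right
    (isPiHallOf_iff.mp (isSylowIn_iff_isPiHallOf.mp (hP'.of_le le_sup_left le_top))).2.2
    (isPiHallOf_iff.mp (isSylowIn_iff_isPiHallOf.mp (hQ'.of_le le_sup_right le_top))).2.2
    (h.isPiNum_sup (h.isSolvable_of_isNilpotent hA hB) le_top le_top
      (hP.le_normalizer_of_isNilpotent hA) (hQ.le_normalizer_of_isNilpotent hB)
      (isPiNum_card_of_isPGroup hP.2.1 (Or.inl rfl)) (isPiNum_card_of_isPGroup hQ.2.1 (Or.inr rfl)))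

end Cfsg.Agent.Core
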