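import Cfsg.Agent.Core.Basic

/-!
# Core library: π-numbers, the cores `O_π`, `O_p`, `O_{p'}` and the Fitting subgroup
-/

set_option autoImplicit false

namespace Cfsg.Agent.Core

open Subgroup
open scoped Pointwise commutatorElement

universe u v

/-! ### π-numbers -/

/-- Every prime divisor of `n` lies in `π`. -/
def IsPiNum (π : Set ℕ) (n : ℕ) : Prop := ∀ p : ℕ, p.Prime → p ∣ n → p ∈ π

theorem IsPiNum.of_dvd {π : Set ℕ} {m n : ℕ} (h : IsPiNum π n) (hd : m ∣ n) : IsPiNum π m :=
  fun p hp hm => h p hp (hm.trans hd)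

theorem IsPiNum.mul {π : Set ℕ} {m n : ℕ} (hm : IsPiNum π m) (hn : IsPiNum π n) :
    IsPiNum π (m * n) :=
  fun p hp h => ((Nat.Prime.dvd_mul hp).mp h).elim (hm p hp) (hn p hp)

theorem isPiNum_one (π : Set ℕ) : IsPiNum π 1 :=
  fun _ hp h => absurd (Nat.dvd_one.mp h) hp.ne_one

theorem IsPiNum.mono {π ρ : Set ℕ} {n : ℕ} (h : IsPiNum π n) (hle : π ⊆ ρ) : IsPiNum ρ n :=
  fun p hp hn => hle (h p hp hn)

theorem IsPiNum.pow {π : Set ℕ} {n : ℕ} (h : IsPiNum π n) (k : ℕ) : IsPiNum π (n ^ k) :=
  fun p hp hn => h p hp (hp.dvd_of_dvd_pow hn)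

theorem isPiNum_prime {π : Set ℕ} {p : ℕ} (hp : p.Prime) (h : p ∈ π) : IsPiNum π p :=
  fun _ hq hd => ((Nat.prime_dvd_prime_iff_eq hq hp).mp hd) ▸ h

theorem IsPiNum.coprime {π : Set ℕ} {m n : ℕ} (hm : IsPiNum π m) (hn : IsPiNum πᶜ n) :
    m.Coprime n :=
  Nat.coprime_of_dvd fun p hp h1 h2 => hn p hp h2 (hm p hp h1)

theorem IsPiNum.eq_one {π : Set ℕ} {n : ℕ} (hm : IsPiNum π n) (hn : IsPiNum πᶜ n) : n = 1 := by
  simpa using hm.coprime hn

theorem isPiNum_compl_iff {π : Set ℕ} {n : ℕ} :
    IsPiNum πᶜ n ↔ ∀ p : ℕ, p.Prime → p ∈ π → ¬ p ∣ n :=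
  ⟨fun h p hp h1 h2 => h p hp h2 h1, fun h p hp h1 h2 => h p hp h2 h1⟩

theorem isPiNum_primes_dvd (n : ℕ) : IsPiNum {p | p ∣ n} n := fun _ _ h => h

theorem isPiNum_compl_primes_dvd_iff {m n : ℕ} : IsPiNum {p | p ∣ n}ᶜ m ↔ m.Coprime n :=
  ⟨fun h => ((isPiNum_primes_dvd n).coprime h).symm,
    fun h _ hp h1 h2 => hp.one_lt.ne' (Nat.eq_one_of_dvd_coprimes h h1 h2)⟩

theorem isPiNum_compl_singleton_iff {p n : ℕ} (hp : p.Prime) :
    IsPiNum ({p} : Set ℕ)ᶜ n ↔ n.Coprime p := by
  rw [Nat.coprime_comm, hp.coprime_iff_not_dvd]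
  exact ⟨fun h hd => h p hp hd rfl, fun h q _ hd he => h (he ▸ hd)⟩

theorem isPiNum_singleton_iff {p n : ℕ} (hp : p.Prime) (hn : n ≠ 0) :
    IsPiNum ({p} : Set ℕ) n ↔ ∃ k, n = p ^ k := by
  constructor
  · intro h
    exact ⟨_, Nat.eq_prime_pow_of_unique_prime_dvd hn fun hq hd => h _ hq hd⟩
  · rintro ⟨k, rfl⟩
    exact (isPiNum_prime hp (Set.mem_singleton p)).pow k

/-- If `m * a = n * b` with `m, n` π-numbers and `a, b` π'-numbers then `m = n`. -/
theorem IsPiNum.eq_of_mul_eq {π : Set ℕ} {m n a b : ℕ} (hm : IsPiNum π m) (hn : IsPiNum π n)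
    (ha : IsPiNum πᶜ a) (hb : IsPiNum πᶜ b) (h : m * a = n * b) : m = n :=
  Nat.dvd_antisymm ((hm.coprime hb).dvd_of_dvd_mul_right ⟨a, h.symm⟩)
    ((hn.coprime ha).dvd_of_dvd_mul_right ⟨b, h⟩)

variable {G : Type u} [Group G] {G' : Type v} [Group G']

theorem isPiNum_singleton_card_iff [Finite G] {p : ℕ} [hp : Fact p.Prime] :
    IsPiNum ({p} : Set ℕ) (Nat.card G) ↔ IsPGroup p G := by
  rw [isPiNum_singleton_iff hp.out Nat.card_pos.ne', IsPGroup.iff_card]

theorem isPiNum_card_of_isPGroup [Finite G] {p : ℕ} [hp : Fact p.Prime] {π : Set ℕ}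
    (h : IsPGroup p G) (hπ : p ∈ π) : IsPiNum π (Nat.card G) :=
  (isPiNum_singleton_card_iff.mpr h).mono (Set.singleton_subset_iff.mpr hπ)

theorem isPiHall_iff {π : Set ℕ} {H : Subgroup G} :
    IsPiHall π H ↔ IsPiNum π (Nat.card H) ∧ IsPiNum πᶜ H.index :=
  and_congr_right fun _ => isPiNum_compl_iff.symm

theorem isPiHallOf_iff {π : Set ℕ} {H M : Subgroup G} :
    IsPiHallOf π H M ↔ H ≤ M ∧ IsPiNum π (Nat.card H) ∧ IsPiNum πᶜ (H.relIndex M) :=
  and_congr_right fun _ => and_congr_right fun _ => isPiNum_compl_iff.symm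

theorem isPiHallOf_iff_subgroupOf {π : Set ℕ} {H M : Subgroup G} (h : H ≤ M) :
    IsPiHallOf π H M ↔ IsPiHall π (H.subgroupOf M) := by
  rw [isPiHallOf_iff, isPiHall_iff, card_subgroupOf_of_le h]
  exact and_iff_right h

theorem isPiHallOf_map_subtype {π : Set ℕ} {M : Subgroup G} {H : Subgroup M} :
    IsPiHallOf π (H.map M.subtype) M ↔ IsPiHall π H := by
  rw [isPiHallOf_iff_subgroupOf (map_subtype_le H)]
  have : (H.map M.subtype).subgroupOf M = H := comap_map_eq_self_of_injective M.subtype_injective H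
  rw [this]

theorem isPiHallOf_top {π : Set ℕ} {H : Subgroup G} : IsPiHallOf π H ⊤ ↔ IsPiHall π H := by
  rw [isPiHallOf_iff, isPiHall_iff, relIndex_top_right]
  exact and_iff_right le_top

theorem isPiNum_card_sup {π : Set ℕ} {H N : Subgroup G} (h : H ≤ normalizer (N : Set G))
    (hH : IsPiNum π (Nat.card H)) (hN : IsPiNum π (Nat.card N)) :
    IsPiNum π (Nat.card ↥(H ⊔ N)) :=
  (hH.mul hN).of_dvd (card_sup_dvd h)

theorem isPiNum_card_map {π : Set ℕ} {H : Subgroup G} (hH : IsPiNum π (Nat.card H))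
    (f : G →* G') : IsPiNum π (Nat.card (H.map f)) :=
  hH.of_dvd (card_map_dvd H f)

theorem isPiNum_card_of_le {π : Set ℕ} {H K : Subgroup G} (hK : IsPiNum π (Nat.card K))
    (h : H ≤ K) : IsPiNum π (Nat.card H) :=
  hK.of_dvd (card_dvd_of_le h)

theorem eq_bot_of_isPiNum {π : Set ℕ} {H : Subgroup G} (h1 : IsPiNum π (Nat.card H))
    (h2 : IsPiNum πᶜ (Nat.card H)) : H = ⊥ :=
  (eq_bot_iff_card H).mpr (h1.eq_one h2)

/-- A subgroup whose order is coprime to the index of a normal subgroup lies in it. -/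
theorem le_of_coprime_index {H N : Subgroup G} [N.Normal]
    (h : (Nat.card H).Coprime N.index) : H ≤ N := by
  rw [← relIndex_eq_one]
  exact Nat.eq_one_of_dvd_coprimes h (relIndex_dvd_card N H) (relIndex_dvd_index_of_normal N H)

/-- A normal subgroup (more generally one normalized by `H`) whose order is coprime to the index
of `H` lies in `H`. -/
theorem le_of_normalizer_of_coprime_index [Finite G] {H N : Subgroup G}
    (hN : H ≤ normalizer (N : Set G)) (h : (Nat.card N).Coprime H.index) : N ≤ H := by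
  have h1 : H.relIndex (H ⊔ N) ∣ H.index := relIndex_dvd_index_of_le le_sup_left
  have h2 : H.relIndex (H ⊔ N) ∣ Nat.card N := by
    have h3 := card_sup_mul_card_inf hN
    rw [← card_mul_relIndex (le_sup_left : H ≤ H ⊔ N), mul_assoc] at h3
    exact ⟨_, (Nat.eq_of_mul_eq_mul_left Nat.card_pos h3).symm⟩
  have := Nat.eq_one_of_dvd_coprimes h h2 h1
  rw [relIndex_eq_one] at this
  exact le_sup_right.trans this

theorem le_of_normal_of_coprime_index [Finite G] {H N : Subgroup G} [N.Normal]
    (h : (Nat.card N).Coprime H.index) : N ≤ H :=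
  le_of_normalizer_of_coprime_index le_normalizer_of_normal h

/-- A normal Hall subgroup is characteristic. -/
theorem characteristic_of_normal_of_coprime [Finite G] {N : Subgroup G} [N.Normal]
    (h : (Nat.card N).Coprime N.index) : N.Characteristic := by
  rw [characteristic_iff_map_le]
  intro φ
  apply le_of_coprime_index
  rwa [card_map_of_injective φ.injective]

/-! ### The π-core -/

theorem le_piCore {π : Set ℕ} {N : Subgroup G} (hN : N.Normal) (h : IsPiNum π (Nat.card N)) :
    N ≤ piCore π G := le_sSup ⟨hN, h⟩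

theorem piCore_isPiNum [Finite G] (π : Set ℕ) : IsPiNum π (Nat.card (piCore π G)) := by
  refine (sSup_mem_of_sup_closed
    (S := {N : Subgroup G | N.Normal ∧ ∀ p : ℕ, p.Prime → p ∣ Nat.card N → p ∈ π}) ?_ ?_).2
  · exact ⟨inferInstance, by rw [card_bot]; exact isPiNum_one π⟩
  · rintro A ⟨hA, hA'⟩ B ⟨hB, hB'⟩
    exact ⟨inferInstance, isPiNum_card_sup le_normalizer_of_normal hA' hB'⟩

theorem map_piCore_le [Finite G] (π : Set ℕ) {f : G →* G'} (hf : Function.Surjective f) :
    (piCore π G).map f ≤ piCore π G' :=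
  le_piCore ((piCore_normal π G).map f hf) (isPiNum_card_map (piCore_isPiNum π) f)

theorem map_piCore_equiv (π : Set ℕ) (e : G ≃* G') :
    (piCore π G).map (e : G →* G') = piCore π G' := by
  have key : ∀ {A : Type u} {B : Type v} [Group A] [Group B] (e : A ≃* B),
      (piCore π A).map (e : A →* B) ≤ piCore π B := by
    intro A B _ _ e
    rw [map_le_iff_le_comap]
    apply sSup_le
    rintro N ⟨h1, h2⟩
    rw [← map_le_iff_le_comap]
    exact le_piCore (h1.map _ e.surjective) (isPiNum_card_map h2 _)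
  refine le_antisymm (key e) ?_
  apply sSup_le
  rintro N ⟨h1, h2⟩
  have : N.map (e.symm : G' →* G) ≤ piCore π G :=
    le_piCore (h1.map _ e.symm.surjective) (isPiNum_card_map h2 _)
  intro x hx
  exact ⟨e.symm x, this ⟨x, hx, rfl⟩, by simp⟩

instance piCore_characteristic (π : Set ℕ) : (piCore π G).Characteristic :=
  characteristic_iff_map_eq.mpr fun φ => map_piCore_equiv π φ

theorem map_subtype_piCore_le [Finite G] (π : Set ℕ) (N : Subgroup G) [N.Normal] :
    (piCore π N).map N.subtype ≤ piCore π G :=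
  le_piCore inferInstance (isPiNum_card_map (piCore_isPiNum π) _)

theorem piCore_subgroupOf_le [Finite G] (π : Set ℕ) (H : Subgroup G) :
    (piCore π G).subgroupOf H ≤ piCore π H :=
  le_piCore inferInstance ((piCore_isPiNum π).of_dvd (card_subgroupOf_dvd _ _))

theorem piCore_inf_le_map [Finite G] (π : Set ℕ) (H : Subgroup G) :
    piCore π G ⊓ H ≤ (piCore π H).map H.subtype := by
  rw [← subgroupOf_map_subtype]
  exact map_mono (piCore_subgroupOf_le π H)

theorem map_subtype_piCore_of_normal [Finite G] (π : Set ℕ) (N : Subgroup G) [N.Normal] :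
    (piCore π N).map N.subtype = piCore π G ⊓ N :=
  le_antisymm (le_inf (map_subtype_piCore_le π N) (map_subtype_le _)) (piCore_inf_le_map π N)

theorem le_piCore_of_isSubnormal [Finite G] {π : Set ℕ} {H : Subgroup G} (hH : H.IsSubnormal)
    (h : IsPiNum π (Nat.card H)) : H ≤ piCore π G := by
  suffices key : ∀ K : Subgroup G, K.IsSubnormal → (piCore π K).map K.subtype ≤ piCore π G by
    refine le_trans ?_ (key H hH)
    have : (⊤ : Subgroup H) ≤ piCore π H := le_piCore inferInstance (by rwa [card_top])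
    intro x hx
    exact ⟨⟨x, hx⟩, this (mem_top _), rfl⟩
  intro K hK
  induction hK with
  | top =>
    exact map_subtype_piCore_le π ⊤
  | step K L hKL _ hn ih =>
    refine le_trans ?_ ih
    have h1 := map_subtype_piCore_le π (K.subgroupOf L)
    have h2 := map_piCore_equiv π (subgroupOfEquivOfLe hKL)
    rw [← h2, map_map]
    refine le_trans (le_of_eq ?_) (map_mono h1)
    rw [map_map]
    rfl

theorem piCore_quotient_piCore [Finite G] (π : Set ℕ) : piCore π (G ⧸ piCore π G) = ⊥ := by
  rw [eq_bot_iff, ← map_comap_mk' (piCore π G) (piCore π _), le_bot_iff, map_mk'_eq_bot_iff]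
  apply le_piCore inferInstance
  rw [card_comap_mk']
  exact (piCore_isPiNum π).mul (piCore_isPiNum π)

theorem comap_piCore_of_le [Finite G] (π : Set ℕ) {N : Subgroup G} [N.Normal]
    (h : IsPiNum π (Nat.card N)) :
    (piCore π (G ⧸ N)).comap (QuotientGroup.mk' N) = piCore π G := by
  apply le_antisymm
  · apply le_piCore inferInstance
    rw [card_comap_mk']
    exact (piCore_isPiNum π).mul h
  · rw [← map_le_iff_le_comap]
    exact map_piCore_le π (QuotientGroup.mk'_surjective N)

theorem piCore_mono {π ρ : Set ℕ} (h : π ⊆ ρ) : piCore π G ≤ piCore ρ G :=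
  sSup_le fun _ hN => le_piCore hN.1 (IsPiNum.mono hN.2 h)

theorem piCore_le_of_isPiHall [Finite G] {π : Set ℕ} {H : Subgroup G} (hH : IsPiHall π H) :
    piCore π G ≤ H :=
  le_of_normal_of_coprime_index ((piCore_isPiNum π).coprime (isPiHall_iff.mp hH).2)

theorem eq_piCore_of_isPiHall_of_normal [Finite G] {π : Set ℕ} {H : Subgroup G}
    (hH : IsPiHall π H) (hn : H.Normal) : H = piCore π G :=
  le_antisymm (le_piCore hn hH.1) (piCore_le_of_isPiHall hH)

theorem piCore_inf_piCore_compl [Finite G] (π : Set ℕ) : piCore π G ⊓ piCore πᶜ G = ⊥ :=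
  inf_eq_bot_of_coprime' ((piCore_isPiNum π).coprime (piCore_isPiNum πᶜ))

/-! ### The p-core and the p'-core -/

theorem le_pCore {p : ℕ} {N : Subgroup G} (hN : N.Normal) (h : IsPGroup p N) : N ≤ pCore p G :=
  le_sSup ⟨hN, h⟩

theorem pCore_isPGroup (p : ℕ) : IsPGroup p (pCore p G) :=
  Sylow.sSup_of_normal _ (fun _ h => h.2) (fun _ h => h.1)

theorem pCore_le_sylow {p : ℕ} (P : Sylow p G) : pCore p G ≤ P :=
  (pCore_isPGroup p).le_sylow_of_normal P

theorem pCore_eq_piCore [Finite G] (p : ℕ) [Fact p.Prime] : pCore p G = piCore {p} G :=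
  le_antisymm (le_piCore inferInstance (isPiNum_singleton_card_iff.mpr (pCore_isPGroup p)))
    (le_pCore inferInstance (isPiNum_singleton_card_iff.mp (piCore_isPiNum _)))

theorem le_pPrimeCore {p : ℕ} {N : Subgroup G} (hN : N.Normal) (h : (Nat.card N).Coprime p) :
    N ≤ pPrimeCore p G := le_sSup ⟨hN, h⟩

theorem pPrimeCore_eq_piCore' (p : ℕ) : pPrimeCore p G = piCore {q | q ∣ p}ᶜ G := by
  unfold pPrimeCore piCore
  congr 1
  ext N
  exact and_congr_right fun _ => isPiNum_compl_primes_dvd_iff.symm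

theorem pPrimeCore_eq_piCore (p : ℕ) [hp : Fact p.Prime] :
    pPrimeCore p G = piCore ({p} : Set ℕ)ᶜ G := by
  unfold pPrimeCore piCore
  congr 1
  ext N
  exact and_congr_right fun _ => (isPiNum_compl_singleton_iff hp.out).symm

theorem pPrimeCore_coprime [Finite G] (p : ℕ) : (Nat.card (pPrimeCore p G)).Coprime p := by
  rw [pPrimeCore_eq_piCore', ← isPiNum_compl_primes_dvd_iff]
  exact piCore_isPiNum _

theorem not_dvd_card_pPrimeCore [Finite G] (p : ℕ) [hp : Fact p.Prime] :
    ¬ p ∣ Nat.card (pPrimeCore p G) :=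
  hp.out.coprime_iff_not_dvd.mp (pPrimeCore_coprime p).symm

theorem map_pCore_le (p : ℕ) {f : G →* G'} (hf : Function.Surjective f) :
    (pCore p G).map f ≤ pCore p G' :=
  le_pCore ((pCore_normal p G).map f hf) ((pCore_isPGroup p).map f)

theorem map_pCore_equiv (p : ℕ) (e : G ≃* G') : (pCore p G).map (e : G →* G') = pCore p G' := by
  refine le_antisymm (map_pCore_le p e.surjective) fun x hx => ?_
  exact ⟨e.symm x, map_pCore_le p (f := (e.symm : G' →* G)) e.symm.surjective ⟨x, hx, rfl⟩,
    by simp⟩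

instance pCore_characteristic (p : ℕ) : (pCore p G).Characteristic :=
  characteristic_iff_map_eq.mpr fun φ => map_pCore_equiv p φ

theorem map_pPrimeCore_le [Finite G] (p : ℕ) {f : G →* G'} (hf : Function.Surjective f) :
    (pPrimeCore p G).map f ≤ pPrimeCore p G' := by
  rw [pPrimeCore_eq_piCore', pPrimeCore_eq_piCore']; exact map_piCore_le _ hf

theorem map_pPrimeCore_equiv (p : ℕ) (e : G ≃* G') :
    (pPrimeCore p G).map (e : G →* G') = pPrimeCore p G' := by
  rw [pPrimeCore_eq_piCore', pPrimeCore_eq_piCore']; exact map_piCore_equiv _ e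

instance pPrimeCore_characteristic (p : ℕ) : (pPrimeCore p G).Characteristic :=
  characteristic_iff_map_eq.mpr fun φ => map_pPrimeCore_equiv p φ

theorem map_subtype_pCore_le (p : ℕ) (N : Subgroup G) [N.Normal] :
    (pCore p N).map N.subtype ≤ pCore p G :=
  le_pCore inferInstance ((pCore_isPGroup p).map _)

theorem pCore_subgroupOf_le (p : ℕ) (H : Subgroup G) : (pCore p G).subgroupOf H ≤ pCore p H :=
  le_pCore inferInstance (pCore_isPGroup p).comap_subtype

theorem pCore_inf_le_map (p : ℕ) (H : Subgroup G) :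
    pCore p G ⊓ H ≤ (pCore p H).map H.subtype := by
  rw [← subgroupOf_map_subtype]
  exact map_mono (pCore_subgroupOf_le p H)

theorem map_subtype_pCore_of_normal (p : ℕ) (N : Subgroup G) [N.Normal] :
    (pCore p N).map N.subtype = pCore p G ⊓ N :=
  le_antisymm (le_inf (map_subtype_pCore_le p N) (map_subtype_le _)) (pCore_inf_le_map p N)

/-- A `p`-subgroup of `H` normalized by `H` lies in `O_p(H)`. -/
theorem le_map_pCore {p : ℕ} {P H : Subgroup G} (hPH : P ≤ H) (hn : H ≤ normalizer (P : Set G))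
    (hP : IsPGroup p P) : P ≤ (pCore p H).map H.subtype := by
  rw [← map_subgroupOf_eq_of_le hPH]
  exact map_mono (le_pCore ((normal_subgroupOf_iff_le_normalizer hPH).mpr hn) hP.comap_subtype)

theorem map_subtype_pPrimeCore_le [Finite G] (p : ℕ) (N : Subgroup G) [N.Normal] :
    (pPrimeCore p N).map N.subtype ≤ pPrimeCore p G := by
  rw [pPrimeCore_eq_piCore', pPrimeCore_eq_piCore']; exact map_subtype_piCore_le _ N

theorem pPrimeCore_subgroupOf_le [Finite G] (p : ℕ) (H : Subgroup G) :
    (pPrimeCore p G).subgroupOf H ≤ pPrimeCore p H := by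
  rw [pPrimeCore_eq_piCore', pPrimeCore_eq_piCore']; exact piCore_subgroupOf_le _ H

theorem pPrimeCore_inf_le_map [Finite G] (p : ℕ) (H : Subgroup G) :
    pPrimeCore p G ⊓ H ≤ (pPrimeCore p H).map H.subtype := by
  rw [pPrimeCore_eq_piCore', pPrimeCore_eq_piCore']; exact piCore_inf_le_map _ H

theorem map_subtype_pPrimeCore_of_normal [Finite G] (p : ℕ) (N : Subgroup G) [N.Normal] :
    (pPrimeCore p N).map N.subtype = pPrimeCore p G ⊓ N := by
  rw [pPrimeCore_eq_piCore', pPrimeCore_eq_piCore']; exact map_subtype_piCore_of_normal _ N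

/-- A `p'`-subgroup of `H` normalized by `H` lies in `O_{p'}(H)`. -/
theorem le_map_pPrimeCore {p : ℕ} {Q H : Subgroup G} (hQH : Q ≤ H)
    (hn : H ≤ normalizer (Q : Set G)) (hQ : (Nat.card Q).Coprime p) :
    Q ≤ (pPrimeCore p H).map H.subtype := by
  rw [← map_subgroupOf_eq_of_le hQH]
  exact map_mono (le_pPrimeCore ((normal_subgroupOf_iff_le_normalizer hQH).mpr hn)
    (by rwa [card_subgroupOf_of_le hQH]))

theorem le_map_piCore {π : Set ℕ} {Q H : Subgroup G} (hQH : Q ≤ H)
    (hn : H ≤ normalizer (Q : Set G)) (hQ : IsPiNum π (Nat.card Q)) :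
    Q ≤ (piCore π H).map H.subtype := by
  rw [← map_subgroupOf_eq_of_le hQH]
  exact map_mono (le_piCore ((normal_subgroupOf_iff_le_normalizer hQH).mpr hn)
    (by rwa [card_subgroupOf_of_le hQH]))

theorem le_pCore_of_isSubnormal [Finite G] {p : ℕ} [Fact p.Prime] {H : Subgroup G}
    (hH : H.IsSubnormal) (h : IsPGroup p H) : H ≤ pCore p G := by
  rw [pCore_eq_piCore]
  exact le_piCore_of_isSubnormal hH (isPiNum_singleton_card_iff.mpr h)

theorem le_pPrimeCore_of_isSubnormal [Finite G] {p : ℕ} {H : Subgroup G}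
    (hH : H.IsSubnormal) (h : (Nat.card H).Coprime p) : H ≤ pPrimeCore p G := by
  rw [pPrimeCore_eq_piCore']
  exact le_piCore_of_isSubnormal hH (isPiNum_compl_primes_dvd_iff.mpr h)

theorem isPGroup_comap_mk' {p : ℕ} {N : Subgroup G} [N.Normal] (hN : IsPGroup p N)
    {K : Subgroup (G ⧸ N)} (hK : IsPGroup p K) : IsPGroup p (K.comap (QuotientGroup.mk' N)) :=
  hK.comap_of_ker_isPGroup _ (by rwa [QuotientGroup.ker_mk'])

theorem comap_pCore_of_isPGroup (p : ℕ) {N : Subgroup G} [N.Normal] (h : IsPGroup p N) :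
    (pCore p (G ⧸ N)).comap (QuotientGroup.mk' N) = pCore p G := by
  apply le_antisymm
  · exact le_pCore inferInstance (isPGroup_comap_mk' h (pCore_isPGroup p))
  · rw [← map_le_iff_le_comap]
    exact map_pCore_le p (QuotientGroup.mk'_surjective N)

theorem pCore_quotient_pCore (p : ℕ) : pCore p (G ⧸ pCore p G) = ⊥ := by
  rw [← map_comap_mk' (pCore p G) (pCore p _), comap_pCore_of_isPGroup p (pCore_isPGroup p),
    map_mk'_eq_bot_iff]

theorem comap_pPrimeCore_of_coprime [Finite G] (p : ℕ) {N : Subgroup G} [N.Normal]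
    (h : (Nat.card N).Coprime p) :
    (pPrimeCore p (G ⧸ N)).comap (QuotientGroup.mk' N) = pPrimeCore p G := by
  rw [pPrimeCore_eq_piCore', pPrimeCore_eq_piCore']
  exact comap_piCore_of_le _ (isPiNum_compl_primes_dvd_iff.mpr h)

theorem pPrimeCore_quotient_pPrimeCore [Finite G] (p : ℕ) :
    pPrimeCore p (G ⧸ pPrimeCore p G) = ⊥ := by
  rw [← map_comap_mk' (pPrimeCore p G) (pPrimeCore p _),
    comap_pPrimeCore_of_coprime p (pPrimeCore_coprime p), map_mk'_eq_bot_iff]

theorem pCore_inf_pPrimeCore [Finite G] (p : ℕ) [Fact p.Prime] :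
    pCore p G ⊓ pPrimeCore p G = ⊥ :=
  inf_eq_bot_of_coprime' (IsPGroup_coprime_card (pCore_isPGroup p) (pPrimeCore_coprime p))

theorem pCore_le_pPrimeCore_of_ne [Finite G] {p q : ℕ} [hp : Fact p.Prime] [hq : Fact q.Prime]
    (h : q ≠ p) : pCore q G ≤ pPrimeCore p G :=
  le_pPrimeCore inferInstance (IsPGroup_coprime_card (pCore_isPGroup q)
    ((Nat.coprime_primes hp.out hq.out).mpr h.symm))

theorem commutator_eq_bot_of_coprime {H K : Subgroup G} [H.Normal] [K.Normal]
    (h : (Nat.card H).Coprime (Nat.card K)) : ⁅H, K⁆ = ⊥ :=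
  commutator_eq_bot_of_disjoint (disjoint_of_coprime_natCard h)

theorem le_centralizer_of_coprime {H K : Subgroup G} [H.Normal] [K.Normal]
    (h : (Nat.card H).Coprime (Nat.card K)) : H ≤ centralizer (K : Set G) :=
  commutator_eq_bot_iff_le_centralizer.mp (commutator_eq_bot_of_coprime h)

/-- Two subgroups normalizing each other and meeting trivially commute. -/
theorem le_centralizer_of_normalizes_of_disjoint {H K : Subgroup G}
    (h1 : H ≤ normalizer (K : Set G)) (h2 : K ≤ normalizer (H : Set G)) (h : H ⊓ K = ⊥) :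
    H ≤ centralizer (K : Set G) := by
  rw [← commutator_eq_bot_iff_le_centralizer, eq_bot_iff, ← h]
  exact le_inf (le_normalizer_iff_commutator_le_left.mp h2)
    (le_normalizer_iff_commutator_le_right.mp h1)

theorem pPrimeCore_le_centralizer_pCore [Finite G] (p : ℕ) [Fact p.Prime] :
    pPrimeCore p G ≤ centralizer (pCore p G : Set G) :=
  le_centralizer_of_coprime (IsPGroup_coprime_card (pCore_isPGroup p) (pPrimeCore_coprime p)).symm

theorem pCore_eq_iInf_sylow [Finite G] (p : ℕ) [Fact p.Prime] :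
    pCore p G = ⨅ P : Sylow p G, (P : Subgroup G) := by
  apply le_antisymm (le_iInf fun P => pCore_le_sylow P)
  apply le_pCore
  · refine ⟨fun x hx g => ?_⟩
    rw [mem_iInf] at hx ⊢
    intro P
    have := hx (g⁻¹ • P)
    rw [Sylow.coe_subgroup_smul, mem_conj_smul, inv_inv] at this
    exact this
  · obtain ⟨P⟩ : Nonempty (Sylow p G) := inferInstance
    exact P.isPGroup'.to_le (iInf_le _ P)

theorem pCore_eq_normalCore [Finite G] {p : ℕ} (P : Sylow p G) :
    pCore p G = (P : Subgroup G).normalCore :=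
  le_antisymm (normal_le_normalCore.mpr (pCore_le_sylow P))
    (le_pCore inferInstance (P.isPGroup'.to_le (normalCore_le _)))

theorem sylow_eq_pCore_of_normal {p : ℕ} (P : Sylow p G) (h : (P : Subgroup G).Normal) :
    (P : Subgroup G) = pCore p G :=
  le_antisymm (le_pCore h P.isPGroup') (pCore_le_sylow P)

/-- If the index of a normal `p`-subgroup is prime to `p`, every Sylow `p`-subgroup is normal. -/
theorem sylow_normal_of_not_dvd_index [Finite G] {p : ℕ} [Fact p.Prime] {N : Subgroup G}
    [hN : N.Normal] (h : IsPGroup p N) (hi : ¬ p ∣ N.index) (P : Sylow p G) :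
    (P : Subgroup G).Normal := by
  have := (h.toSylow hi).unique_of_normal hN
  exact P.normal_of_subsingleton

theorem sylow_eq_of_not_dvd_index [Finite G] {p : ℕ} [Fact p.Prime] {N : Subgroup G}
    [hN : N.Normal] (h : IsPGroup p N) (hi : ¬ p ∣ N.index) (P : Sylow p G) :
    (P : Subgroup G) = N := by
  have := (h.toSylow hi).unique_of_normal hN
  rw [Subsingleton.elim P (h.toSylow hi)]
  rfl

/-- In a finite nilpotent group the `p`-core is the Sylow `p`-subgroup. -/
theorem not_dvd_index_pCore_of_isNilpotent [Finite G] [Group.IsNilpotent G] (p : ℕ)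
    [Fact p.Prime] : ¬ p ∣ (pCore p G).index := by
  obtain ⟨P⟩ : Nonempty (Sylow p G) := inferInstance
  rw [← sylow_eq_pCore_of_normal P inferInstance]
  exact P.not_dvd_index

/-! ### The Fitting subgroup -/

instance fitting_normal : (fittingSubgroup G).Normal :=
  Subgroup.sSup_normal _ (fun _ h => h.1)

theorem le_fitting {N : Subgroup G} (hN : N.Normal) (h : Group.IsNilpotent N) :
    N ≤ fittingSubgroup G := le_sSup ⟨hN, h⟩

theorem pCore_le_fitting [Finite G] (p : ℕ) [Fact p.Prime] : pCore p G ≤ fittingSubgroup G :=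
  le_fitting inferInstance (pCore_isPGroup p).isNilpotent

theorem center_le_fitting : center G ≤ fittingSubgroup G :=
  le_fitting inferInstance (isNilpotent_of_comm inferInstance)

theorem not_dvd_relIndex_pCore_fitting [Finite G] (p : ℕ) [hp : Fact p.Prime] :
    ¬ p ∣ (pCore p G).relIndex (fittingSubgroup G) := by
  have h : (fittingSubgroup G).map (QuotientGroup.mk' (pCore p G)) ≤ pPrimeCore p _ := by
    rw [map_le_iff_le_comap]
    apply sSup_le
    rintro N ⟨h1, h2⟩
    rw [← map_le_iff_le_comap]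
    apply le_pPrimeCore (h1.map _ (QuotientGroup.mk'_surjective _))
    rw [card_map_mk', Nat.coprime_comm, hp.out.coprime_iff_not_dvd]
    intro hd
    apply not_dvd_index_pCore_of_isNilpotent (G := N) p
    refine hd.trans (index_dvd_of_le ?_)
    exact map_le_iff_le_comap.mp (map_subtype_pCore_le p N)
  rw [← card_map_mk']
  exact fun hd => not_dvd_card_pPrimeCore p (hd.trans (card_dvd_of_le h))

/-- Fitting's theorem. -/
theorem fitting_isNilpotent [Finite G] : Group.IsNilpotent (fittingSubgroup G) := by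
  rw [isNilpotent_iff_sylow_normal]
  intro p hp P
  exact sylow_normal_of_not_dvd_index (N := (pCore p G).subgroupOf (fittingSubgroup G))
    (pCore_isPGroup p).comap_subtype (not_dvd_relIndex_pCore_fitting p) P

theorem isNilpotent_sup_of_normal [Finite G] {A B : Subgroup G} [hA : A.Normal] [hB : B.Normal]
    (h1 : Group.IsNilpotent A) (h2 : Group.IsNilpotent B) : Group.IsNilpotent ↥(A ⊔ B) :=
  isNilpotent_of_le fitting_isNilpotent (sup_le (le_fitting hA h1) (le_fitting hB h2))

theorem fitting_eq_top_iff [Finite G] : fittingSubgroup G = ⊤ ↔ Group.IsNilpotent G := by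
  constructor
  · intro h
    rw [← Group.isNilpotent_top, ← h]
    exact fitting_isNilpotent
  · intro h
    exact eq_top_iff.mpr (le_fitting inferInstance inferInstance)

/-- A subgroup containing a Sylow `p`-subgroup for each prime is everything. -/
theorem eq_top_of_forall_not_dvd_index {H : Subgroup G}
    (h : ∀ p : ℕ, p.Prime → ¬ p ∣ H.index) : H = ⊤ := by
  rw [← index_eq_one]
  by_contra hne
  obtain ⟨p, hp, hd⟩ := Nat.exists_prime_and_dvd hne
  exact h p hp hd

theorem le_of_forall_not_dvd_relIndex {H K : Subgroup G}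
    (h : ∀ p : ℕ, p.Prime → ¬ p ∣ H.relIndex K) : K ≤ H := by
  rw [← subgroupOf_eq_top]
  exact eq_top_of_forall_not_dvd_index h

theorem eq_top_of_forall_sylow_le [Finite G] {H : Subgroup G}
    (h : ∀ (p : ℕ) [Fact p.Prime], ∃ P : Sylow p G, (P : Subgroup G) ≤ H) : H = ⊤ := by
  apply eq_top_of_forall_not_dvd_index
  intro p hp hd
  have := Fact.mk hp
  obtain ⟨P, hP⟩ := h p
  exact P.not_dvd_index (hd.trans (index_dvd_of_le hP))

theorem fitting_eq_iSup_pCore [Finite G] :
    fittingSubgroup G = ⨆ p : Nat.Primes, pCore (p : ℕ) G := by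
  apply le_antisymm
  · apply le_of_forall_not_dvd_relIndex
    intro p hp hd
    have := Fact.mk hp
    apply not_dvd_relIndex_pCore_fitting (G := G) p
    exact hd.trans (relIndex_dvd_of_le_left _ (le_iSup (fun q : Nat.Primes => pCore (q : ℕ) G)
      ⟨p, hp⟩))
  · refine iSup_le fun p => ?_
    have := Fact.mk p.2
    exact pCore_le_fitting _

theorem fitting_le_iff [Finite G] {H : Subgroup G} :
    fittingSubgroup G ≤ H ↔ ∀ (p : ℕ) [Fact p.Prime], pCore p G ≤ H := by
  constructor
  · intro h p _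
    exact (pCore_le_fitting p).trans h
  · intro h
    rw [fitting_eq_iSup_pCore]
    refine iSup_le fun p => ?_
    have := Fact.mk p.2
    exact h _

theorem map_fitting_le [Finite G] {f : G →* G'} (hf : Function.Surjective f) :
    (fittingSubgroup G).map f ≤ fittingSubgroup G' :=
  le_fitting (fitting_normal.map f hf) (isNilpotent_map fitting_isNilpotent f)

theorem map_fitting_equiv (e : G ≃* G') :
    (fittingSubgroup G).map (e : G →* G') = fittingSubgroup G' := by
  apply le_antisymm
  · rw [map_le_iff_le_comap]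
    apply sSup_le
    rintro N ⟨h1, h2⟩
    rw [← map_le_iff_le_comap]
    exact le_fitting (h1.map _ e.surjective) (isNilpotent_map h2 _)
  · apply sSup_le
    rintro N ⟨h1, h2⟩
    have : N.map (e.symm : G' →* G) ≤ fittingSubgroup G :=
      le_fitting (h1.map _ e.symm.surjective) (isNilpotent_map h2 _)
    intro x hx
    exact ⟨e.symm x, this ⟨x, hx, rfl⟩, by simp⟩

instance fitting_characteristic : (fittingSubgroup G).Characteristic :=
  characteristic_iff_map_eq.mpr fun φ => map_fitting_equiv φ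

theorem map_subtype_fitting_le [Finite G] (N : Subgroup G) [N.Normal] :
    (fittingSubgroup N).map N.subtype ≤ fittingSubgroup G :=
  le_fitting inferInstance (isNilpotent_map fitting_isNilpotent _)

theorem fitting_subgroupOf_le [Finite G] (H : Subgroup G) :
    (fittingSubgroup G).subgroupOf H ≤ fittingSubgroup H :=
  le_fitting inferInstance (isNilpotent_subgroupOf fitting_isNilpotent H)

theorem fitting_inf_le_map [Finite G] (H : Subgroup G) :
    fittingSubgroup G ⊓ H ≤ (fittingSubgroup H).map H.subtype := by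
  rw [← subgroupOf_map_subtype]
  exact map_mono (fitting_subgroupOf_le H)

theorem map_subtype_fitting_of_normal [Finite G] (N : Subgroup G) [N.Normal] :
    (fittingSubgroup N).map N.subtype = fittingSubgroup G ⊓ N :=
  le_antisymm (le_inf (map_subtype_fitting_le N) (map_subtype_le _)) (fitting_inf_le_map N)

theorem le_map_fitting {Q H : Subgroup G} (hQH : Q ≤ H) (hn : H ≤ normalizer (Q : Set G))
    (hQ : Group.IsNilpotent Q) : Q ≤ (fittingSubgroup H).map H.subtype := by
  rw [← map_subgroupOf_eq_of_le hQH]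
  exact map_mono (le_fitting ((normal_subgroupOf_iff_le_normalizer hQH).mpr hn)
    (isNilpotent_subgroupOf hQ H))

theorem map_subtype_fitting_le_of_isSubnormal [Finite G] {K : Subgroup G} (hK : K.IsSubnormal) :
    (fittingSubgroup K).map K.subtype ≤ fittingSubgroup G := by
  induction hK with
  | top =>
    exact map_subtype_fitting_le ⊤
  | step K L hKL _ hn ih =>
    refine le_trans ?_ ih
    have h1 := map_subtype_fitting_le (K.subgroupOf L)
    have h2 := map_fitting_equiv (subgroupOfEquivOfLe hKL)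
    rw [← h2, map_map]
    refine le_trans (le_of_eq ?_) (map_mono h1)
    rw [map_map]
    rfl

theorem le_fitting_of_isSubnormal [Finite G] {H : Subgroup G} (hH : H.IsSubnormal)
    (h : Group.IsNilpotent H) : H ≤ fittingSubgroup G := by
  refine le_trans ?_ (map_subtype_fitting_le_of_isSubnormal hH)
  rw [fitting_eq_top_iff.mpr h, ← MonoidHom.range_eq_map, range_subtype]

theorem fitting_ne_bot_of_solvable_normal [Finite G] {N : Subgroup G} [N.Normal] (h : N ≠ ⊥)
    (hs : Group.IsSolvable N) : N ⊓ fittingSubgroup G ≠ ⊥ := by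
  obtain ⟨M, p, hMN, hM, hp, -, hP⟩ := exists_minNormal_elementaryAbelian_le h hs
  have := Fact.mk hp
  intro hb
  apply hM.2.1
  rw [eq_bot_iff, ← hb]
  exact le_inf hMN (le_fitting hM.1 hP.isNilpotent)

theorem fitting_ne_bot [Finite G] [Nontrivial G] [Group.IsSolvable G] :
    fittingSubgroup G ≠ ⊥ := by
  have := fitting_ne_bot_of_solvable_normal (N := (⊤ : Subgroup G)) top_ne_bot inferInstance
  rwa [top_inf_eq] at this

/-- A subgroup `M` with `[M, M, M] = 1` is nilpotent. -/
theorem isNilpotent_of_commutator_le_centralizer {M : Subgroup G}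
    (h : ⁅M, M⁆ ≤ centralizer (M : Set G)) : Group.IsNilpotent M :=
  isNilpotent_of_lowerCentralSeries_eq_bot (n := 2) (commutator_eq_bot_iff_le_centralizer.mpr h)

/-- A solvable normal subgroup centralizing the Fitting subgroup lies in it. -/
theorem le_fitting_of_solvable_of_le_centralizer [Finite G] {C : Subgroup G} [C.Normal]
    (hs : Group.IsSolvable C) (hC : C ≤ centralizer (fittingSubgroup G : Set G)) :
    C ≤ fittingSubgroup G := by
  by_contra hne
  set Z := C ⊓ fittingSubgroup G with hZ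
  have h1 : C.map (QuotientGroup.mk' Z) ≠ ⊥ := by
    rw [Ne, map_mk'_eq_bot_iff]
    exact fun h => hne (h.trans inf_le_right)
  have : (C.map (QuotientGroup.mk' Z)).Normal :=
    Normal.map inferInstance _ (QuotientGroup.mk'_surjective Z)
  obtain ⟨M, p, hMC, hM, -, he, -⟩ := exists_minNormal_elementaryAbelian_le h1 (isSolvable_map hs _)
  have := hM.1
  set M' := M.comap (QuotientGroup.mk' Z) with hM'
  have h2 : M' ≤ C := by
    have := comap_mono (f := QuotientGroup.mk' Z) hMC
    rwa [comap_map_mk'', sup_eq_left.mpr inf_le_left] at this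
  have h3 : ⁅M', M'⁆ ≤ Z := by
    rw [← map_mk'_eq_bot_iff, map_commutator, map_comap_mk', commutator_self_eq_bot_iff]
    exact he.1
  have h4 : M' ≤ fittingSubgroup G := by
    apply le_fitting inferInstance
    apply isNilpotent_of_commutator_le_centralizer
    refine h3.trans (inf_le_right.trans ?_)
    rw [le_centralizer_iff]
    exact h2.trans hC
  apply hM.2.1
  rw [← map_comap_mk' Z M, map_mk'_eq_bot_iff]
  exact le_inf h2 h4

/-- In a finite solvable group the Fitting subgroup contains its centralizer. -/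
theorem centralizer_fitting_le [Finite G] [Group.IsSolvable G] :
    centralizer (fittingSubgroup G : Set G) ≤ fittingSubgroup G :=
  le_fitting_of_solvable_of_le_centralizer inferInstance le_rfl

theorem fitting_eq_pCore_of_pPrimeCore_eq_bot [Finite G] (p : ℕ) [Fact p.Prime]
    (h : pPrimeCore p G = ⊥) : fittingSubgroup G = pCore p G := by
  refine le_antisymm (fitting_le_iff.mpr fun q _ => ?_) (pCore_le_fitting p)
  by_cases hq : q = p
  · subst hq; exact le_rfl
  · exact (pCore_le_pPrimeCore_of_ne hq).trans (h ▸ bot_le)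

theorem fitting_le_pCore_sup_pPrimeCore [Finite G] (p : ℕ) [Fact p.Prime] :
    fittingSubgroup G ≤ pCore p G ⊔ pPrimeCore p G := by
  refine fitting_le_iff.mpr fun q _ => ?_
  by_cases hq : q = p
  · subst hq; exact le_sup_left
  · exact (pCore_le_pPrimeCore_of_ne hq).trans le_sup_right

theorem fitting_le_piCore_of_piCore_compl_eq_bot [Finite G] (π : Set ℕ)
    (h : piCore πᶜ G = ⊥) : fittingSubgroup G ≤ piCore π G := by
  refine fitting_le_iff.mpr fun q _ => ?_
  by_cases hq : q ∈ π
  · exact le_piCore inferInstance (isPiNum_card_of_isPGroup (pCore_isPGroup q) hq)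
  · exact (le_piCore (π := πᶜ) inferInstance
      (isPiNum_card_of_isPGroup (pCore_isPGroup q) hq)).trans (h ▸ bot_le)

/-- Hall–Higman Lemma 1.2.3 for solvable groups. -/
theorem centralizer_pCore_le [Finite G] [Group.IsSolvable G] (p : ℕ) [Fact p.Prime]
    (h : pPrimeCore p G = ⊥) : centralizer (pCore p G : Set G) ≤ pCore p G := by
  rw [← fitting_eq_pCore_of_pPrimeCore_eq_bot p h]
  exact centralizer_fitting_le

theorem centralizer_piCore_le [Finite G] [Group.IsSolvable G] (π : Set ℕ)
    (h : piCore πᶜ G = ⊥) : centralizer (piCore π G : Set G) ≤ piCore π G :=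
  ((centralizer_le (fitting_le_piCore_of_piCore_compl_eq_bot π h)).trans
    centralizer_fitting_le).trans (fitting_le_piCore_of_piCore_compl_eq_bot π h)

/-- A nontrivial normal subgroup of a nilpotent group meets the centre. -/
theorem inf_center_ne_bot [Group.IsNilpotent G] {N : Subgroup G} [N.Normal] (hN : N ≠ ⊥) :
    N ⊓ center G ≠ ⊥ := by
  intro h
  have key : ∀ n, N ⊓ Subgroup.upperCentralSeries G n = ⊥ := by
    intro n
    induction n with
    | zero => simp
    | succ n ih =>
      rw [eq_bot_iff, ← h]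
      refine le_inf inf_le_left ?_
      rw [← commutator_top_right_eq_bot_iff_le_center, eq_bot_iff, ← ih]
      exact le_inf ((commutator_mono inf_le_left le_rfl).trans (commutator_le_left _ _))
        ((commutator_mono inf_le_right le_rfl).trans (commutator_upperCentralSeries_top_le G n))
  obtain ⟨n, hn⟩ := Group.IsNilpotent.nilpotent G
  have := key n
  rw [hn, inf_top_eq] at this
  exact hN this

/-- Internal form: a nontrivial subgroup `N ≤ P` normalized by the nilpotent group `P` meets
`C(P)`. -/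
theorem inf_centralizer_ne_bot {N P : Subgroup G} (hP : Group.IsNilpotent P) (hNP : N ≤ P)
    (hn : P ≤ normalizer (N : Set G)) (hN : N ≠ ⊥) : N ⊓ centralizer (P : Set G) ≠ ⊥ := by
  have : (N.subgroupOf P).Normal := (normal_subgroupOf_iff_le_normalizer hNP).mpr hn
  have h1 : N.subgroupOf P ≠ ⊥ := by
    intro h
    apply hN
    rw [← map_subgroupOf_eq_of_le hNP, h, Subgroup.map_bot]
  intro h
  apply inf_center_ne_bot h1
  rw [← map_subtype_inj, Subgroup.map_bot, map_inf_eq _ _ _ P.subtype_injective,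
    map_subgroupOf_eq_of_le hNP, map_subtype_center, ← inf_assoc, inf_eq_left.mpr hNP, h]

/-- The Fitting subgroup centralizes every minimal normal subgroup. -/
theorem fitting_le_centralizer_of_isMinNormal [Finite G] {M : Subgroup G} (hM : IsMinNormal M) :
    fittingSubgroup G ≤ centralizer (M : Set G) := by
  have := hM.1
  rcases hM.2.2 (M ⊓ fittingSubgroup G) inferInstance inf_le_left with h | h
  · rw [le_centralizer_iff]
    exact le_centralizer_of_normalizes_of_disjoint le_normalizer_of_normal le_normalizer_of_normal h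
  · have h1 := inf_centralizer_ne_bot fitting_isNilpotent (inf_eq_left.mp h)
      le_normalizer_of_normal hM.2.1
    have h2 := (hM.2.2 _ inferInstance inf_le_left).resolve_left h1
    rw [le_centralizer_iff]
    exact inf_eq_left.mp h2

/-- Proper subgroups of a nilpotent group grow under normalizers (internal form). -/
theorem lt_inf_normalizer_of_isNilpotent {H P : Subgroup G} (hP : Group.IsNilpotent P)
    (h : H < P) : H < P ⊓ normalizer (H : Set G) := by
  have h1 : H.subgroupOf P < ⊤ := by
    rw [lt_top_iff_ne_top, Ne, subgroupOf_eq_top]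
    exact not_le_of_gt h
  have h2 := Group.normalizerCondition_of_isNilpotent (G := P) _ h1
  rw [← subgroupOf_normalizer_eq h.le, ← map_subtype_lt_map_subtype, map_subgroupOf_eq_of_le h.le,
    subgroupOf_map_subtype, inf_comm] at h2
  exact h2

end Cfsg.Agent.Core
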