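import Cfsg.Agent.Core.SZ

/-!
# Core library: Hall's theorems, and Sylow subgroups of subgroups (internal form)
-/

set_option autoImplicit false

namespace Cfsg.Agent.Core

open Subgroup
open scoped Pointwise commutatorElement

universe u v

variable {G : Type u} [Group G] {G' : Type v} [Group G']

/-! ### Hall subgroups: formal properties -/

theorem isPiHall_map {π : Set ℕ} {H : Subgroup G} (hH : IsPiHall π H) {f : G →* G'}
    (hf : Function.Surjective f) : IsPiHall π (H.map f) := by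
  rw [isPiHall_iff] at hH ⊢
  exact ⟨isPiNum_card_map hH.1 f, hH.2.of_dvd (index_map_dvd H hf)⟩

theorem isPiHall_smul {α : Type*} [Group α] [MulDistribMulAction α G] {π : Set ℕ}
    {H : Subgroup G} (hH : IsPiHall π H) (a : α) : IsPiHall π (a • H) := by
  rw [isPiHall_iff] at hH ⊢
  rwa [card_smul, index_smul]

theorem isPiHall_card_eq [Finite G] {π : Set ℕ} {H K : Subgroup G} (hH : IsPiHall π H)
    (hK : IsPiHall π K) : Nat.card H = Nat.card K := by
  rw [isPiHall_iff] at hH hK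
  exact hH.1.eq_of_mul_eq hK.1 hH.2 hK.2 (by rw [card_mul_index, card_mul_index])

theorem card_dvd_of_isPiHall [Finite G] {π : Set ℕ} {H K : Subgroup G} (hH : IsPiHall π H)
    (hK : IsPiNum π (Nat.card K)) : Nat.card K ∣ Nat.card H := by
  rw [isPiHall_iff] at hH
  apply (hK.coprime hH.2).dvd_of_dvd_mul_right
  rw [card_mul_index]
  exact card_subgroup_dvd_card K

theorem eq_of_isPiHall_of_le [Finite G] {π : Set ℕ} {H K : Subgroup G} (hH : IsPiHall π H)
    (hK : IsPiNum π (Nat.card K)) (h : H ≤ K) : K = H :=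
  (eq_of_le_of_card_ge h (Nat.le_of_dvd Nat.card_pos (card_dvd_of_isPiHall hH hK))).symm

theorem isPiHall_coprime {π : Set ℕ} {H : Subgroup G} (hH : IsPiHall π H) :
    (Nat.card H).Coprime H.index :=
  (isPiHall_iff.mp hH).1.coprime (isPiHall_iff.mp hH).2

theorem isPiHall_of_coprime {H : Subgroup G} (hH : (Nat.card H).Coprime H.index) :
    IsPiHall {p | p ∣ Nat.card H} H :=
  isPiHall_iff.mpr ⟨isPiNum_primes_dvd _, isPiNum_compl_primes_dvd_iff.mpr hH.symm⟩

theorem isPiHall_of_coprime' {H : Subgroup G} (hH : (Nat.card H).Coprime H.index) :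
    IsPiHall {p | p ∣ H.index}ᶜ H :=
  isPiHall_iff.mpr ⟨isPiNum_compl_primes_dvd_iff.mpr hH, by
    rw [compl_compl]; exact isPiNum_primes_dvd _⟩

theorem isPiHall_of_card_eq [Finite G] {π : Set ℕ} {H K : Subgroup G} (hH : IsPiHall π H)
    (h : Nat.card K = Nat.card H) : IsPiHall π K := by
  rw [isPiHall_iff] at hH ⊢
  have : K.index = H.index := by
    have e := K.card_mul_index
    rw [← H.card_mul_index, h] at e
    exact Nat.eq_of_mul_eq_mul_left Nat.card_pos e
  rwa [h, this]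

/-- A Hall subgroup meets a normal subgroup in a Hall subgroup. -/
theorem isPiHall_subgroupOf_of_normal [Finite G] {π : Set ℕ} {H : Subgroup G}
    (hH : IsPiHall π H) (N : Subgroup G) [N.Normal] : IsPiHall π (H.subgroupOf N) := by
  rw [isPiHall_iff] at hH ⊢
  refine ⟨hH.1.of_dvd (card_subgroupOf_dvd H N), hH.2.of_dvd ?_⟩
  have h1 := card_sup_mul_card_inf_of_normal H N
  rw [← card_mul_relIndex (le_sup_left : H ≤ H ⊔ N), ← card_inf_mul_relIndex H N, mul_assoc,
    mul_comm (H.relIndex (H ⊔ N))] at h1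
  have h2 := Nat.eq_of_mul_eq_mul_left Nat.card_pos
    (Nat.eq_of_mul_eq_mul_left Nat.card_pos h1)
  change H.relIndex N ∣ _
  rw [← h2]
  exact relIndex_dvd_index_of_le le_sup_left

theorem isPiHall_subgroupOf_of_le {π : Set ℕ} {H L : Subgroup G} (hH : IsPiHall π H)
    (h : H ≤ L) : IsPiHall π (H.subgroupOf L) := by
  rw [isPiHall_iff] at hH ⊢
  exact ⟨hH.1.of_dvd (card_subgroupOf_dvd H L), hH.2.of_dvd (relIndex_dvd_index_of_le h)⟩

theorem isPiHallOf_inf_of_normalizer [Finite G] {π : Set ℕ} {H M N : Subgroup G}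
    (hH : IsPiHallOf π H M) (hN : N ≤ M) (hn : M ≤ normalizer (N : Set G)) :
    IsPiHallOf π (H ⊓ N) N := by
  have : (N.subgroupOf M).Normal := (normal_subgroupOf_iff_le_normalizer hN).mpr hn
  have h1 := isPiHall_subgroupOf_of_normal ((isPiHallOf_iff_subgroupOf hH.1).mp hH)
    (N.subgroupOf M)
  rw [isPiHall_iff] at h1
  rw [isPiHallOf_iff]
  refine ⟨inf_le_right, isPiNum_card_of_le (isPiHallOf_iff.mp hH).2.1 inf_le_left, ?_⟩
  rw [inf_relIndex_right, ← relIndex_subgroupOf hN]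
  exact h1.2

theorem isPiHallOf_of_le {π : Set ℕ} {H M L : Subgroup G} (hH : IsPiHallOf π H M) (h1 : H ≤ L)
    (h2 : L ≤ M) : IsPiHallOf π H L := by
  rw [isPiHallOf_iff] at hH ⊢
  exact ⟨h1, hH.2.1, hH.2.2.of_dvd ⟨_, (relIndex_mul_relIndex H L M h1 h2).symm⟩⟩

theorem isPiHallOf_conj {π : Set ℕ} {H M : Subgroup G} (hH : IsPiHallOf π H M) (g : G) :
    IsPiHallOf π (MulAut.conj g • H) (MulAut.conj g • M) := by
  rw [isPiHallOf_iff] at hH ⊢
  rwa [pointwise_smul_le_pointwise_smul_iff, card_smul, relIndex_pointwise_smul]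

theorem isPiHallOf_conj_of_mem_normalizer {π : Set ℕ} {H M : Subgroup G} (hH : IsPiHallOf π H M)
    {g : G} (hg : g ∈ normalizer (M : Set G)) : IsPiHallOf π (MulAut.conj g • H) M := by
  have := isPiHallOf_conj hH g
  rwa [conj_smul_eq_of_mem_normalizer hg] at this

theorem isPiHallOf_map {π : Set ℕ} {H M : Subgroup G} (hH : IsPiHallOf π H M) (f : G →* G') :
    IsPiHallOf π (H.map f) (M.map f) := by
  have h1 := isPiHall_map ((isPiHallOf_iff_subgroupOf hH.1).mp hH) (f.subgroupMap_surjective M)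
  rw [← isPiHallOf_map_subtype, map_map] at h1
  have h2 : (M.map f).subtype.comp (f.subgroupMap M) = f.comp M.subtype := rfl
  rwa [h2, ← map_map, map_subgroupOf_eq_of_le hH.1] at h1

/-! ### Hall's theorems -/

private theorem hall_exists_aux (π : Set ℕ) (G : Type u) [Group G] [Finite G] :
    ∀ (K : Subgroup G) [K.Normal], Group.IsSolvable K → IsPiNum π K.index →
      ∃ H : Subgroup G, IsPiHall π H := by
  induction G, ‹Group G›, ‹Finite G› using card_induction' with | _ G ih => ?_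
  intro K _ hs hi
  by_cases hK : K = ⊥
  · subst hK
    refine ⟨⊤, isPiHall_iff.mpr ⟨?_, ?_⟩⟩
    · rwa [card_top, ← index_bot]
    · rw [index_top]; exact isPiNum_one _
  obtain ⟨M, p, hMK, hM, hp, -, hP⟩ := exists_minNormal_elementaryAbelian_le hK hs
  have := hM.1
  have := Fact.mk hp
  have := map_mk'_normal K M
  obtain ⟨H, hH⟩ := ih (G ⧸ M) (card_quotient_lt hM.2.1) (K.map (QuotientGroup.mk' M))
    (isSolvable_map hs _) (hi.of_dvd (index_map_dvd K (QuotientGroup.mk'_surjective M)))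
  rw [isPiHall_iff] at hH
  set L := H.comap (QuotientGroup.mk' M) with hL
  have hLi : L.index = H.index := index_comap_of_surjective _ (QuotientGroup.mk'_surjective M)
  by_cases hp' : p ∈ π
  · refine ⟨L, isPiHall_iff.mpr ⟨?_, hLi ▸ hH.2⟩⟩
    rw [hL, card_comap_mk']
    exact hH.1.mul (isPiNum_card_of_isPGroup hP hp')
  · have hM' : IsPiNum πᶜ (Nat.card M) := isPiNum_card_of_isPGroup hP hp'
    have e : M.relIndex L = Nat.card H := by rw [← card_map_mk', hL, map_comap_mk']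
    obtain ⟨B, hBL, h1, h2, h3⟩ := exists_complement_in (le_comap_mk' M H) le_normalizer_of_normal
      (by rw [e]; exact (hH.1.coprime hM').symm)
    refine ⟨B, isPiHall_iff.mpr ⟨by rw [h3, e]; exact hH.1, ?_⟩⟩
    have e2 : B.relIndex L = Nat.card M := by
      have e3 := card_mul_relIndex hBL
      rw [card_comap_mk', h3, e] at e3
      exact Nat.eq_of_mul_eq_mul_left Nat.card_pos e3
    rw [← relIndex_mul_index hBL, e2, hLi]
    exact hM'.mul hH.2

private theorem hall_dominance_aux (π : Set ℕ) (G : Type u) [Group G] [Finite G] :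
    ∀ (K : Subgroup G) [K.Normal], Group.IsSolvable K → IsPiNum π K.index →
      ∀ H U : Subgroup G, IsPiHall π H → IsPiNum π (Nat.card U) →
        ∃ g : G, U ≤ MulAut.conj g • H := by
  induction G, ‹Group G›, ‹Finite G› using card_induction' with | _ G ih => ?_
  intro K _ hs hi H U hH hU
  by_cases hK : K = ⊥
  · subst hK
    have : ⊤ = H := eq_of_isPiHall_of_le hH (by rwa [card_top, ← index_bot]) le_top
    exact ⟨1, by rw [← this, smul_top']; exact le_top⟩
  obtain ⟨M, p, hMK, hM, hp, -, hP⟩ := exists_minNormal_elementaryAbelian_le hK hs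
  have := hM.1
  have := Fact.mk hp
  have := map_mk'_normal K M
  obtain ⟨g, hg⟩ := ih (G ⧸ M) (card_quotient_lt hM.2.1) (K.map (QuotientGroup.mk' M))
    (isSolvable_map hs _) (hi.of_dvd (index_map_dvd K (QuotientGroup.mk'_surjective M)))
    _ _ (isPiHall_map hH (QuotientGroup.mk'_surjective M)) (isPiNum_card_map hU _)
  obtain ⟨g, rfl⟩ := QuotientGroup.mk'_surjective M g
  rw [← map_conj_smul, map_mk'_le_map_mk'_iff] at hg
  have hH' := isPiHall_smul hH (MulAut.conj g)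
  by_cases hp' : p ∈ π
  · refine ⟨g, hg.trans (sup_le le_rfl ?_)⟩
    exact le_of_normal_of_coprime_index
      ((isPiNum_card_of_isPGroup hP hp').coprime (isPiHall_iff.mp hH').2)
  · have hM' : IsPiNum πᶜ (Nat.card M) := isPiNum_card_of_isPGroup hP hp'
    obtain ⟨n, -, hn⟩ := exists_le_conj_of_le_sup le_normalizer_of_normal hg
      ((isPiHall_iff.mp hH').1.coprime hM') (hU.coprime hM')
      (Or.inr (Or.inl (isSolvable_of_le hs hMK)))
    exact ⟨n * g, by rwa [← conj_smul_conj_smul]⟩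

/-- Hall's existence theorem when `G` has a solvable normal subgroup of π-index. -/
theorem exists_isPiHall_of_normal [Finite G] (π : Set ℕ) (K : Subgroup G) [K.Normal]
    (hs : Group.IsSolvable K) (hi : IsPiNum π K.index) : ∃ H : Subgroup G, IsPiHall π H :=
  hall_exists_aux π G K hs hi

/-- Hall's dominance theorem when `G` has a solvable normal subgroup of π-index. -/
theorem exists_le_conj_of_isPiHall_of_normal [Finite G] {π : Set ℕ} (K : Subgroup G) [K.Normal]
    (hs : Group.IsSolvable K) (hi : IsPiNum π K.index) {H U : Subgroup G} (hH : IsPiHall π H)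
    (hU : IsPiNum π (Nat.card U)) : ∃ g : G, U ≤ MulAut.conj g • H :=
  hall_dominance_aux π G K hs hi H U hH hU

/-- Hall's theorem E. -/
theorem exists_isPiHall [Finite G] [Group.IsSolvable G] (π : Set ℕ) :
    ∃ H : Subgroup G, IsPiHall π H :=
  exists_isPiHall_of_normal π ⊤ inferInstance (by rw [index_top]; exact isPiNum_one _)

/-- Hall's theorem D. -/
theorem exists_le_conj_of_isPiHall [Finite G] [Group.IsSolvable G] {π : Set ℕ}
    {H U : Subgroup G} (hH : IsPiHall π H) (hU : IsPiNum π (Nat.card U)) :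
    ∃ g : G, U ≤ MulAut.conj g • H :=
  exists_le_conj_of_isPiHall_of_normal ⊤ inferInstance (by rw [index_top]; exact isPiNum_one _)
    hH hU

/-- Hall's theorem C. -/
theorem exists_conj_eq_of_isPiHall [Finite G] [Group.IsSolvable G] {π : Set ℕ}
    {H K : Subgroup G} (hH : IsPiHall π H) (hK : IsPiHall π K) :
    ∃ g : G, MulAut.conj g • H = K := by
  obtain ⟨g, hg⟩ := exists_le_conj_of_isPiHall hH hK.1
  exact ⟨g, eq_of_isPiHall_of_le hK (isPiHall_smul hH _).1 hg⟩

theorem exists_isPiHall_ge [Finite G] [Group.IsSolvable G] {π : Set ℕ} {U : Subgroup G}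
    (hU : IsPiNum π (Nat.card U)) : ∃ H : Subgroup G, IsPiHall π H ∧ U ≤ H := by
  obtain ⟨H, hH⟩ := exists_isPiHall (G := G) π
  obtain ⟨g, hg⟩ := exists_le_conj_of_isPiHall hH hU
  exact ⟨_, isPiHall_smul hH _, hg⟩

/-! Internal forms, inside a solvable subgroup `M`. -/

theorem exists_isPiHallOf_ge [Finite G] {π : Set ℕ} {U M : Subgroup G}
    (hs : Group.IsSolvable M) (hUM : U ≤ M) (hU : IsPiNum π (Nat.card U)) :
    ∃ H : Subgroup G, IsPiHallOf π H M ∧ U ≤ H := by
  obtain ⟨H, hH, h⟩ := exists_isPiHall_ge (π := π) (U := U.subgroupOf M)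
    (by rwa [card_subgroupOf_of_le hUM])
  refine ⟨H.map M.subtype, isPiHallOf_map_subtype.mpr hH, ?_⟩
  rw [← map_subgroupOf_eq_of_le hUM]
  exact map_mono h

theorem exists_isPiHallOf [Finite G] (π : Set ℕ) {M : Subgroup G} (hs : Group.IsSolvable M) :
    ∃ H : Subgroup G, IsPiHallOf π H M := by
  obtain ⟨H, hH, -⟩ := exists_isPiHallOf_ge (π := π) hs (bot_le : ⊥ ≤ M)
    (by rw [card_bot]; exact isPiNum_one _)
  exact ⟨H, hH⟩

theorem exists_le_conj_of_isPiHallOf [Finite G] {π : Set ℕ} {H U M : Subgroup G}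
    (hs : Group.IsSolvable M) (hH : IsPiHallOf π H M) (hUM : U ≤ M)
    (hU : IsPiNum π (Nat.card U)) : ∃ g ∈ M, U ≤ MulAut.conj g • H := by
  obtain ⟨g, hg⟩ := exists_le_conj_of_isPiHall ((isPiHallOf_iff_subgroupOf hH.1).mp hH)
    (U := U.subgroupOf M) (by rwa [card_subgroupOf_of_le hUM])
  exact ⟨g, g.2, le_conj_smul_of_subgroupOf hUM g hg⟩

theorem exists_conj_eq_of_isPiHallOf [Finite G] {π : Set ℕ} {H K M : Subgroup G}
    (hs : Group.IsSolvable M) (hH : IsPiHallOf π H M) (hK : IsPiHallOf π K M) :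
    ∃ g ∈ M, MulAut.conj g • H = K := by
  obtain ⟨g, hg⟩ := exists_conj_eq_of_isPiHall ((isPiHallOf_iff_subgroupOf hH.1).mp hH)
    ((isPiHallOf_iff_subgroupOf hK.1).mp hK)
  exact ⟨g, g.2, conj_smul_eq_of_subgroupOf hH.1 hK.1 g hg⟩

theorem eq_of_isPiHallOf_of_le [Finite G] {π : Set ℕ} {H K M : Subgroup G}
    (hH : IsPiHallOf π H M) (hK : IsPiNum π (Nat.card K)) (hKM : K ≤ M) (h : H ≤ K) : K = H := by
  have := eq_of_isPiHall_of_le ((isPiHallOf_iff_subgroupOf hH.1).mp hH) (K := K.subgroupOf M)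
    (by rwa [card_subgroupOf_of_le hKM]) (subgroupOf_mono M h)
  rw [← map_subgroupOf_eq_of_le hKM, this, map_subgroupOf_eq_of_le hH.1]

theorem isPiHallOf_card_eq [Finite G] {π : Set ℕ} {H K M : Subgroup G} (hH : IsPiHallOf π H M)
    (hK : IsPiHallOf π K M) : Nat.card H = Nat.card K := by
  rw [← card_subgroupOf_of_le hH.1, ← card_subgroupOf_of_le hK.1]
  exact isPiHall_card_eq ((isPiHallOf_iff_subgroupOf hH.1).mp hH)
    ((isPiHallOf_iff_subgroupOf hK.1).mp hK)

/-- A general Frattini argument: if every conjugate of `H` under `A` is a conjugate under `L`,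
then `A ≤ L N(H)`. -/
theorem frattini_argument_of_conj {A L H : Subgroup G}
    (h : ∀ a ∈ A, ∃ l ∈ L, MulAut.conj a • H = MulAut.conj l • H) :
    ∀ a ∈ A, ∃ l ∈ L, ∃ n ∈ normalizer (H : Set G), a = l * n := by
  intro a ha
  obtain ⟨l, hl, e⟩ := h a ha
  refine ⟨l, hl, l⁻¹ * a, ?_, by simp⟩
  rw [← conj_smul_eq_iff, ← conj_smul_conj_smul, e, conj_inv_smul_conj_smul]

/-- The Frattini argument for Hall subgroups of a solvable subgroup `L` normalized by `A`. -/
theorem hall_frattini [Finite G] {π : Set ℕ} {A L H : Subgroup G} (hs : Group.IsSolvable L)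
    (hA : A ≤ normalizer (L : Set G)) (hH : IsPiHallOf π H L) :
    ∀ a ∈ A, ∃ l ∈ L, ∃ n ∈ normalizer (H : Set G), a = l * n := by
  apply frattini_argument_of_conj
  intro a ha
  obtain ⟨l, hl, e⟩ := exists_conj_eq_of_isPiHallOf hs hH
    (isPiHallOf_conj_of_mem_normalizer hH (hA ha))
  exact ⟨l, hl, e.symm⟩

theorem hall_frattini_normal [Finite G] {π : Set ℕ} {L H : Subgroup G} [L.Normal]
    (hs : Group.IsSolvable L) (hH : IsPiHallOf π H L) : L ⊔ normalizer (H : Set G) = ⊤ := by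
  rw [eq_top_iff]
  intro a ha
  obtain ⟨l, hl, n, hn, rfl⟩ := hall_frattini hs le_normalizer_of_normal hH a ha
  exact mul_mem (mem_sup_left hl) (mem_sup_right hn)

theorem isPiHallOf_of_coprime {H L : Subgroup G} (hHL : H ≤ L)
    (hH : (Nat.card H).Coprime (H.relIndex L)) : IsPiHallOf {p | p ∣ Nat.card H} H L :=
  isPiHallOf_iff.mpr ⟨hHL, isPiNum_primes_dvd _, isPiNum_compl_primes_dvd_iff.mpr hH.symm⟩

theorem isPiHall_iff_card_eq [Finite G] {m n : ℕ} (hG : Nat.card G = m * n) (hmn : m.Coprime n)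
    {H : Subgroup G} : IsPiHall {p | p ∣ n}ᶜ H ↔ Nat.card H = m := by
  have hm : 0 < m := Nat.pos_of_mul_pos_right (hG ▸ Nat.card_pos)
  rw [isPiHall_iff]
  constructor
  · rintro ⟨h1, h2⟩
    exact h1.eq_of_mul_eq (isPiNum_compl_primes_dvd_iff.mpr hmn) h2
      (by rw [compl_compl]; exact isPiNum_primes_dvd n) (by rw [card_mul_index, hG])
  · intro h
    have e := H.card_mul_index
    rw [hG, h] at e
    rw [h, Nat.eq_of_mul_eq_mul_left hm e, compl_compl]
    exact ⟨isPiNum_compl_primes_dvd_iff.mpr hmn, isPiNum_primes_dvd n⟩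

/-! ### Sylow subgroups of a subgroup, inside the ambient group -/

/-- `P` is a Sylow `p`-subgroup of the subgroup `K`. -/
def IsSylowIn (p : ℕ) (P K : Subgroup G) : Prop := P ≤ K ∧ IsPGroup p P ∧ ¬ p ∣ P.relIndex K

theorem isSylowIn_iff_isPiHallOf [Finite G] {p : ℕ} [hp : Fact p.Prime] {P K : Subgroup G} :
    IsSylowIn p P K ↔ IsPiHallOf {p} P K := by
  rw [isPiHallOf_iff, isPiNum_singleton_card_iff, isPiNum_compl_singleton_iff hp.out,
    Nat.coprime_comm, hp.out.coprime_iff_not_dvd]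
  rfl

theorem isSylowIn_map_subtype [Finite G] {p : ℕ} [Fact p.Prime] {K : Subgroup G}
    (P : Sylow p K) : IsSylowIn p ((P : Subgroup K).map K.subtype) K := by
  refine ⟨map_subtype_le _, P.isPGroup'.map _, ?_⟩
  have : ((P : Subgroup K).map K.subtype).subgroupOf K = P :=
    comap_map_eq_self_of_injective K.subtype_injective _
  rw [relIndex, this]
  exact P.not_dvd_index

theorem isSylowIn_top [Finite G] {p : ℕ} [Fact p.Prime] (P : Sylow p G) :
    IsSylowIn p (P : Subgroup G) ⊤ :=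
  ⟨le_top, P.isPGroup', by rw [relIndex_top_right]; exact P.not_dvd_index⟩

theorem isSylowIn_of_le [Finite G] {p : ℕ} [Fact p.Prime] (P : Sylow p G) {K : Subgroup G}
    (h : (P : Subgroup G) ≤ K) : IsSylowIn p (P : Subgroup G) K :=
  ⟨h, P.isPGroup', fun hd => P.not_dvd_index (hd.trans (relIndex_dvd_index_of_le h))⟩

theorem IsSylowIn.exists_sylow_top {p : ℕ} [Fact p.Prime] {P : Subgroup G}
    (h : IsSylowIn p P ⊤) : ∃ Q : Sylow p G, (Q : Subgroup G) = P :=
  ⟨h.2.1.toSylow (by rw [← relIndex_top_right]; exact h.2.2), rfl⟩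

theorem IsSylowIn.exists_sylow' {p : ℕ} [Fact p.Prime] {P K : Subgroup G} (h : IsSylowIn p P K) :
    ∃ Q : Sylow p K, (Q : Subgroup K) = P.subgroupOf K :=
  ⟨(isPGroup_subgroupOf h.2.1 K).toSylow h.2.2, rfl⟩

theorem IsSylowIn.exists_sylow {p : ℕ} [Fact p.Prime] {P K : Subgroup G} (h : IsSylowIn p P K) :
    ∃ Q : Sylow p K, (Q : Subgroup K).map K.subtype = P :=
  ⟨(isPGroup_subgroupOf h.2.1 K).toSylow h.2.2, map_subgroupOf_eq_of_le h.1⟩

theorem exists_isSylowIn_ge [Finite G] {p : ℕ} [Fact p.Prime] {U K : Subgroup G} (hUK : U ≤ K)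
    (hU : IsPGroup p U) : ∃ P, IsSylowIn p P K ∧ U ≤ P := by
  obtain ⟨Q, hQ⟩ := (isPGroup_subgroupOf hU K).exists_le_sylow
  refine ⟨_, isSylowIn_map_subtype Q, ?_⟩
  rw [← map_subgroupOf_eq_of_le hUK]
  exact map_mono hQ

theorem exists_isSylowIn [Finite G] (p : ℕ) [Fact p.Prime] (K : Subgroup G) :
    ∃ P, IsSylowIn p P K := by
  obtain ⟨P, hP, -⟩ := exists_isSylowIn_ge (p := p) (bot_le : ⊥ ≤ K) IsPGroup.of_bot
  exact ⟨P, hP⟩

theorem IsSylowIn.exists_conj [Finite G] {p : ℕ} [Fact p.Prime] {P Q K : Subgroup G}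
    (hP : IsSylowIn p P K) (hQ : IsSylowIn p Q K) : ∃ k ∈ K, MulAut.conj k • P = Q :=
  exists_conj_of_not_dvd_relIndex hP.2.1 hQ.2.1 hP.1 hQ.1 hP.2.2 hQ.2.2

theorem IsSylowIn.exists_le_conj [Finite G] {p : ℕ} [Fact p.Prime] {P U K : Subgroup G}
    (hP : IsSylowIn p P K) (hUK : U ≤ K) (hU : IsPGroup p U) :
    ∃ k ∈ K, U ≤ MulAut.conj k • P := by
  obtain ⟨Q, hQ, h⟩ := exists_isSylowIn_ge hUK hU
  obtain ⟨k, hk, rfl⟩ := hP.exists_conj hQ
  exact ⟨k, hk, h⟩

theorem IsSylowIn.conj {p : ℕ} {P K : Subgroup G} (hP : IsSylowIn p P K) (g : G) :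
    IsSylowIn p (MulAut.conj g • P) (MulAut.conj g • K) :=
  ⟨pointwise_smul_le_pointwise_smul_iff.mpr hP.1, isPGroup_smul hP.2.1 _, by
    rw [relIndex_pointwise_smul]; exact hP.2.2⟩

theorem IsSylowIn.conj_of_mem_normalizer {p : ℕ} {P K : Subgroup G} (hP : IsSylowIn p P K)
    {g : G} (hg : g ∈ normalizer (K : Set G)) : IsSylowIn p (MulAut.conj g • P) K := by
  have := hP.conj g
  rwa [conj_smul_eq_of_mem_normalizer hg] at this

theorem IsSylowIn.eq_of_le [Finite G] {p : ℕ} [Fact p.Prime] {P Q K : Subgroup G}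
    (hP : IsSylowIn p P K) (hQ : IsPGroup p Q) (hQK : Q ≤ K) (h : P ≤ Q) : Q = P :=
  eq_of_isPiHallOf_of_le (isSylowIn_iff_isPiHallOf.mp hP) (isPiNum_singleton_card_iff.mpr hQ) hQK h

theorem IsSylowIn.card_eq [Finite G] {p : ℕ} [Fact p.Prime] {P Q K : Subgroup G}
    (hP : IsSylowIn p P K) (hQ : IsSylowIn p Q K) : Nat.card P = Nat.card Q :=
  isPiHallOf_card_eq (isSylowIn_iff_isPiHallOf.mp hP) (isSylowIn_iff_isPiHallOf.mp hQ)

theorem IsSylowIn.of_le {p : ℕ} {P K L : Subgroup G} (hP : IsSylowIn p P K) (h1 : P ≤ L)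
    (h2 : L ≤ K) : IsSylowIn p P L :=
  ⟨h1, hP.2.1, fun hd => hP.2.2 (hd.trans ⟨_, (relIndex_mul_relIndex P L K h1 h2).symm⟩)⟩

theorem IsSylowIn.trans {p : ℕ} [hp : Fact p.Prime] {P K L : Subgroup G} (hP : IsSylowIn p P L)
    (h : L ≤ K) (hi : ¬ p ∣ L.relIndex K) : IsSylowIn p P K :=
  ⟨hP.1.trans h, hP.2.1, by
    rw [← relIndex_mul_relIndex P L K hP.1 h, hp.out.dvd_mul]
    exact fun h => h.elim hP.2.2 hi⟩

theorem isSylowIn_of_maximal [Finite G] {p : ℕ} [Fact p.Prime] {P K : Subgroup G} (hPK : P ≤ K)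
    (hP : IsPGroup p P) (h : ∀ Q : Subgroup G, IsPGroup p Q → Q ≤ K → P ≤ Q → Q = P) :
    IsSylowIn p P K := by
  obtain ⟨Q, hQ, hPQ⟩ := exists_isSylowIn_ge hPK hP
  rwa [h Q hQ.2.1 hQ.1 hPQ] at hQ

theorem IsSylowIn.inf_of_normalizer [Finite G] {p : ℕ} [Fact p.Prime] {P K N : Subgroup G}
    (hP : IsSylowIn p P K) (hN : N ≤ K) (hn : K ≤ normalizer (N : Set G)) :
    IsSylowIn p (P ⊓ N) N :=
  isSylowIn_iff_isPiHallOf.mpr
    (isPiHallOf_inf_of_normalizer (isSylowIn_iff_isPiHallOf.mp hP) hN hn)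

theorem IsSylowIn.map [Finite G] {p : ℕ} [Fact p.Prime] {P K : Subgroup G}
    (hP : IsSylowIn p P K) (f : G →* G') : IsSylowIn p (P.map f) (K.map f) := by
  have h := isPiHallOf_iff.mp (isPiHallOf_map (isSylowIn_iff_isPiHallOf.mp hP) f)
  exact ⟨h.1, hP.2.1.map f, fun hd => h.2.2 p Fact.out hd rfl⟩

theorem IsSylowIn.subgroupOf {p : ℕ} {P K L : Subgroup G} (hP : IsSylowIn p P K) (h : K ≤ L) :
    IsSylowIn p (P.subgroupOf L) (K.subgroupOf L) :=
  ⟨subgroupOf_mono L hP.1, isPGroup_subgroupOf hP.2.1 L, by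
    rw [relIndex_subgroupOf h]; exact hP.2.2⟩

/-- A `p`-subgroup of `K` normalized by a Sylow subgroup (or normalizing it) lies in it. -/
theorem IsSylowIn.le_of_le_normalizer [Finite G] {p : ℕ} [Fact p.Prime] {P U K : Subgroup G}
    (hP : IsSylowIn p P K) (hU : IsPGroup p U) (hUK : U ≤ K)
    (h : P ≤ normalizer (U : Set G) ∨ U ≤ normalizer (P : Set G)) : U ≤ P := by
  have : IsPGroup p ↥(P ⊔ U) := by
    rcases h with h | h
    · exact hP.2.1.to_sup_of_normal_right' hU h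
    · exact hP.2.1.to_sup_of_normal_left' hU h
  rw [← hP.eq_of_le this (sup_le hP.1 hUK) le_sup_left]
  exact le_sup_right

/-- A `p`-subgroup that is Sylow in its normalizer in `K` is Sylow in `K`. -/
theorem isSylowIn_of_isSylowIn_normalizer [Finite G] {p : ℕ} [Fact p.Prime] {P K : Subgroup G}
    (h : IsSylowIn p P (K ⊓ normalizer (P : Set G))) : IsSylowIn p P K := by
  apply isSylowIn_of_maximal (h.1.trans inf_le_left) h.2.1
  intro Q hQ hQK hPQ
  by_contra hne
  have h1 := lt_inf_normalizer_of_isNilpotent hQ.isNilpotent (lt_of_le_of_ne hPQ (Ne.symm hne))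
  exact h1.ne' (h.eq_of_le hQ.to_inf_left (inf_le_inf_right _ hQK) h1.le)

/-- The Frattini argument, internal form. -/
theorem IsSylowIn.frattini [Finite G] {p : ℕ} [Fact p.Prime] {A P K : Subgroup G}
    (hP : IsSylowIn p P K) (hA : A ≤ normalizer (K : Set G)) :
    ∀ a ∈ A, ∃ l ∈ K, ∃ n ∈ normalizer (P : Set G), a = l * n := by
  apply frattini_argument_of_conj
  intro a ha
  obtain ⟨l, hl, e⟩ := hP.exists_conj (hP.conj_of_mem_normalizer (hA ha))
  exact ⟨l, hl, e.symm⟩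

theorem IsSylowIn.frattini_normal [Finite G] {p : ℕ} [Fact p.Prime] {P K : Subgroup G} [K.Normal]
    (hP : IsSylowIn p P K) : K ⊔ normalizer (P : Set G) = ⊤ := by
  rw [eq_top_iff]
  intro a ha
  obtain ⟨l, hl, n, hn, rfl⟩ := hP.frattini le_normalizer_of_normal a ha
  exact mul_mem (mem_sup_left hl) (mem_sup_right hn)

theorem IsSylowIn.ne_bot [Finite G] {p : ℕ} {P K : Subgroup G} (hP : IsSylowIn p P K)
    (h : p ∣ Nat.card K) : P ≠ ⊥ := by
  rintro rfl
  exact hP.2.2 (by rwa [relIndex_bot_left])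

/-- A subgroup of `K` containing a Sylow subgroup of `K` for every prime is `K`. -/
theorem le_of_forall_isSylowIn_le {H K : Subgroup G}
    (h : ∀ (p : ℕ) [Fact p.Prime], ∃ P, IsSylowIn p P K ∧ P ≤ H) : K ≤ H := by
  apply le_of_forall_not_dvd_relIndex
  intro p hp hd
  have := Fact.mk hp
  obtain ⟨P, hP, h⟩ := h p
  exact hP.2.2 (hd.trans (relIndex_dvd_of_le_left K h))

/-- A normal Sylow subgroup of `K` is normalized by the normalizer of `K`. -/
theorem IsSylowIn.normalizer_le [Finite G] {p : ℕ} [Fact p.Prime] {P K : Subgroup G}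
    (hP : IsSylowIn p P K) (hn : K ≤ normalizer (P : Set G)) :
    normalizer (K : Set G) ≤ normalizer (P : Set G) := by
  intro a ha
  obtain ⟨l, hl, n, hn', rfl⟩ := hP.frattini le_rfl a ha
  exact mul_mem (hn hl) hn'

/-- A Sylow subgroup of a nilpotent subgroup is normal in it. -/
theorem IsSylowIn.le_normalizer_of_isNilpotent [Finite G] {p : ℕ} [Fact p.Prime]
    {P K : Subgroup G} (hP : IsSylowIn p P K) (hK : Group.IsNilpotent K) :
    K ≤ normalizer (P : Set G) := by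
  obtain ⟨Q, rfl⟩ := hP.exists_sylow
  exact le_normalizer_map_subtype_of_normal _

theorem isNilpotent_of_forall_isSylowIn [Finite G] {K : Subgroup G}
    (h : ∀ (p : ℕ) [Fact p.Prime], ∃ P, IsSylowIn p P K ∧ K ≤ normalizer (P : Set G)) :
    Group.IsNilpotent K := by
  rw [isNilpotent_iff_sylow_normal]
  intro p hp Q
  obtain ⟨P, hP, hn⟩ := h p
  have : (P.subgroupOf K).Normal := (normal_subgroupOf_iff_le_normalizer hP.1).mpr hn
  exact sylow_normal_of_not_dvd_index (isPGroup_subgroupOf hP.2.1 K) hP.2.2 Q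

end Cfsg.Agent.Core
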