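import Cfsg.Agent.Core.Schmidt

/-!
# Core library: core-free maximal subgroups
-/

set_option autoImplicit false

namespace Cfsg.Agent.Core

open Subgroup
open scoped Pointwise commutatorElement

universe u v

variable {G : Type u} [Group G] {G' : Type v} [Group G']

theorem isMinNormal_iff {M : Subgroup G} : IsMinNormal M ↔
    M.Normal ∧ M ≠ ⊥ ∧ ∀ K : Subgroup G, K.Normal → K ≤ M → K = ⊥ ∨ K = M := Iff.rfl

theorem corefree_eq_bot {U N : Subgroup G} (hcore : U.normalCore = ⊥) [N.Normal] (h : N ≤ U) :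
    N = ⊥ := eq_bot_iff.mpr (hcore ▸ normal_le_normalCore.mpr h)

theorem corefree_sup_eq_top {U N : Subgroup G} (hU : IsCoatom U) (hcore : U.normalCore = ⊥)
    [N.Normal] (h : N ≠ ⊥) : U ⊔ N = ⊤ :=
  sup_eq_top_of_isCoatom hU fun e => h (corefree_eq_bot hcore e)

theorem corefree_centralizer_inf {U N : Subgroup G} (hU : IsCoatom U) (hcore : U.normalCore = ⊥)
    [N.Normal] (h : N ≠ ⊥) : centralizer (N : Set G) ⊓ U = ⊥ := by
  have : (centralizer (N : Set G) ⊓ U).Normal := normal_of_sup_eq_top (corefree_sup_eq_top hU hcore h)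
    (le_normalizer_inf le_normalizer_of_normal le_normalizer)
    ((le_centralizer_iff.mp inf_le_left).trans (centralizer_le_normalizer _))
  exact corefree_eq_bot hcore inf_le_right

theorem eq_of_le_of_inf_eq_bot {U K C : Subgroup G} (hK : U ≤ normalizer (K : Set G)) (h : K ≤ C)
    (h1 : C ⊓ U = ⊥) (h2 : C ≤ U ⊔ K) : K = C := by
  have := inf_sup_dedekind hK h
  rw [inf_eq_right.mpr h2, inf_comm, h1, bot_sup_eq] at this
  exact this.symm

theorem corefree_isMinNormal {U C : Subgroup G} (hU : IsCoatom U) (hcore : U.normalCore = ⊥)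
    [hC : C.Normal] (h : C ≠ ⊥) (h1 : C ⊓ U = ⊥) : IsMinNormal C :=
  ⟨hC, h, fun K _ hK => (eq_or_ne K ⊥).imp_right fun h2 =>
    eq_of_le_of_inf_eq_bot le_normalizer_of_normal hK h1
      (le_top.trans (corefree_sup_eq_top hU hcore h2).ge)⟩

theorem corefree_normalizer_eq {U X : Subgroup G} (hU : IsCoatom U) (hcore : U.normalCore = ⊥)
    (hX : X ≤ U) (h1 : X ≠ ⊥) (h2 : U ≤ normalizer (X : Set G)) : normalizer (X : Set G) = U :=
  (hU.le_iff.mp h2).resolve_left fun e => by
    have := normalizer_eq_top_iff.mp e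
    exact h1 (corefree_eq_bot hcore hX)

theorem nonempty_mulEquiv_map_of_inf_ker {X : Subgroup G} (f : G →* G') (h : X ⊓ f.ker = ⊥) :
    Nonempty (X ≃* X.map f) := by
  refine ⟨MulEquiv.ofBijective (f.subgroupMap X) ⟨?_, f.subgroupMap_surjective X⟩⟩
  rw [injective_iff_map_eq_one]
  intro a ha
  have : (a : G) ∈ X ⊓ f.ker := ⟨a.2, congrArg Subtype.val ha⟩
  rw [h, mem_bot] at this
  exact Subtype.ext this

theorem nonempty_mulEquiv_of_sup_eq {X Y N : Subgroup G} [N.Normal] (h1 : X ⊓ N = ⊥)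
    (h2 : Y ⊓ N = ⊥) (h : X ⊔ N = Y ⊔ N) : Nonempty (X ≃* Y) := by
  obtain ⟨e₁⟩ := nonempty_mulEquiv_map_of_inf_ker (X := X) (QuotientGroup.mk' N) (by simpa using h1)
  obtain ⟨e₂⟩ := nonempty_mulEquiv_map_of_inf_ker (X := Y) (QuotientGroup.mk' N) (by simpa using h2)
  exact ⟨(e₁.trans (MulEquiv.subgroupCongr (map_mk'_eq_map_mk'_iff.mpr h))).trans e₂.symm⟩

theorem IsMinNormal.inf_eq_bot {A B : Subgroup G} (hA : IsMinNormal A) [B.Normal] (h : ¬ A ≤ B) :
    A ⊓ B = ⊥ := by
  have := hA.1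
  exact (hA.2.2 _ inferInstance inf_le_left).resolve_right fun e => h (inf_eq_left.mp e)

theorem IsMinNormal.eq_of_le {A B : Subgroup G} (hA : IsMinNormal A) [hB : B.Normal] (h : B ≤ A)
    (h1 : B ≠ ⊥) : B = A := (hA.2.2 B hB h).resolve_left h1

theorem IsMinNormal.le_centralizer {A B : Subgroup G} (hA : IsMinNormal A) [B.Normal]
    (h : ¬ A ≤ B) : A ≤ centralizer (B : Set G) := by
  have := hA.1
  exact le_centralizer_of_normalizes_of_disjoint le_normalizer_of_normal le_normalizer_of_normal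
    (hA.inf_eq_bot h)

theorem corefree_centralizer_eq {U N : Subgroup G} (hU : IsCoatom U) (hcore : U.normalCore = ⊥)
    [N.Normal] (h : N ≠ ⊥) (ha : IsMulCommutative N) : centralizer (N : Set G) = N := by
  have h1 := le_centralizer_iff_isMulCommutative.mpr ha
  exact ((corefree_isMinNormal hU hcore (fun e => h (eq_bot_iff.mpr (e ▸ h1)))
    (corefree_centralizer_inf hU hcore h)).eq_of_le h1 h).symm

theorem corefree_isComplement' {U N : Subgroup G} (hU : IsCoatom U) (hcore : U.normalCore = ⊥)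
    [N.Normal] (h : N ≠ ⊥) (ha : IsMulCommutative N) : IsComplement' N U := by
  refine isComplement'_of_normal ?_ (by rw [sup_comm]; exact corefree_sup_eq_top hU hcore h)
  rw [← corefree_centralizer_eq hU hcore h ha]
  exact corefree_centralizer_inf hU hcore h

theorem normalCore_stabilizer_eq_bot {Ω : Type*} [MulAction G Ω] [FaithfulSMul G Ω]
    [MulAction.IsPretransitive G Ω] (ω : Ω) : (MulAction.stabilizer G ω).normalCore = ⊥ := by
  rw [eq_bot_iff]
  intro g hg
  refine mem_bot.mpr (eq_of_smul_eq_smul (α := Ω) fun x => ?_)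
  obtain ⟨k, rfl⟩ := MulAction.exists_smul_eq G ω x
  have : (k⁻¹ * g * k⁻¹⁻¹) • ω = ω := hg k⁻¹
  rw [inv_inv, mul_smul, mul_smul, inv_smul_eq_iff] at this
  rw [this, one_smul]

theorem isCoatom_stabilizer_of_nontrivial {Ω : Type*} [MulAction G Ω] [FaithfulSMul G Ω]
    [MulAction.IsPreprimitive G Ω] [Nontrivial G] (ω : Ω) : IsCoatom (MulAction.stabilizer G ω) := by
  have : Nontrivial Ω := by
    by_contra h
    rw [not_nontrivial_iff_subsingleton] at h
    obtain ⟨a, b, hab⟩ := exists_pair_ne G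
    exact hab (eq_of_smul_eq_smul (α := Ω) fun x => Subsingleton.elim _ _)
  exact (MulAction.isCoatom_stabilizer_iff_preprimitive G ω).mpr inferInstance

theorem corefree_conj_of_isSolvable [Finite G] [Group.IsSolvable G] {U V : Subgroup G}
    (hU : IsCoatom U) (hV : IsCoatom V) (hUc : U.normalCore = ⊥) (hVc : V.normalCore = ⊥) :
    ∃ g : G, MulAut.conj g • U = V := by
  have : Nontrivial G := (nontrivial_iff (G := G)).mp ⟨⟨U, ⊤, hU.1⟩⟩
  obtain ⟨N, p, hN, hp, hNe, hNp⟩ := exists_minNormal_elementaryAbelian (G := G)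
  have := hN.1
  have := Fact.mk hp
  have cU := corefree_isComplement' hU hUc hN.2.1 hNe.1
  have cV := corefree_isComplement' hV hVc hN.2.1 hNe.1
  by_cases h1 : U = ⊥
  · subst h1
    refine ⟨1, ?_⟩
    have : N = ⊤ := by simpa using cU.sup_eq_top
    subst this
    rw [conj_one_smul]; simpa using cV.disjoint.eq_bot.symm
  have : Nontrivial U := (nontrivial_iff_ne_bot U).mpr h1
  obtain ⟨M₀, q, hM₀, hq, -, hMq⟩ := exists_minNormal_elementaryAbelian (G := U)
  have := hM₀.1
  have := Fact.mk hq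
  have hMU := map_subtype_le M₀
  have hUM := le_normalizer_map_subtype_of_normal M₀
  have hM1 : M₀.map U.subtype ≠ ⊥ := by
    rw [Ne, map_eq_bot_iff_of_injective _ U.subtype_injective]; exact hM₀.2.1
  replace hMq := hMq.map U.subtype
  generalize M₀.map U.subtype = M at hMU hUM hM1 hMq
  have hL : (M ⊔ N).Normal := normal_of_sup_eq_top cU.sup_eq_top
    (le_sup_right.trans le_normalizer) (le_normalizer_sup hUM le_normalizer_of_normal)
  have hqp : q ≠ p := by
    rintro rfl
    have h2 := ((le_pCore hL (hMq.to_sup_of_normal_right hNp)).trans (pCore_le_fitting q)).trans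
      (fitting_le_centralizer_of_isMinNormal hN)
    exact hM1 (eq_bot_iff.mpr (corefree_centralizer_inf hU hUc hN.2.1 ▸
      le_inf (le_sup_left.trans h2) hMU))
  have hnd : ¬ q ∣ Nat.card N := hq.coprime_iff_not_dvd.mp
    (IsPGroup_coprime_card hNp ((Nat.coprime_primes hq hp).mpr hqp)).symm
  have p1 := isProd_sup_of_le_normalizer (H := M) (K := N) le_normalizer_of_normal
  have p2 : IsProd (M ⊔ N) N ((M ⊔ N) ⊓ V) := by
    have := (isProd_sup_of_le_normalizer (H := V) (K := N) le_normalizer_of_normal).symm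
    rw [sup_comm, cV.sup_eq_top] at this
    exact this.of_le_left le_sup_right le_top
  have hMN : M ⊓ N = ⊥ := eq_bot_iff.mpr (cU.symm.disjoint.eq_bot ▸ inf_le_inf_right N hMU)
  have hcard : Nat.card M = Nat.card ↥((M ⊔ N) ⊓ V) :=
    card_eq_of_sup_eq_of_disjoint le_normalizer_of_normal le_normalizer_of_normal
      p2.symm.sup_eq.symm hMN
      (eq_bot_iff.mpr (cV.symm.disjoint.eq_bot ▸ inf_le_inf_right N inf_le_right))
  have s1 : IsSylowIn q M (M ⊔ N) := ⟨le_sup_left, hMq, fun d => hnd (d.trans p1.relIndex_dvd)⟩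
  have s2 : IsSylowIn q ((M ⊔ N) ⊓ V) (M ⊔ N) := ⟨inf_le_left, by
    obtain ⟨n, hn⟩ := IsPGroup.iff_card.mp hMq
    exact IsPGroup.of_card (hcard ▸ hn), fun d => hnd (d.trans p2.symm.relIndex_dvd)⟩
  obtain ⟨g, -, hg⟩ := s1.exists_conj s2
  refine ⟨g, ?_⟩
  rw [← corefree_normalizer_eq hU hUc hMU hM1 hUM, ← normalizer_conj_smul, hg]
  refine corefree_normalizer_eq hV hVc inf_le_right ?_
    (le_normalizer_inf le_normalizer_of_normal le_normalizer)
  rw [← hg, Ne, smul_eq_bot_iff]; exact hM1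

theorem commutator_le_centralizer_of_isCyclic (C : Subgroup G) [C.Normal] [IsCyclic C] :
    _root_.commutator G ≤ centralizer (C : Set G) := by
  rw [_root_.commutator, Subgroup.commutator_le]
  intro a _ b _ x hx
  have key : ∀ y : C, MulAut.conjNormal a (MulAut.conjNormal b y) =
      MulAut.conjNormal b (MulAut.conjNormal a y) := by
    obtain ⟨m, hm⟩ := MonoidHom.map_cyclic (MulAut.conjNormal a : MulAut C).toMonoidHom
    intro y
    have h1 : ∀ z : C, MulAut.conjNormal a z = z ^ m := hm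
    rw [h1, h1, map_zpow]
  have := congrArg Subtype.val (key ⟨(b * a)⁻¹ * x * (b * a), Normal.conj_mem' inferInstance x hx _⟩)
  simp only [MulAut.conjNormal_apply] at this
  rw [commutatorElement_def]
  calc x * (a * b * a⁻¹ * b⁻¹)
      = (b * (a * ((b * a)⁻¹ * x * (b * a)) * a⁻¹) * b⁻¹) * (a * b * a⁻¹ * b⁻¹) := by group
    _ = _ := by rw [← this]; group

theorem exists_le_sup_zpowers_of_isCyclic {A B : Subgroup G} [(B.subgroupOf A).Normal]
    (h : IsCyclic (A ⧸ B.subgroupOf A)) : ∃ y ∈ A, A ≤ B ⊔ zpowers y := by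
  obtain ⟨y, hy⟩ := h.exists_generator
  obtain ⟨y, rfl⟩ := QuotientGroup.mk_surjective y
  refine ⟨y, y.2, fun a ha => ?_⟩
  obtain ⟨k, hk⟩ := mem_zpowers_iff.mp (hy (QuotientGroup.mk ⟨a, ha⟩))
  rw [← QuotientGroup.mk_zpow, QuotientGroup.eq, mem_subgroupOf] at hk
  have : a = (y : G) ^ k * (((y : G) ^ k)⁻¹ * a) := by simp
  rw [this]
  exact mul_mem (mem_sup_right (zpow_mem_zpowers _ k)) (mem_sup_left hk)

end Cfsg.Agent.Core
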