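import Cfsg.Agent.Core.Subnormal
import Cfsg.Agent.Char.Burnside

/-!
# Core library: factorizations `L = H K`
-/

set_option autoImplicit false

namespace Cfsg.Agent.Core

open Subgroup
open scoped Pointwise commutatorElement

universe u v

variable {G : Type u} [Group G] {G' : Type v} [Group G']

/-- `L` is the product `H K` of its subgroups `H` and `K`. -/
structure IsProd (L H K : Subgroup G) : Prop where
  left : H ≤ L
  right : K ≤ L
  exists_mul : ∀ g ∈ L, ∃ h ∈ H, ∃ k ∈ K, g = h * k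

theorem isProd_top {H K : Subgroup G} (h : ∀ g : G, ∃ a ∈ H, ∃ b ∈ K, g = a * b) :
    IsProd ⊤ H K := ⟨le_top, le_top, fun g _ => h g⟩

theorem isProd_iff_coe {L H K : Subgroup G} :
    IsProd L H K ↔ (L : Set G) = (H : Set G) * (K : Set G) := by
  constructor
  · intro h
    ext g
    constructor
    · intro hg
      obtain ⟨a, ha, b, hb, rfl⟩ := h.exists_mul g hg
      exact Set.mul_mem_mul ha hb
    · rintro ⟨a, ha, b, hb, rfl⟩
      exact L.mul_mem (h.left ha) (h.right hb)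
  · intro h
    refine ⟨fun a ha => ?_, fun b hb => ?_, fun g hg => ?_⟩
    · rw [← SetLike.mem_coe, h]; exact ⟨a, ha, 1, K.one_mem, mul_one a⟩
    · rw [← SetLike.mem_coe, h]; exact ⟨1, H.one_mem, b, hb, one_mul b⟩
    · rw [← SetLike.mem_coe, h] at hg
      obtain ⟨a, ha, b, hb, rfl⟩ := hg
      exact ⟨a, ha, b, hb, rfl⟩

theorem IsProd.symm {L H K : Subgroup G} (h : IsProd L H K) : IsProd L K H := by
  refine ⟨h.right, h.left, fun g hg => ?_⟩
  obtain ⟨a, ha, b, hb, e⟩ := h.exists_mul g⁻¹ (L.inv_mem hg)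
  exact ⟨b⁻¹, K.inv_mem hb, a⁻¹, H.inv_mem ha, by rw [← mul_inv_rev, ← e, inv_inv]⟩

theorem IsProd.sup_eq {L H K : Subgroup G} (h : IsProd L H K) : H ⊔ K = L := by
  refine le_antisymm (sup_le h.left h.right) fun g hg => ?_
  obtain ⟨a, ha, b, hb, rfl⟩ := h.exists_mul g hg
  exact mul_mem_sup ha hb

theorem IsProd.card [Finite G] {L H K : Subgroup G} (h : IsProd L H K) :
    Nat.card L * Nat.card ↥(H ⊓ K) = Nat.card H * Nat.card K := by
  rw [← ncard_mul_mul_card_inf H K, ← isProd_iff_coe.mp h, ← Nat.card_coe_set_eq]; rfl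

theorem IsProd.card_dvd [Finite G] {L H K : Subgroup G} (h : IsProd L H K) :
    Nat.card L ∣ Nat.card H * Nat.card K := h.card ▸ dvd_mul_right _ _

theorem isProd_of_card [Finite G] {L H K : Subgroup G} (h1 : H ≤ L) (h2 : K ≤ L)
    (h : Nat.card L * Nat.card ↥(H ⊓ K) ≤ Nat.card H * Nat.card K) : IsProd L H K := by
  rw [isProd_iff_coe]
  symm
  refine Set.eq_of_subset_of_ncard_le ?_ ?_
  · rintro _ ⟨a, ha, b, hb, rfl⟩
    exact L.mul_mem (h1 ha) (h2 hb)
  · rw [← ncard_mul_mul_card_inf H K] at h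
    rw [← Nat.card_coe_set_eq (L : Set G)]
    exact Nat.le_of_mul_le_mul_right h Nat.card_pos

theorem card_mul_card_le [Finite G] {L H K : Subgroup G} (h1 : H ≤ L) (h2 : K ≤ L) :
    Nat.card H * Nat.card K ≤ Nat.card L * Nat.card ↥(H ⊓ K) := by
  rw [← ncard_mul_mul_card_inf H K]
  refine Nat.mul_le_mul_right _ ?_
  change _ ≤ Nat.card (L : Set G)
  rw [Nat.card_coe_set_eq]
  refine Set.ncard_le_ncard ?_
  rintro _ ⟨a, ha, b, hb, rfl⟩
  exact L.mul_mem (h1 ha) (h2 hb)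

theorem IsProd.relIndex_eq [Finite G] {L H K : Subgroup G} (h : IsProd L H K) :
    H.relIndex L = H.relIndex K := by
  have h1 := h.card
  rw [← card_mul_relIndex h.left, ← card_inf_mul_relIndex H K, mul_assoc, mul_comm (H.relIndex L)]
    at h1
  exact Nat.eq_of_mul_eq_mul_left Nat.card_pos (Nat.eq_of_mul_eq_mul_left Nat.card_pos h1)

theorem IsProd.relIndex_dvd [Finite G] {L H K : Subgroup G} (h : IsProd L H K) :
    H.relIndex L ∣ Nat.card K := h.relIndex_eq ▸ relIndex_dvd_card H K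

theorem relIndex_inf_of_coprime [Finite G] {L H K : Subgroup G}
    (h : (H.relIndex L).Coprime (K.relIndex L)) :
    (H ⊓ K).relIndex L = H.relIndex L * K.relIndex L :=
  le_antisymm relIndex_inf_le (Nat.le_of_dvd (relIndex_pos _ _)
    (h.mul_dvd_of_dvd_of_dvd (relIndex_dvd_of_le_left L inf_le_left)
      (relIndex_dvd_of_le_left L inf_le_right)))

theorem index_inf_of_coprime' [Finite G] {H K : Subgroup G} (h : H.index.Coprime K.index) :
    (H ⊓ K).index = H.index * K.index := by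
  simpa using relIndex_inf_of_coprime (L := ⊤) (H := H) (K := K) (by simpa using h)

theorem isProd_of_coprime [Finite G] {L H K : Subgroup G} (h1 : H ≤ L) (h2 : K ≤ L)
    (h : (H.relIndex L).Coprime (K.relIndex L)) : IsProd L H K := by
  refine isProd_of_card h1 h2 (Nat.le_of_mul_le_mul_right (le_of_eq ?_)
    (mul_pos (relIndex_pos H L) (relIndex_pos K L)))
  rw [mul_assoc, ← relIndex_inf_of_coprime h, card_mul_relIndex (inf_le_left.trans h1),
    relIndex_inf_of_coprime h, mul_mul_mul_comm, card_mul_relIndex h1, card_mul_relIndex h2]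

theorem isProd_top_of_coprime [Finite G] {H K : Subgroup G} (h : H.index.Coprime K.index) :
    IsProd ⊤ H K := isProd_of_coprime le_top le_top (by simpa using h)

/-- `L = (L ⊓ H) (L ⊓ K)` if the relative indices are coprime. -/
theorem isProd_inf_of_coprime [Finite G] {L H K : Subgroup G}
    (h : (H.relIndex L).Coprime (K.relIndex L)) : IsProd L (L ⊓ H) (L ⊓ K) :=
  isProd_of_coprime inf_le_left inf_le_left (by rwa [inf_relIndex_left, inf_relIndex_left])

theorem IsProd.map {L H K : Subgroup G} (h : IsProd L H K) (f : G →* G') :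
    IsProd (L.map f) (H.map f) (K.map f) := by
  refine ⟨map_mono h.left, map_mono h.right, ?_⟩
  rintro _ ⟨g, hg, rfl⟩
  obtain ⟨a, ha, b, hb, rfl⟩ := h.exists_mul g hg
  exact ⟨f a, mem_map_of_mem f ha, f b, mem_map_of_mem f hb, map_mul f a b⟩

theorem IsProd.map_top {H K : Subgroup G} (h : IsProd ⊤ H K) {f : G →* G'}
    (hf : Function.Surjective f) : IsProd ⊤ (H.map f) (K.map f) := by
  have := h.map f
  rwa [map_top_of_surjective f hf] at this

theorem IsProd.map_mk' {H K : Subgroup G} (h : IsProd ⊤ H K) (N : Subgroup G) [N.Normal] :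
    IsProd ⊤ (H.map (QuotientGroup.mk' N)) (K.map (QuotientGroup.mk' N)) :=
  h.map_top (QuotientGroup.mk'_surjective N)

theorem IsProd.conj {L H K : Subgroup G} (h : IsProd L H K) (g : G) :
    IsProd (MulAut.conj g • L) (MulAut.conj g • H) (MulAut.conj g • K) := h.map _

theorem IsProd.subgroupOf {L H K : Subgroup G} (h : IsProd L H K) :
    IsProd ⊤ (H.subgroupOf L) (K.subgroupOf L) := by
  refine isProd_top fun g => ?_
  obtain ⟨a, ha, b, hb, e⟩ := h.exists_mul g g.2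
  exact ⟨⟨a, h.left ha⟩, ha, ⟨b, h.right hb⟩, hb, Subtype.ext e⟩

theorem IsProd.of_le_left {L H K X : Subgroup G} (h : IsProd L H K) (h1 : H ≤ X) (h2 : X ≤ L) :
    IsProd X H (X ⊓ K) := by
  refine ⟨h1, inf_le_left, fun g hg => ?_⟩
  obtain ⟨a, ha, b, hb, rfl⟩ := h.exists_mul g (h2 hg)
  exact ⟨a, ha, b, ⟨by simpa using X.mul_mem (X.inv_mem (h1 ha)) hg, hb⟩, rfl⟩

theorem IsProd.of_le_right {L H K X : Subgroup G} (h : IsProd L H K) (h1 : K ≤ X) (h2 : X ≤ L) :
    IsProd X (X ⊓ H) K := (h.symm.of_le_left h1 h2).symm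

theorem IsProd.mono {L H K H' K' : Subgroup G} (h : IsProd L H K) (h1 : H ≤ H') (h1' : H' ≤ L)
    (h2 : K ≤ K') (h2' : K' ≤ L) : IsProd L H' K' := by
  refine ⟨h1', h2', fun g hg => ?_⟩
  obtain ⟨a, ha, b, hb, rfl⟩ := h.exists_mul g hg
  exact ⟨a, h1 ha, b, h2 hb, rfl⟩

theorem IsProd.inf_inf {L H K : Subgroup G} (h : IsProd L H K) {H' K' : Subgroup G}
    (h1 : H ≤ H') (h2 : K ≤ K') : IsProd L (L ⊓ H') (L ⊓ K') :=
  h.mono (le_inf h.left h1) inf_le_left (le_inf h.right h2) inf_le_left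

theorem isProd_sup_of_le_normalizer {H K : Subgroup G} (h : H ≤ normalizer (K : Set G)) :
    IsProd (H ⊔ K) H K := by
  refine ⟨le_sup_left, le_sup_right, fun g hg => ?_⟩
  obtain ⟨a, ha, b, hb, rfl⟩ := (mem_sup_of_le_normalizer_right h).mp hg
  exact ⟨a, ha, b, hb, rfl⟩

theorem IsProd.exists_conj {L H K : Subgroup G} (h : IsProd L H K) {x y : G} (hx : x ∈ L)
    (hy : y ∈ L) : ∃ g ∈ L, MulAut.conj g • H = MulAut.conj x • H ∧
      MulAut.conj g • K = MulAut.conj y • K := by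
  obtain ⟨a, ha, b, hb, e⟩ := h.exists_mul (x⁻¹ * y) (L.mul_mem (L.inv_mem hx) hy)
  refine ⟨x * a, L.mul_mem hx (h.left ha), ?_, ?_⟩
  · rw [← conj_smul_conj_smul, conj_smul_eq_of_mem_normalizer (le_normalizer ha)]
  · have : x * a = y * b⁻¹ := by rw [eq_mul_inv_iff_mul_eq, mul_assoc, ← e]; simp
    rw [this, ← conj_smul_conj_smul, conj_smul_eq_of_mem_normalizer (le_normalizer (K.inv_mem hb))]

theorem IsProd.conj_conj {L H K : Subgroup G} (h : IsProd L H K) {x y : G} (hx : x ∈ L)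
    (hy : y ∈ L) : IsProd L (MulAut.conj x • H) (MulAut.conj y • K) := by
  obtain ⟨g, hg, h1, h2⟩ := h.exists_conj hx hy
  have := h.conj g
  rwa [h1, h2, conj_smul_eq_of_mem_normalizer (le_normalizer hg)] at this

theorem IsProd.conj_right {L H K : Subgroup G} (h : IsProd L H K) {y : G} (hy : y ∈ L) :
    IsProd L H (MulAut.conj y • K) := by
  simpa [conj_one_smul] using h.conj_conj L.one_mem hy

theorem IsProd.conj_left {L H K : Subgroup G} (h : IsProd L H K) {x : G} (hx : x ∈ L) :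
    IsProd L (MulAut.conj x • H) K := (h.symm.conj_right hx).symm

theorem IsProd.eq_of_le {L H K : Subgroup G} (h : IsProd L H K) (hle : K ≤ H) : H = L := by
  rw [← h.sup_eq, sup_eq_left.mpr hle]

theorem IsProd.eq_of_le_conj {L H K : Subgroup G} (h : IsProd L H K) {y : G} (hy : y ∈ L)
    (hle : K ≤ MulAut.conj y • H) : H = L :=
  (h.conj_right (L.inv_mem hy)).eq_of_le (le_conj_smul_iff_inv_le.mp hle)

theorem isProd_of_forall_mul {A B : Subgroup G}
    (h : ∀ a ∈ A, ∀ b ∈ B, ∃ a' ∈ A, ∃ b' ∈ B, b * a = a' * b') : IsProd (A ⊔ B) A B := by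
  let T : Subgroup G :=
    { carrier := {g | ∃ a ∈ A, ∃ b ∈ B, g = a * b}
      one_mem' := ⟨1, A.one_mem, 1, B.one_mem, by simp⟩
      mul_mem' := by
        rintro _ _ ⟨a, ha, b, hb, rfl⟩ ⟨c, hc, d, hd, rfl⟩
        obtain ⟨a', ha', b', hb', e⟩ := h c hc b hb
        exact ⟨a * a', A.mul_mem ha ha', b' * d, B.mul_mem hb' hd, by
          rw [mul_assoc, ← mul_assoc b, e]; group⟩
      inv_mem' := by
        rintro _ ⟨a, ha, b, hb, rfl⟩
        obtain ⟨a', ha', b', hb', e⟩ := h a⁻¹ (A.inv_mem ha) b⁻¹ (B.inv_mem hb)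
        exact ⟨a', ha', b', hb', by rw [mul_inv_rev, e]⟩ }
  have : A ⊔ B ≤ T := sup_le (fun a ha => ⟨a, ha, 1, B.one_mem, by simp⟩)
    (fun b hb => ⟨1, A.one_mem, b, hb, by simp⟩)
  exact ⟨le_sup_left, le_sup_right, fun g hg => this hg⟩

theorem isProd_of_coe_mul_comm {A B : Subgroup G}
    (h : (A : Set G) * (B : Set G) = (B : Set G) * (A : Set G)) : IsProd (A ⊔ B) A B := by
  refine isProd_of_forall_mul fun a ha b hb => ?_
  have : b * a ∈ (A : Set G) * (B : Set G) := h ▸ Set.mul_mem_mul hb ha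
  obtain ⟨a', ha', b', hb', e⟩ := this
  exact ⟨a', ha', b', hb', e.symm⟩

theorem IsProd.coe_mul_comm {L A B : Subgroup G} (h : IsProd L A B) :
    (A : Set G) * (B : Set G) = (B : Set G) * (A : Set G) := by
  rw [← isProd_iff_coe.mp h, ← isProd_iff_coe.mp h.symm]

theorem IsProd.sup_left {S₁ S₂ A₁ A₂ B : Subgroup G} (h₁ : IsProd S₁ A₁ B) (h₂ : IsProd S₂ A₂ B) :
    IsProd (A₁ ⊔ A₂ ⊔ B) (A₁ ⊔ A₂) B := by
  let P : G → Prop := fun x => ∀ b ∈ B, ∃ a' ∈ A₁ ⊔ A₂, ∃ b' ∈ B, b * x = a' * b'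
  have hmul : ∀ x y, P x → P y → P (x * y) := fun x y hx hy b hb => by
    obtain ⟨a', ha', b', hb', e⟩ := hx b hb
    obtain ⟨a'', ha'', b'', hb'', e'⟩ := hy b' hb'
    exact ⟨a' * a'', mul_mem ha' ha'', b'', hb'', by rw [← mul_assoc, e, mul_assoc, e', mul_assoc]⟩
  let T : Subgroup G :=
    { carrier := {x | P x ∧ P x⁻¹}
      one_mem' := by
        have : P 1 := fun b hb => ⟨1, one_mem _, b, hb, by simp⟩
        exact ⟨this, by simpa using this⟩
      mul_mem' := fun {x y} hx hy => ⟨hmul _ _ hx.1 hy.1, by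
        rw [mul_inv_rev]; exact hmul _ _ hy.2 hx.2⟩
      inv_mem' := fun {x} hx => ⟨hx.2, by simpa using hx.1⟩ }
  have key : ∀ {S A : Subgroup G}, IsProd S A B → A ≤ A₁ ⊔ A₂ → ∀ x ∈ A, P x :=
    fun {S A} h hA x hx b hb => by
      obtain ⟨a', ha', b', hb', e⟩ := h.exists_mul _ (S.mul_mem (h.right hb) (h.left hx))
      exact ⟨a', hA ha', b', hb', e⟩
  have : A₁ ⊔ A₂ ≤ T := sup_le
    (fun x hx => ⟨key h₁ le_sup_left x hx, key h₁ le_sup_left _ (A₁.inv_mem hx)⟩)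
    (fun x hx => ⟨key h₂ le_sup_right x hx, key h₂ le_sup_right _ (A₂.inv_mem hx)⟩)
  exact isProd_of_forall_mul fun a ha => (this ha).1

/-- The normalizer of `⟨A, B⟩` is factorized. -/
theorem IsProd.normalizer_sup [Finite G] {H K A B : Subgroup G} (h : IsProd ⊤ H K)
    (hA : H ≤ normalizer (A : Set G)) (hB : K ≤ normalizer (B : Set G)) :
    IsProd (normalizer ((A ⊔ B : Subgroup G) : Set G))
      (normalizer ((A ⊔ B : Subgroup G) : Set G) ⊓ H)
      (normalizer ((A ⊔ B : Subgroup G) : Set G) ⊓ K) := by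
  refine ⟨inf_le_left, inf_le_left, fun g hg => ?_⟩
  obtain ⟨a, ha, b, hb, rfl⟩ := h.exists_mul g (mem_top g)
  have h1 : MulAut.conj b • (A ⊔ B) = MulAut.conj a⁻¹ • (A ⊔ B) := by
    conv_rhs => rw [← conj_smul_eq_of_mem_normalizer hg, conj_smul_conj_smul]
    simp
  have h2 : A ⊔ B ≤ MulAut.conj b • (A ⊔ B) := by
    refine sup_le ?_ ?_
    · rw [h1, smul_sup, conj_smul_eq_of_mem_normalizer (hA (H.inv_mem ha))]; exact le_sup_left
    · rw [smul_sup, conj_smul_eq_of_mem_normalizer (hB hb)]; exact le_sup_right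
  have h3 : b ∈ normalizer ((A ⊔ B : Subgroup G) : Set G) := by
    have := conj_smul_eq_iff.mp (conj_smul_eq_of_le (le_conj_smul_iff_inv_le.mp h2))
    simpa using this
  exact ⟨a, ⟨by simpa using mul_mem hg (inv_mem h3), ha⟩, b, ⟨h3, hb⟩, rfl⟩

theorem IsProd.le_normalCore {H K N X : Subgroup G} (h : IsProd ⊤ H K)
    (hN : H ≤ normalizer (N : Set G)) (h1 : N ≤ X) (h2 : K ≤ X) : N ≤ X.normalCore := by
  refine le_normalCore_of_forall_conj_le fun g => ?_
  obtain ⟨b, hb, a, ha, rfl⟩ := h.symm.exists_mul g (mem_top g)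
  rw [← conj_smul_conj_smul, conj_smul_eq_of_mem_normalizer (hN ha)]
  exact conj_smul_le_of_mem h1 (h2 hb)

/-- normal `π`-subgroups of the factors of a solvable product lie in a common Hall subgroup -/
theorem IsProd.exists_isPiHallOf_ge [Finite G] {L H K A B : Subgroup G} (h : IsProd L H K)
    (hs : Group.IsSolvable L) {π : Set ℕ} (hAL : A ≤ L) (hBL : B ≤ L)
    (hA : H ≤ normalizer (A : Set G)) (hB : K ≤ normalizer (B : Set G))
    (πA : IsPiNum π (Nat.card A)) (πB : IsPiNum π (Nat.card B)) :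
    ∃ R, IsPiHallOf π R L ∧ A ≤ R ∧ B ≤ R := by
  obtain ⟨R, hR, hAR⟩ := Core.exists_isPiHallOf_ge hs hAL πA
  obtain ⟨g, hg, hBR⟩ := exists_le_conj_of_isPiHallOf hs hR hBL πB
  obtain ⟨k, hk, a, ha, rfl⟩ := h.symm.exists_mul g hg
  refine ⟨MulAut.conj a • R, isPiHallOf_conj_of_mem_normalizer hR (le_normalizer (h.left ha)),
    ?_, ?_⟩
  · rw [← conj_smul_eq_of_mem_normalizer (hA ha)]
    exact pointwise_smul_le_pointwise_smul_iff.mpr hAR
  · rw [← conj_smul_conj_smul, le_conj_smul_iff_inv_le,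
      conj_smul_eq_of_mem_normalizer (hB (K.inv_mem hk))] at hBR
    exact hBR

theorem IsProd.isPiNum_sup [Finite G] {L H K A B : Subgroup G} (h : IsProd L H K)
    (hs : Group.IsSolvable L) {π : Set ℕ} (hAL : A ≤ L) (hBL : B ≤ L)
    (hA : H ≤ normalizer (A : Set G)) (hB : K ≤ normalizer (B : Set G))
    (πA : IsPiNum π (Nat.card A)) (πB : IsPiNum π (Nat.card B)) :
    IsPiNum π (Nat.card ↥(A ⊔ B)) := by
  obtain ⟨R, hR, h1, h2⟩ := h.exists_isPiHallOf_ge hs hAL hBL hA hB πA πB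
  exact isPiNum_card_of_le (isPiHallOf_iff.mp hR).2.1 (sup_le h1 h2)

/-- two Hall subgroups generating a `π ∪ ρ`-group permute -/
theorem isProd_of_isPiNum [Finite G] {A B R : Subgroup G} {π ρ : Set ℕ} (h1 : A ≤ R) (h2 : B ≤ R)
    (hA : IsPiNum πᶜ (A.relIndex R)) (hB : IsPiNum ρᶜ (B.relIndex R))
    (hR : IsPiNum (π ∪ ρ) (Nat.card R)) : IsProd R A B := by
  refine isProd_of_coprime h1 h2 (Nat.coprime_of_dvd fun r hr d1 d2 => ?_)
  rcases hR r hr (d1.trans (relIndex_dvd_card A R)) with h | h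
  · exact hA r hr d1 h
  · exact hB r hr d2 h

/-- Kegel's lemma. -/
theorem kegel_lemma [Finite G] {A B : Subgroup G}
    (h : ∀ x : G, ∃ S : Subgroup G, S ≠ ⊤ ∧ IsProd S A (MulAut.conj x • B)) :
    ∃ N : Subgroup G, N.Normal ∧ N ≠ ⊤ ∧ (A ≤ N ∨ B ≤ N) := by
  induction A using WellFoundedGT.induction with
  | ind A ih =>
  by_cases hn : ∀ x : G, MulAut.conj x • B ≤ normalizer (A : Set G)
  · by_cases hA : normalizer (A : Set G) = ⊤
    · obtain ⟨S, hS, h1⟩ := h 1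
      exact ⟨A, normalizer_eq_top_iff.mp hA, fun e => hS (top_le_iff.mp (e ▸ h1.left)),
        Or.inl le_rfl⟩
    · exact ⟨(normalizer (A : Set G)).normalCore, inferInstance,
        fun e => hA (top_le_iff.mp (e ▸ normalCore_le _)),
        Or.inr (le_normalCore_of_forall_conj_le hn)⟩
  push Not at hn
  obtain ⟨x, hx⟩ := hn
  obtain ⟨b, hb, hbA⟩ := SetLike.not_le_iff_exists.mp hx
  have h3 : A < A ⊔ MulAut.conj b • A := left_lt_sup.mpr fun h =>
    hbA (conj_smul_eq_iff.mp (conj_smul_eq_of_le h))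
  obtain ⟨N, h1, h2, h4⟩ := ih _ h3 fun y => by
    obtain ⟨S₁, -, hS₁⟩ := h y
    obtain ⟨S₂, -, hS₂⟩ := h (b⁻¹ * y)
    have h5 := hS₂.conj b
    rw [conj_smul_conj_smul, mul_inv_cancel_left] at h5
    refine ⟨_, fun e => ?_, hS₁.sup_left h5⟩
    have h6 := hS₁.sup_left h5
    rw [e] at h6
    have h7 := h6.conj_right (mem_top (x * y⁻¹))
    rw [conj_smul_conj_smul, inv_mul_cancel_right] at h7
    obtain ⟨S, hS, h8⟩ := h x
    refine hS (top_le_iff.mp (h7.sup_eq ▸ sup_le (sup_le h8.left ?_) h8.right))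
    exact conj_smul_le_of_mem h8.left (h8.right hb)
  exact ⟨N, h1, h2, h4.imp_left (le_trans le_sup_left)⟩

theorem IsProd.commutator_le {A B N : Subgroup G} [N.Normal] (h : IsProd ⊤ A B)
    (h1 : ⁅A, A⁆ ≤ N) (h2 : ⁅B, B⁆ ≤ N) (h3 : ⁅A, B⁆ ≤ N) : _root_.commutator G ≤ N := by
  rw [_root_.commutator, ← isMulCommutative_map_mk'_iff, ← h.sup_eq, Subgroup.map_sup]
  refine isMulCommutative_sup (isMulCommutative_map_mk'_iff.mpr h1)
    (isMulCommutative_map_mk'_iff.mpr h2) ?_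
  rw [← commutator_eq_bot_iff_le_centralizer, ← map_commutator, map_mk'_eq_bot_iff]
  exact h3

/-- Itô's theorem. -/
theorem IsProd.isMulCommutative_commutator {A B : Subgroup G} (h : IsProd ⊤ A B)
    (hA : IsMulCommutative A) (hB : IsMulCommutative B) :
    IsMulCommutative (_root_.commutator G) := by
  have : (⁅A, B⁆ : Subgroup G).Normal := normal_of_sup_eq_top h.sup_eq
    (normalizer_commutator_ge_left A B) (normalizer_commutator_ge_right A B)
  have hb : ∀ {C : Subgroup G}, IsMulCommutative C → ⁅C, C⁆ ≤ ⁅A, B⁆ := fun hC => by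
    rw [commutator_eq_bot_iff_le_centralizer.mpr (le_centralizer_iff_isMulCommutative.mpr hC)]
    exact bot_le
  refine isMulCommutative_of_le ?_ (h.commutator_le (hb hA) (hb hB) le_rfl)
  rw [← le_centralizer_iff_isMulCommutative, Subgroup.commutator_le]
  intro a₁ ha₁ b₁ hb₁
  rw [← le_centralizer_singleton_iff, Subgroup.commutator_le]
  intro a ha b hb
  rw [mem_centralizer_singleton_iff]
  have cA := isMulCommutative_iff_mem.mp hA
  have cB := isMulCommutative_iff_mem.mp hB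
  obtain ⟨b₂, hb₂, a₂, ha₂, e₂⟩ := h.symm.exists_mul (a₁⁻¹ * b * a₁) (mem_top _)
  obtain ⟨a₃, ha₃, b₃, hb₃, e₃⟩ := h.exists_mul (b₁⁻¹ * a * b₁) (mem_top _)
  have k1 : ∀ x ∈ A, a₁⁻¹ * ⁅x, b⁆ * a₁ = ⁅x, b₂⁆ := fun x hx => by
    have c1 := cA x hx a₁ ha₁
    have c2 := cA x hx a₂ ha₂
    calc a₁⁻¹ * ⁅x, b⁆ * a₁ = ⁅a₁⁻¹ * x * a₁, a₁⁻¹ * b * a₁⁆ := by
          simp only [commutatorElement_def]; group
      _ = x * b₂ * (a₂ * x⁻¹ * a₂⁻¹) * b₂⁻¹ := by
          rw [e₂, mul_assoc a₁⁻¹, c1, inv_mul_cancel_left, commutatorElement_def]; group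
      _ = ⁅x, b₂⁆ := by
          rw [← conj_inv, ← c2, mul_inv_cancel_right, commutatorElement_def]
  have k2 : ∀ y ∈ B, b₁⁻¹ * ⁅a, y⁆ * b₁ = ⁅a₃, y⁆ := fun y hy => by
    have c1 := cB y hy b₁ hb₁
    have c2 := cB y hy b₃ hb₃
    calc b₁⁻¹ * ⁅a, y⁆ * b₁ = ⁅b₁⁻¹ * a * b₁, b₁⁻¹ * y * b₁⁆ := by
          simp only [commutatorElement_def]; group
      _ = a₃ * (b₃ * y * b₃⁻¹) * a₃⁻¹ * y⁻¹ := by
          rw [e₃, mul_assoc b₁⁻¹ y, c1, inv_mul_cancel_left, commutatorElement_def]; group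
      _ = ⁅a₃, y⁆ := by
          rw [← c2, mul_inv_cancel_right, commutatorElement_def]
  have k3 : b₁⁻¹ * (a₁⁻¹ * ⁅a, b⁆ * a₁) * b₁ = a₁⁻¹ * (b₁⁻¹ * ⁅a, b⁆ * b₁) * a₁ := by
    rw [k1 a ha, k2 b₂ hb₂, k2 b hb, k1 a₃ ha₃]
  generalize ⁅a, b⁆ = c at k3
  calc c * ⁅a₁, b₁⁆ = a₁ * b₁ * (b₁⁻¹ * (a₁⁻¹ * c * a₁) * b₁) * a₁⁻¹ * b₁⁻¹ := by
        rw [commutatorElement_def]; group
    _ = ⁅a₁, b₁⁆ * c := by rw [k3, commutatorElement_def]; group

theorem isSolvable_of_isMulCommutative_commutator (h : IsMulCommutative (_root_.commutator G)) :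
    Group.IsSolvable G :=
  ⟨⟨2, commutator_eq_bot_iff_le_centralizer.mpr (le_centralizer_iff_isMulCommutative.mpr h)⟩⟩

theorem isSolvable_of_normal_of_quotient (N : Subgroup G) [N.Normal] (h1 : Group.IsSolvable N)
    (h2 : Group.IsSolvable (G ⧸ N)) : Group.IsSolvable G :=
  Group.isSolvable_of_ker_le_range N.subtype (QuotientGroup.mk' N) (by simp)

/-- Wielandt's three subgroups theorem. -/
theorem isSolvable_of_three [Finite G] {H₁ H₂ H₃ : Subgroup G} (h₁ : Group.IsSolvable H₁)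
    (h₂ : Group.IsSolvable H₂) (h₃ : Group.IsSolvable H₃) (h12 : IsProd ⊤ H₁ H₂)
    (h13 : IsProd ⊤ H₁ H₃) (hc : H₂.index.Coprime H₃.index) : Group.IsSolvable G := by
  induction G, ‹Group G›, ‹Finite G› using card_induction' with | _ G ih => ?_
  by_cases hH : H₁ = ⊥
  · exact isSolvable_of_top (h12.symm.eq_of_le (hH ▸ bot_le) ▸ h₂)
  have : Nontrivial H₁ := (nontrivial_iff_ne_bot _).mpr hH
  obtain ⟨M, p, hM, hp, -, hMp⟩ := exists_minNormal_elementaryAbelian (G := H₁)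
  have := Fact.mk hp
  have := hM.1
  have hN := le_normalizer_map_subtype_of_normal M
  have hN1 : M.map H₁.subtype ≠ ⊥ := by
    rw [Ne, map_eq_bot_iff_of_injective _ H₁.subtype_injective]; exact hM.2.1
  have key : ∀ K : Subgroup G, Group.IsSolvable K → IsProd ⊤ H₁ K → ¬ p ∣ K.index →
      ∃ N : Subgroup G, N.Normal ∧ N ≠ ⊥ ∧ Group.IsSolvable N := by
    intro K hK h hi
    obtain ⟨P, hP⟩ := exists_isSylowIn p K
    obtain ⟨g, -, hg⟩ := (hP.trans le_top (by rwa [relIndex_top_right])).exists_le_conj le_top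
      (hMp.map H₁.subtype)
    have h1 := (h.conj_right (mem_top g)).le_normalCore hN
      (hg.trans (pointwise_smul_le_pointwise_smul_iff.mpr hP.1)) le_rfl
    exact ⟨_, inferInstance, fun e => hN1 (eq_bot_iff.mpr (e ▸ h1)),
      isSolvable_of_le (isSolvable_map hK _) (normalCore_le _)⟩
  obtain ⟨N, hNn, hN2, hNs⟩ : ∃ N : Subgroup G, N.Normal ∧ N ≠ ⊥ ∧ Group.IsSolvable N := by
    by_cases h : p ∣ H₂.index
    · exact key H₃ h₃ h13 fun h' => hp.one_lt.ne' (Nat.eq_one_of_dvd_coprimes hc h h')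
    · exact key H₂ h₂ h12 h
  refine isSolvable_of_normal_of_quotient N hNs (ih _ (card_quotient_lt hN2) (isSolvable_map h₁ _)
    (isSolvable_map h₂ _) (isSolvable_map h₃ _) (h12.map_mk' N) (h13.map_mk' N) ?_)
  exact Nat.Coprime.of_dvd (index_map_dvd _ (QuotientGroup.mk'_surjective N))
    (index_map_dvd _ (QuotientGroup.mk'_surjective N)) hc

theorem isSolvable_of_isPiNum_pair [Finite G] {p q : ℕ} (hp : p.Prime) (hq : q.Prime)
    (h : IsPiNum {p, q} (Nat.card G)) : Group.IsSolvable G := by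
  refine Char.isSolvable_of_card_dvd_pow_mul_pow (a := Nat.card G) (b := Nat.card G) hp hq G ?_
  rw [Nat.dvd_iff_prime_pow_dvd_dvd]
  intro r k hr hd
  rcases Nat.eq_zero_or_pos k with rfl | hk
  · simp
  have hk' : k ≤ Nat.card G :=
    (Nat.lt_pow_self hr.one_lt).le.trans (Nat.le_of_dvd Nat.card_pos hd)
  rcases h r hr ((dvd_pow_self r hk.ne').trans hd) with rfl | rfl
  · exact (pow_dvd_pow _ hk').trans (dvd_mul_right _ _)
  · exact (pow_dvd_pow _ hk').trans (dvd_mul_left _ _)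

theorem isPiHallOf_inf_of_coprime [Finite G] {π : Set ℕ} {H K : Subgroup G} (hK : IsPiHall π K)
    (hc : H.index.Coprime K.index) : IsPiHallOf π (H ⊓ K) H := by
  rw [isPiHall_iff] at hK
  refine isPiHallOf_iff.mpr ⟨inf_le_left, isPiNum_card_of_le hK.1 inf_le_right, ?_⟩
  have := (isProd_top_of_coprime hc).symm.relIndex_eq
  rw [inf_relIndex_left, ← this, relIndex_top_right]
  exact hK.2

/-- Converse of Hall's theorem. -/
theorem isSolvable_of_forall_isPiHall [Finite G]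
    (h : ∀ p : ℕ, p.Prime → ∃ H : Subgroup G, IsPiHall ({p} : Set ℕ)ᶜ H) : Group.IsSolvable G := by
  induction G, ‹Group G›, ‹Finite G› using card_induction' with | _ G ih => ?_
  have hcop : ∀ {p q : ℕ} {H K : Subgroup G}, p ≠ q → IsPiHall ({p} : Set ℕ)ᶜ H →
      IsPiHall ({q} : Set ℕ)ᶜ K → H.index.Coprime K.index := fun {p q H K} hpq hH hK =>
    Nat.coprime_of_dvd fun r hr d1 d2 => by
      have a1 := (isPiHall_iff.mp hH).2 r hr d1
      have a2 := (isPiHall_iff.mp hK).2 r hr d2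
      simp only [compl_compl, Set.mem_singleton_iff] at a1 a2
      exact hpq (a1.symm.trans a2)
  have hs : ∀ {p : ℕ} {H : Subgroup G}, p.Prime → p ∣ Nat.card G → IsPiHall ({p} : Set ℕ)ᶜ H →
      Group.IsSolvable H := fun {p H} hp hd hH => by
    have hne : H ≠ ⊤ := by
      rintro rfl
      exact (isPiHall_iff.mp hH).1 p hp (by rwa [card_top]) rfl
    refine ih H (card_lt_of_ne_top hne) fun q hq => ?_
    by_cases e : p = q
    · subst e
      exact ⟨⊤, isPiHall_iff.mpr ⟨by rw [card_top]; exact (isPiHall_iff.mp hH).1, by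
        rw [index_top]; exact isPiNum_one _⟩⟩
    · obtain ⟨K, hK⟩ := h q hq
      exact ⟨_, (isPiHallOf_iff_subgroupOf inf_le_left).mp
        (isPiHallOf_inf_of_coprime hK (hcop e hH hK))⟩
  by_contra hns
  obtain ⟨p, hp, dp, -⟩ : ∃ p, p.Prime ∧ p ∣ Nat.card G ∧ p ∉ ({2, 2} : Set ℕ) := by
    by_contra h'; push Not at h'
    exact hns (isSolvable_of_isPiNum_pair Nat.prime_two Nat.prime_two h')
  obtain ⟨q, hq, dq, hqp⟩ : ∃ q, q.Prime ∧ q ∣ Nat.card G ∧ q ∉ ({p, p} : Set ℕ) := by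
    by_contra h'; push Not at h'
    exact hns (isSolvable_of_isPiNum_pair hp hp h')
  obtain ⟨r, hr, dr, hrp⟩ : ∃ r, r.Prime ∧ r ∣ Nat.card G ∧ r ∉ ({p, q} : Set ℕ) := by
    by_contra h'; push Not at h'
    exact hns (isSolvable_of_isPiNum_pair hp hq h')
  simp only [Set.mem_insert_iff, Set.mem_singleton_iff, not_or] at hqp hrp
  obtain ⟨H₁, h₁⟩ := h p hp
  obtain ⟨H₂, h₂⟩ := h q hq
  obtain ⟨H₃, h₃⟩ := h r hr
  exact hns (isSolvable_of_three (hs hp dp h₁) (hs hq dq h₂) (hs hr dr h₃)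
    (isProd_top_of_coprime (hcop (Ne.symm hqp.1) h₁ h₂))
    (isProd_top_of_coprime (hcop (Ne.symm hrp.1) h₁ h₃)) (hcop (Ne.symm hrp.2) h₂ h₃))

theorem isPiHall_compl_singleton_iff [Finite G] {p : ℕ} (hp : p.Prime) {H : Subgroup G} :
    IsPiHall ({p} : Set ℕ)ᶜ H ↔ H.index = p ^ (Nat.card G).factorization p := by
  rw [isPiHall_iff, compl_compl, isPiNum_compl_singleton_iff hp,
    isPiNum_singleton_iff hp (index_pos H).ne']
  have hG := card_mul_index H
  have h0 : Nat.card H ≠ 0 := Nat.card_pos.ne'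
  constructor
  · rintro ⟨h1, k, hk⟩
    rw [← hG, hk, Nat.factorization_mul h0 (pow_ne_zero _ hp.ne_zero), Finsupp.add_apply,
      Nat.factorization_eq_zero_of_not_dvd (hp.coprime_iff_not_dvd.mp h1.symm),
      Nat.Prime.factorization_pow hp]
    simp
  · intro h
    refine ⟨(hp.coprime_iff_not_dvd.mpr fun hd => ?_).symm, _, h⟩
    apply Nat.pow_succ_factorization_not_dvd (Nat.card_pos (α := G)).ne' hp
    rw [pow_succ', ← h, ← hG]
    exact Nat.mul_dvd_mul_right hd _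

end Cfsg.Agent.Core
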