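import Cfsg.Agent.Core.Cores

/-!
# Core library: Gaschütz's theorem and the conjugacy part of Schur–Zassenhaus
-/

set_option autoImplicit false

namespace Cfsg.Agent.Core

open Subgroup
open scoped Pointwise commutatorElement

universe u v

variable {G : Type u} [Group G] {G' : Type v} [Group G']

/-- Strong induction on the order of a finite group, in a form for the `induction` tactic:
`induction G, ‹Group G›, ‹Finite G› using card_induction' with | _ G ih => ?_`. -/
@[elab_as_elim]
theorem card_induction' {P : ∀ (G : Type u) (_ : Group G) (_ : Finite G), Prop}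
    (h : ∀ (G : Type u) [iG : Group G] [fG : Finite G],
      (∀ (H : Type u) [iH : Group H] [fH : Finite H], Nat.card H < Nat.card G → P H iH fH) →
        P G iG fG)
    (G : Type u) (iG : Group G) (fG : Finite G) : P G iG fG :=
  card_induction (P := fun G iG fG => P G iG fG) h G

theorem exists_pow_mul_eq_self [Finite G] {n : ℕ} (h : (Nat.card G).Coprime n) :
    ∃ m : ℕ, ∀ x : G, (x ^ n) ^ m = x := by
  have h1 := Nat.ModEq.pow_totient h.symm
  have h2 : 0 < (Nat.card G).totient := Nat.totient_pos.mpr Nat.card_pos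
  refine ⟨n ^ ((Nat.card G).totient - 1), fun x => ?_⟩
  rw [← pow_mul, ← pow_succ', Nat.sub_add_cancel h2]
  conv_rhs => rw [← pow_one x]
  rw [pow_eq_pow_iff_modEq]
  exact h1.of_dvd (orderOf_dvd_natCard x)

section Gaschuetz

open scoped IsMulCommutative

theorem exists_crossed {K H U : Subgroup G} [K.Normal] [IsMulCommutative K] (h1 : K ⊓ H = ⊥)
    (h2 : K ⊔ H = U) :
    ∃ φ : G → K, (∀ u ∈ U, ∀ v ∈ U, φ (u * v) = φ u * MulAut.conjNormal u (φ v)) ∧
      (∀ k : K, φ k = k) ∧ (∀ u ∈ U, φ u = 1 ↔ u ∈ H) := by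
  have hex : ∀ u : G, ∃ k : K, u ∈ U → (k : G)⁻¹ * u ∈ H := by
    intro u
    by_cases hu : u ∈ U
    · rw [← h2] at hu
      obtain ⟨k, hk, h, hh, rfl⟩ := mem_sup_of_normal_left.mp hu
      exact ⟨⟨k, hk⟩, fun _ => by simpa using hh⟩
    · exact ⟨1, fun h => absurd h hu⟩
  choose φ hφ using hex
  have huniq : ∀ u ∈ U, ∀ k : K, (k : G)⁻¹ * u ∈ H → φ u = k := by
    intro u hu k hk
    have h3 : (k : G)⁻¹ * φ u ∈ K ⊓ H := by
      refine ⟨K.mul_mem (K.inv_mem k.2) (φ u).2, ?_⟩
      have := mul_mem hk (inv_mem (hφ u hu))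
      simpa [mul_assoc] using this
    rw [h1, mem_bot, inv_mul_eq_one] at h3
    exact Subtype.ext h3.symm
  have hKU : K ≤ U := h2 ▸ le_sup_left
  refine ⟨φ, fun u hu v hv => ?_, fun k => ?_, fun u hu => ⟨fun h => ?_, fun h => ?_⟩⟩
  · rw [mul_comm (φ u)]
    apply huniq _ (mul_mem hu hv)
    have : ((MulAut.conjNormal u (φ v) * φ u : K) : G)⁻¹ * (u * v) =
        ((φ u : G)⁻¹ * u) * ((φ v : G)⁻¹ * v) := by
      simp only [coe_mul, MulAut.conjNormal_apply]
      group
    rw [this]
    exact mul_mem (hφ u hu) (hφ v hv)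
  · exact huniq _ (hKU k.2) k (by simp)
  · simpa [h] using hφ u hu
  · exact huniq u hu 1 (by simpa using h)

theorem conjNormal_coe_apply {K : Subgroup G} [K.Normal] [IsMulCommutative K] (k x : K) :
    MulAut.conjNormal (k : G) x = x := by
  rw [MulAut.conjNormal_val, MulAut.conj_apply, mul_comm k x, mul_inv_cancel_right]

theorem exists_complement_of_crossed {K : Subgroup G} [K.Normal] [IsMulCommutative K] (φ : G → K)
    (h1 : ∀ u v, φ (u * v) = φ u * MulAut.conjNormal u (φ v)) (h2 : ∀ k : K, φ k = k) :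
    ∃ H : Subgroup G, IsComplement' K H := by
  have hone : φ 1 = 1 := h2 1
  let H : Subgroup G :=
    { carrier := {g | φ g = 1}
      mul_mem' := by
        intro a b ha hb
        simp only [Set.mem_ofPred_eq] at ha hb ⊢
        rw [h1, ha, hb, map_one, mul_one]
      one_mem' := hone
      inv_mem' := by
        intro a ha
        simp only [Set.mem_ofPred_eq] at ha ⊢
        have := h1 a⁻¹ a
        rw [inv_mul_cancel, hone, ha, map_one, mul_one] at this
        exact this.symm }
  have hH : ∀ g, g ∈ H ↔ φ g = 1 := fun _ => Iff.rfl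
  refine ⟨H, isComplement'_of_normal ?_ ?_⟩
  · rw [eq_bot_iff]
    rintro x ⟨hx, hx'⟩
    have := h2 ⟨x, hx⟩
    rw [(hH x).mp hx'] at this
    exact (congrArg Subtype.val this).symm
  · rw [eq_top_iff]
    intro g _
    have : g = φ g * ((φ g : G)⁻¹ * g) := by simp
    rw [this]
    refine mul_mem (mem_sup_left (φ g).2) (mem_sup_right ((hH _).mpr ?_))
    rw [h1, ← coe_inv, h2, conjNormal_coe_apply, inv_mul_cancel]

/-- Gaschütz's theorem, existence. -/
theorem gaschuetz_exists [Finite G] (K U : Subgroup G) [K.Normal] [IsMulCommutative K]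
    (hcop : (Nat.card K).Coprime U.index) (A : Subgroup G) (hAK : K ⊓ A = ⊥) (hKA : K ⊔ A = U) :
    ∃ H : Subgroup G, IsComplement' K H := by
  classical
  obtain ⟨ψ, hψ1, hψ2, -⟩ := exists_crossed hAK hKA
  have hKU : K ≤ U := hKA ▸ le_sup_left
  obtain ⟨m, hm⟩ := exists_pow_mul_eq_self hcop
  let _ : Fintype (G ⧸ U) := Fintype.ofFinite _
  let w : G → G ⧸ U → G := fun g q => ((g • q).out)⁻¹ * g * q.out
  have hw : ∀ g q, w g q ∈ U := by
    intro g q
    simp only [w]
    rw [mul_assoc, ← QuotientGroup.eq, QuotientGroup.out_eq', ← smul_eq_mul,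
      MulAction.Quotient.coe_smul_out]
  let T : G → G ⧸ U → K := fun g q => MulAut.conjNormal (g • q).out (ψ (w g q))
  have hT : ∀ g h q, T (g * h) q = T g (h • q) * MulAut.conjNormal g (T h q) := by
    intro g h q
    have e : w (g * h) q = w g (h • q) * w h q := by
      simp only [w, mul_smul]; group
    simp only [T]
    rw [e, hψ1 _ (hw _ _) _ (hw _ _), map_mul, mul_smul]
    congr 1
    apply Subtype.ext
    simp only [MulAut.conjNormal_apply, w]
    group
  let Φ : G → K := fun g => ∏ q, T g q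
  have hΦ1 : ∀ g h, Φ (g * h) = Φ g * MulAut.conjNormal g (Φ h) := by
    intro g h
    simp only [Φ, hT, Finset.prod_mul_distrib, map_prod]
    congr 1
    exact Fintype.prod_equiv (MulAction.toPerm h) _ _ fun _ => rfl
  have hΦ2 : ∀ k : K, Φ k = k ^ U.index := by
    intro k
    have : ∀ q : G ⧸ U, T k q = k := by
      intro q
      have hq : (k : G) • q = q := by
        induction q using QuotientGroup.induction_on with
        | H x =>
          rw [MulAction.Quotient.smul_coe, QuotientGroup.eq, smul_eq_mul]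
          apply hKU
          have := (inferInstance : K.Normal).conj_mem' _ (inv_mem k.2) x
          simpa [mul_assoc] using this
      have hk : w k q ∈ K := by
        simp only [w, hq]
        exact (inferInstance : K.Normal).conj_mem' _ k.2 _
      simp only [T]
      rw [show ψ (w k q) = ⟨w k q, hk⟩ from hψ2 ⟨_, hk⟩]
      apply Subtype.ext
      simp only [MulAut.conjNormal_apply, w, hq]
      group
    simp only [Φ, this, Finset.prod_const, Finset.card_univ, index_eq_card, Nat.card_eq_fintype_card]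
  refine exists_complement_of_crossed (fun g => Φ g ^ m) (fun u v => ?_) (fun k => ?_)
  · simp only [hΦ1, mul_pow, map_pow]
  · simp only [hΦ2, hm]

/-- Gaschütz's theorem, conjugacy (by an element of `K`). -/
theorem gaschuetz_conj [Finite G] (K U : Subgroup G) [K.Normal] [IsMulCommutative K]
    (hKU : K ≤ U) (hcop : (Nat.card K).Coprime U.index) (H₀ H₁ : Subgroup G)
    (h₀ : IsComplement' K H₀) (h₁ : IsComplement' K H₁) (hU : H₀ ⊓ U = H₁ ⊓ U) :
    ∃ g ∈ K, MulAut.conj g • H₀ = H₁ := by
  classical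
  obtain ⟨φ, hφ1, hφ2, hφ3⟩ := exists_crossed h₀.disjoint.eq_bot h₀.sup_eq_top
  obtain ⟨ψ, hψ1, hψ2, hψ3⟩ := exists_crossed h₁.disjoint.eq_bot h₁.sup_eq_top
  simp only [mem_top, forall_true_left] at hφ1 hφ3 hψ1 hψ3
  obtain ⟨m, hm⟩ := exists_pow_mul_eq_self hcop
  let _ : Fintype (G ⧸ U) := Fintype.ofFinite _
  let δ : G → K := fun g => ψ g * (φ g)⁻¹
  have hδ1 : ∀ g h, δ (g * h) = δ g * MulAut.conjNormal g (δ h) := by
    intro g h
    simp only [δ, hφ1, hψ1, map_mul, map_inv, mul_inv]
    rw [mul_mul_mul_comm]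
  have hδ2 : ∀ u ∈ U, δ u = 1 := by
    intro u hu
    obtain ⟨k, hk, h, hh, rfl⟩ := exists_mul_of_isComplement' h₀ u
    have hhU : h ∈ U := (mul_mem_cancel_left (hKU hk)).mp hu
    have hh1 : h ∈ H₁ := (hU.le ⟨hh, hhU⟩).1
    rw [hδ1]
    simp only [δ]
    rw [(hφ3 h).mpr hh, (hψ3 h).mpr hh1, show φ k = ⟨k, hk⟩ from hφ2 ⟨k, hk⟩,
      show ψ k = ⟨k, hk⟩ from hψ2 ⟨k, hk⟩]
    simp
  have hδ3 : ∀ (g : G) (q : G ⧸ U), δ (g • q).out = δ g * MulAut.conjNormal g (δ q.out) := by
    intro g q
    have hw : ((g • q).out)⁻¹ * (g * q.out) ∈ U := by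
      rw [← QuotientGroup.eq, QuotientGroup.out_eq', ← smul_eq_mul,
        MulAction.Quotient.coe_smul_out]
    rw [← hδ1]
    have := hδ1 (g • q).out (((g • q).out)⁻¹ * (g * q.out))
    rw [hδ2 _ hw, map_one, mul_one, mul_inv_cancel_left] at this
    exact this.symm
  let c : K := ∏ q : G ⧸ U, δ q.out
  have hc : ∀ g, c = δ g ^ U.index * MulAut.conjNormal g c := by
    intro g
    have : c = ∏ q : G ⧸ U, δ (g • q).out :=
      (Fintype.prod_equiv (MulAction.toPerm g) _ _ fun _ => rfl).symm
    conv_lhs => rw [this]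
    simp only [hδ3, Finset.prod_mul_distrib, Finset.prod_const, Finset.card_univ, index_eq_card,
      Nat.card_eq_fintype_card, ← map_prod]
    rfl
  have hd : ∀ g, c ^ m = δ g * MulAut.conjNormal g (c ^ m) := by
    intro g
    conv_lhs => rw [hc g]
    rw [mul_pow, hm, map_pow]
  set d := c ^ m with hddef
  refine ⟨((d⁻¹ : K) : G), (d⁻¹).2, ?_⟩
  apply eq_of_le_of_card_ge
  · rw [conj_smul_le_iff]
    intro h hh
    rw [← hψ3, hψ1, hψ1, ← coe_inv, inv_inv, hψ2, hψ2, conjNormal_coe_apply, map_mul]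
    have h1 := hd h
    simp only [δ, (hφ3 h).mpr hh, inv_one, mul_one] at h1
    rw [MulAut.mul_apply, conjNormal_coe_apply, mul_assoc, ← h1, inv_mul_cancel]
  · rw [card_smul]
    have e0 := h₀.card_mul_card
    have e1 := h₁.card_mul_card
    exact (Nat.eq_of_mul_eq_mul_left Nat.card_pos (e1.trans e0.symm)).le

end Gaschuetz

theorem isComplement'_of_coprime_of_sup {N H : Subgroup G} [N.Normal]
    (h1 : (Nat.card N).Coprime (Nat.card H)) (h2 : N ⊔ H = ⊤) : IsComplement' N H :=
  isComplement'_of_normal (inf_eq_bot_of_coprime' h1) h2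

theorem IsComplement'_coprime {N H : Subgroup G} (hN : (Nat.card N).Coprime N.index)
    (h : IsComplement' N H) : (Nat.card N).Coprime (Nat.card H) := by
  rwa [← h.symm.index_eq_card]

/-- Schur's theorem: conjugacy of complements to an abelian normal Hall subgroup. -/
theorem schur_conj_abelian [Finite G] (A : Subgroup G) [A.Normal] [IsMulCommutative A]
    (hA : (Nat.card A).Coprime A.index) (H K : Subgroup G) (hH : IsComplement' A H)
    (hK : IsComplement' A K) : ∃ a ∈ A, MulAut.conj a • H = K :=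
  gaschuetz_conj A A le_rfl hA H K hH hK (by
    rw [hH.symm.disjoint.eq_bot, hK.symm.disjoint.eq_bot])

theorem card_eq_of_sup_eq_of_disjoint [Finite G] {N H K : Subgroup G}
    (hH : H ≤ normalizer (N : Set G)) (hK : K ≤ normalizer (N : Set G)) (h : H ⊔ N = K ⊔ N)
    (h1 : H ⊓ N = ⊥) (h2 : K ⊓ N = ⊥) : Nat.card H = Nat.card K := by
  have e1 := card_sup_of_disjoint hH h1
  have e2 := card_sup_of_disjoint hK h2
  rw [h, e2] at e1
  exact (Nat.eq_of_mul_eq_mul_right Nat.card_pos e1).symm

theorem eq_of_map_mk'_eq {H K N : Subgroup G} [N.Normal] (hH : N ≤ H) (hK : N ≤ K)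
    (h : H.map (QuotientGroup.mk' N) = K.map (QuotientGroup.mk' N)) : H = K := by
  rwa [map_mk'_eq_map_mk'_iff, sup_eq_left.mpr hH, sup_eq_left.mpr hK] at h

theorem map_mk'_sup_eq_top {N H : Subgroup G} (M : Subgroup G) [M.Normal] (h : N ⊔ H = ⊤) :
    N.map (QuotientGroup.mk' M) ⊔ H.map (QuotientGroup.mk' M) = ⊤ := by
  rw [← Subgroup.map_sup, h, map_top_of_surjective _ (QuotientGroup.mk'_surjective M)]

theorem coprime_card_map {H K : Subgroup G} (h : (Nat.card H).Coprime (Nat.card K))
    (f : G →* G') : (Nat.card (H.map f)).Coprime (Nat.card (K.map f)) :=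
  Nat.Coprime.of_dvd (card_map_dvd H f) (card_map_dvd K f) h

theorem coprime_card_subgroupOf {H K : Subgroup G} (h : (Nat.card H).Coprime (Nat.card K))
    (L : Subgroup G) : (Nat.card (H.subgroupOf L)).Coprime (Nat.card (K.subgroupOf L)) :=
  Nat.Coprime.of_dvd (card_subgroupOf_dvd H L) (card_subgroupOf_dvd K L) h

theorem coprime_card_of_le {H K H' K' : Subgroup G} (h : (Nat.card H).Coprime (Nat.card K))
    (h1 : H' ≤ H) (h2 : K' ≤ K) : (Nat.card H').Coprime (Nat.card K') :=
  Nat.Coprime.of_dvd (card_dvd_of_le h1) (card_dvd_of_le h2) h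

theorem map_mk'_normal (N M : Subgroup G) [hN : N.Normal] [M.Normal] :
    (N.map (QuotientGroup.mk' M)).Normal := hN.map _ (QuotientGroup.mk'_surjective M)

private theorem sz_conj_of_solvable_left (G : Type u) [Group G] [Finite G] :
    ∀ (N H K : Subgroup G) [N.Normal], Group.IsSolvable N → N ⊔ H = ⊤ → N ⊔ K = ⊤ →
      (Nat.card N).Coprime (Nat.card H) → (Nat.card N).Coprime (Nat.card K) →
      ∃ g : G, MulAut.conj g • H = K := by
  induction G, ‹Group G›, ‹Finite G› using card_induction' with | _ G ih => ?_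
  intro N H K _ hs hH hK cH cK
  by_cases hN : N = ⊥
  · subst hN
    rw [bot_sup_eq] at hH hK
    exact ⟨1, by rw [hH, hK, smul_top']⟩
  obtain ⟨M, p, hMN, hM, -, he, -⟩ := exists_minNormal_elementaryAbelian_le hN hs
  have := hM.1
  have := he.1
  have := map_mk'_normal N M
  obtain ⟨g, hg⟩ := ih (G ⧸ M) (card_quotient_lt hM.2.1) (N.map (QuotientGroup.mk' M))
    (H.map (QuotientGroup.mk' M)) (K.map (QuotientGroup.mk' M)) (isSolvable_map hs _)
    (map_mk'_sup_eq_top M hH) (map_mk'_sup_eq_top M hK) (coprime_card_map cH _)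
    (coprime_card_map cK _)
  obtain ⟨g, rfl⟩ := QuotientGroup.mk'_surjective M g
  rw [← map_conj_smul, map_mk'_eq_map_mk'_iff] at hg
  set H' := MulAut.conj g • H with hH'
  set L := K ⊔ M with hL
  have hH'L : H' ≤ L := hg ▸ le_sup_left
  have c1 : (Nat.card M).Coprime (Nat.card H') := by
    rw [hH', card_smul]; exact coprime_card_of_le cH hMN le_rfl
  have c2 : (Nat.card M).Coprime (Nat.card K) := coprime_card_of_le cK hMN le_rfl
  have d1 : IsComplement' (M.subgroupOf L) (H'.subgroupOf L) := by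
    apply isComplement'_of_coprime_of_sup (coprime_card_subgroupOf c1 L)
    rw [← subgroupOf_sup le_sup_right hH'L, sup_comm, hg, subgroupOf_self]
  have d2 : IsComplement' (M.subgroupOf L) (K.subgroupOf L) := by
    apply isComplement'_of_coprime_of_sup (coprime_card_subgroupOf c2 L)
    rw [← subgroupOf_sup le_sup_right le_sup_left, sup_comm, subgroupOf_self]
  obtain ⟨a, -, ha⟩ := schur_conj_abelian (M.subgroupOf L)
    (by rw [d2.symm.index_eq_card]; exact coprime_card_subgroupOf c2 L) _ _ d1 d2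
  exact ⟨a * g, by rw [← conj_smul_conj_smul, conj_smul_eq_of_subgroupOf hH'L le_sup_left a ha]⟩

/-- Two `p`-subgroups of `M` of index prime to `p` in `M` are conjugate in `M`. -/
theorem exists_conj_of_not_dvd_relIndex [Finite G] {p : ℕ} [Fact p.Prime] {P Q M : Subgroup G}
    (hP : IsPGroup p P) (hQ : IsPGroup p Q) (hPM : P ≤ M) (hQM : Q ≤ M)
    (iP : ¬ p ∣ P.relIndex M) (iQ : ¬ p ∣ Q.relIndex M) :
    ∃ m ∈ M, MulAut.conj m • P = Q := by
  obtain ⟨m, hm⟩ := MulAction.exists_smul_eq M ((isPGroup_subgroupOf hP M).toSylow iP)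
    ((isPGroup_subgroupOf hQ M).toSylow iQ)
  refine ⟨m, m.2, conj_smul_eq_of_subgroupOf hPM hQM m ?_⟩
  exact congrArg (fun S : Sylow p M => (S : Subgroup M)) hm

private theorem sz_conj_of_solvable_right (G : Type u) [Group G] [Finite G] :
    ∀ (N H K : Subgroup G) [N.Normal], Group.IsSolvable (G ⧸ N) → N ⊔ H = ⊤ → N ⊔ K = ⊤ →
      (Nat.card N).Coprime (Nat.card H) → (Nat.card N).Coprime (Nat.card K) →
      ∃ g : G, MulAut.conj g • H = K := by
  induction G, ‹Group G›, ‹Finite G› using card_induction' with | _ G ih => ?_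
  intro N H K _ hs hH hK cH cK
  by_cases hN : N = ⊤
  · subst hN
    have h1 := inf_eq_bot_of_coprime' cH
    have h2 := inf_eq_bot_of_coprime' cK
    rw [top_inf_eq] at h1 h2
    exact ⟨1, by rw [h1, h2, smul_bot]⟩
  have : Nontrivial (G ⧸ N) := QuotientGroup.nontrivial_iff.mpr hN
  obtain ⟨M', p, hM', hp, -, hP⟩ := exists_minNormal_elementaryAbelian (G := G ⧸ N)
  have := Fact.mk hp
  have := hM'.1
  set M := M'.comap (QuotientGroup.mk' N) with hM
  have hNM : N ≤ M := le_comap_mk' N M'
  have key : ∀ H : Subgroup G, N ⊔ H = ⊤ → (Nat.card N).Coprime (Nat.card H) →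
      IsPGroup p ↥(H ⊓ M) ∧ ¬ p ∣ (H ⊓ M).relIndex M ∧ H ⊓ M ≠ ⊥ := by
    intro H hH cH
    have h1 : (H ⊓ M) ⊔ N = M := by
      rw [← inf_sup_dedekind le_normalizer_of_normal hNM, sup_comm, hH, top_inf_eq]
    have h2 : Nat.card ↥(H ⊓ M) = Nat.card M' := by
      have e1 := card_sup_of_coprime (H := H ⊓ M) (N := N) le_normalizer_of_normal
        (coprime_card_of_le cH.symm inf_le_left le_rfl)
      rw [h1, hM, card_comap_mk'] at e1
      exact (Nat.eq_of_mul_eq_mul_right Nat.card_pos e1).symm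
    obtain ⟨k, hk⟩ := hP.exists_card_eq
    have h3 : (H ⊓ M).relIndex M = Nat.card N := by
      have e1 := card_mul_relIndex (inf_le_right : H ⊓ M ≤ M)
      rw [h2] at e1
      conv_rhs at e1 => rw [hM, card_comap_mk']
      exact Nat.eq_of_mul_eq_mul_left Nat.card_pos e1
    have h4 : p ∣ Nat.card ↥(H ⊓ M) := h2 ▸ dvd_card_of_isPGroup_of_ne_bot hP hM'.2.1
    refine ⟨IsPGroup.of_card (h2.trans hk), ?_, ?_⟩
    · rw [h3]
      intro hd
      exact hp.one_lt.ne' (Nat.eq_one_of_dvd_coprimes cH hd (h4.trans (card_dvd_of_le inf_le_left)))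
    · intro hb
      rw [hb, card_bot] at h4
      exact hp.one_lt.ne' (Nat.dvd_one.mp h4)
  obtain ⟨a1, a2, -⟩ := key H hH cH
  obtain ⟨b1, b2, b3⟩ := key K hK cK
  obtain ⟨m, hm, hmP⟩ := exists_conj_of_not_dvd_relIndex a1 b1 inf_le_right inf_le_right a2 b2
  rw [smul_inf, Normal.conj_smul_eq_self m M] at hmP
  set H' := MulAut.conj m • H with hH'def
  have hH' : N ⊔ H' = ⊤ := by
    rw [← Normal.conj_smul_eq_self m N, hH'def, ← smul_sup, hH, smul_top']
  have cH' : (Nat.card N).Coprime (Nat.card H') := by rwa [hH'def, card_smul]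
  suffices ∃ g : G, MulAut.conj g • H' = K by
    obtain ⟨g, hg⟩ := this
    exact ⟨g * m, by rw [← conj_smul_conj_smul, hg]⟩
  set P := K ⊓ M with hPdef
  set L := normalizer (P : Set G) with hL
  have hKL : K ≤ L := le_normalizer_inf le_normalizer le_normalizer_of_normal
  have hH'L : H' ≤ L := by
    rw [hL, ← hmP]
    exact le_normalizer_inf le_normalizer le_normalizer_of_normal
  by_cases hLt : L = ⊤
  · have : P.Normal := normalizer_eq_top_iff.mp hLt
    have := map_mk'_normal N P
    have hs' : Group.IsSolvable ((G ⧸ P) ⧸ N.map (QuotientGroup.mk' P)) := by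
      apply isSolvable_quotient_of_sup_eq_top (H := K.map (QuotientGroup.mk' P))
      · rw [sup_comm]; exact map_mk'_sup_eq_top P hK
      · exact isSolvable_map
          (isSolvable_of_quotient_of_disjoint (inf_eq_bot_of_coprime' cK.symm) hs) _
    obtain ⟨g, hg⟩ := ih (G ⧸ P) (card_quotient_lt b3) (N.map (QuotientGroup.mk' P))
      (H'.map (QuotientGroup.mk' P)) (K.map (QuotientGroup.mk' P)) hs'
      (map_mk'_sup_eq_top P hH') (map_mk'_sup_eq_top P hK) (coprime_card_map cH' _)
      (coprime_card_map cK _)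
    obtain ⟨g, rfl⟩ := QuotientGroup.mk'_surjective P g
    rw [← map_conj_smul] at hg
    refine ⟨g, eq_of_map_mk'_eq (N := P) ?_ inf_le_left hg⟩
    rw [← Normal.conj_smul_eq_self g P, pointwise_smul_le_pointwise_smul_iff, ← hmP]
    exact inf_le_left
  · have hs' : Group.IsSolvable (L ⧸ N.subgroupOf L) := by
      apply isSolvable_quotient_of_sup_eq_top (H := K.subgroupOf L)
      · rw [sup_comm]; exact subgroupOf_sup_eq_top_of_le hK hKL
      · exact isSolvable_subgroupOf
          (isSolvable_of_quotient_of_disjoint (inf_eq_bot_of_coprime' cK.symm) hs) _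
    obtain ⟨g, hg⟩ := ih L (card_lt_of_ne_top hLt) (N.subgroupOf L) (H'.subgroupOf L)
      (K.subgroupOf L) hs' (subgroupOf_sup_eq_top_of_le hH' hH'L)
      (subgroupOf_sup_eq_top_of_le hK hKL) (coprime_card_subgroupOf cH' L)
      (coprime_card_subgroupOf cK L)
    exact ⟨g, conj_smul_eq_of_subgroupOf hH'L hKL g hg⟩

/-- Schur–Zassenhaus conjugacy, by an element of the normal subgroup. -/
theorem sz_conj [Finite G] (N : Subgroup G) [N.Normal] (hN : (Nat.card N).Coprime N.index)
    (hs : Group.IsSolvable N ∨ Group.IsSolvable (G ⧸ N)) (H K : Subgroup G)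
    (hH : IsComplement' N H) (hK : IsComplement' N K) : ∃ n ∈ N, MulAut.conj n • H = K := by
  have : ∃ g : G, MulAut.conj g • H = K := by
    rcases hs with hs | hs
    · exact sz_conj_of_solvable_left G N H K hs hH.sup_eq_top hK.sup_eq_top
        (IsComplement'_coprime hN hH) (IsComplement'_coprime hN hK)
    · exact sz_conj_of_solvable_right G N H K hs hH.sup_eq_top hK.sup_eq_top
        (IsComplement'_coprime hN hH) (IsComplement'_coprime hN hK)
  obtain ⟨g, hg⟩ := this
  obtain ⟨n, hn, h, hh, rfl⟩ := exists_mul_of_isComplement' hH g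
  exact ⟨n, hn, by rwa [← conj_smul_conj_smul, conj_smul_eq_self_of_mem hh] at hg⟩

/-- Internal dominance form of Schur–Zassenhaus conjugacy: if `A` normalizes `N`, a subgroup `B`
of `A N` of order prime to `|N|` is conjugate into `A` by an element of `N`. -/
theorem exists_le_conj_of_le_sup [Finite G] {N A B : Subgroup G}
    (hA : A ≤ normalizer (N : Set G)) (hB : B ≤ A ⊔ N) (cA : (Nat.card A).Coprime (Nat.card N))
    (cB : (Nat.card B).Coprime (Nat.card N))
    (hs : Group.IsSolvable A ∨ Group.IsSolvable N ∨ Group.IsSolvable B) :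
    ∃ n ∈ N, B ≤ MulAut.conj n • A := by
  have hBN : B ≤ normalizer (N : Set G) := hB.trans (sup_le hA le_normalizer)
  set L := B ⊔ N with hL
  have hn : (N.subgroupOf L).Normal := normal_subgroupOf_sup_of_le_normalizer hBN
  have h1 : (A ⊓ L) ⊔ N = L := by
    rw [← inf_sup_dedekind hA le_sup_right, inf_eq_right]
    exact sup_le hB le_sup_right
  have d1 : IsComplement' (N.subgroupOf L) (A.subgroupOf L) := by
    apply isComplement'_of_coprime_of_sup (coprime_card_subgroupOf cA.symm L)
    rw [← inf_subgroupOf_right A L, ← subgroupOf_sup le_sup_right inf_le_right, sup_comm, h1,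
      subgroupOf_self]
  have d2 : IsComplement' (N.subgroupOf L) (B.subgroupOf L) := by
    apply isComplement'_of_coprime_of_sup (coprime_card_subgroupOf cB.symm L)
    rw [← subgroupOf_sup le_sup_right le_sup_left, sup_comm, subgroupOf_self]
  have hs' : Group.IsSolvable (N.subgroupOf L) ∨ Group.IsSolvable (L ⧸ N.subgroupOf L) := by
    rcases hs with hs | hs | hs
    · exact Or.inr (isSolvable_quotient_of_sup_eq_top d1.symm.sup_eq_top
        (isSolvable_subgroupOf hs L))
    · exact Or.inl (isSolvable_subgroupOf hs L)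
    · exact Or.inr (isSolvable_quotient_of_sup_eq_top d2.symm.sup_eq_top
        (isSolvable_subgroupOf hs L))
  obtain ⟨n, hn, h⟩ := sz_conj (N.subgroupOf L)
    (by rw [d2.symm.index_eq_card]; exact coprime_card_subgroupOf cB.symm L) hs' _ _ d1 d2
  exact ⟨n, hn, le_conj_smul_of_subgroupOf le_sup_left n h.ge⟩

/-- Internal form of Schur–Zassenhaus conjugacy. -/
theorem exists_conj_eq_of_sup_eq [Finite G] {N A B : Subgroup G}
    (hA : A ≤ normalizer (N : Set G)) (hB : A ⊔ N = B ⊔ N)
    (cA : (Nat.card A).Coprime (Nat.card N)) (cB : (Nat.card B).Coprime (Nat.card N))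
    (hs : Group.IsSolvable A ∨ Group.IsSolvable N ∨ Group.IsSolvable B) :
    ∃ n ∈ N, MulAut.conj n • A = B := by
  obtain ⟨n, hn, h⟩ := exists_le_conj_of_le_sup hA (hB ▸ le_sup_left) cA cB hs
  refine ⟨n, hn, (eq_of_le_of_card_ge h ?_).symm⟩
  rw [card_smul]
  exact (card_eq_of_sup_eq_of_disjoint hA
    ((hB ▸ le_sup_left : B ≤ A ⊔ N).trans (sup_le hA le_normalizer)) hB
    (inf_eq_bot_of_coprime' cA) (inf_eq_bot_of_coprime' cB)).le

/-- Internal form of Schur–Zassenhaus existence: a normal Hall subgroup `N` of `L` has a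
complement in `L`. -/
theorem exists_complement_in [Finite G] {N L : Subgroup G} (hNL : N ≤ L)
    (hn : L ≤ normalizer (N : Set G)) (hc : (Nat.card N).Coprime (N.relIndex L)) :
    ∃ H, H ≤ L ∧ H ⊔ N = L ∧ H ⊓ N = ⊥ ∧ Nat.card H = N.relIndex L := by
  have : (N.subgroupOf L).Normal := (normal_subgroupOf_iff_le_normalizer hNL).mpr hn
  obtain ⟨H, hH⟩ := exists_left_complement'_of_coprime (N := N.subgroupOf L)
    (by rwa [card_subgroupOf_of_le hNL])
  refine ⟨H.map L.subtype, map_subtype_le H, ?_, ?_, ?_⟩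
  · have := congrArg (map L.subtype) hH.sup_eq_top
    rwa [Subgroup.map_sup, map_subgroupOf_eq_of_le hNL, ← MonoidHom.range_eq_map,
      range_subtype] at this
  · have := congrArg (map L.subtype) hH.disjoint.eq_bot
    rwa [map_inf_eq _ _ _ L.subtype_injective, map_subgroupOf_eq_of_le hNL, Subgroup.map_bot] at this
  · rw [card_subtype, ← hH.index_eq_card]; rfl

end Cfsg.Agent.Core
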