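import Cfsg.Agent.Core.Product
import Cfsg.Agent.PLoc.Transfer

/-!
# Core library: minimal non-nilpotent groups, nilpotent Hall subgroups, focal normal complements
-/

set_option autoImplicit false

namespace Cfsg.Agent.Core

open Subgroup
open scoped Pointwise commutatorElement

universe u v

variable {G : Type u} [Group G] {G' : Type v} [Group G']

theorem isCoatom_conj {M : Subgroup G} (hM : IsCoatom M) (g : G) :
    IsCoatom (MulAut.conj g • M) :=
  ((MulAut.conj g).mapSubgroup.isCoatom_iff M).mpr hM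

theorem isCoatom_map_mk' {M N : Subgroup G} [N.Normal] (hM : IsCoatom M) (h : N ≤ M) :
    IsCoatom (M.map (QuotientGroup.mk' N)) := by
  refine ⟨fun e => hM.1 (by rwa [map_mk'_eq_top_iff, sup_eq_left.mpr h] at e), fun K hK => ?_⟩
  rw [← map_comap_mk' N K, hM.2 (K.comap _) (lt_of_le_of_ne (map_le_iff_le_comap.mp hK.le)
    fun e => hK.ne (by rw [e, map_comap_mk'])), map_top_of_surjective _
    (QuotientGroup.mk'_surjective N)]

theorem isCoatom_comap_mk' {N : Subgroup G} [N.Normal] {M : Subgroup (G ⧸ N)} (hM : IsCoatom M) :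
    IsCoatom (M.comap (QuotientGroup.mk' N)) :=
  isCoatom_comap_of_surjective (QuotientGroup.mk'_surjective N) hM

theorem normal_of_commutator_le' {N : Subgroup G} (h : _root_.commutator G ≤ N) : N.Normal :=
  normal_iff_top_le_normalizer.mpr (le_normalizer_iff_commutator_le_left.mpr
    ((commutator_mono le_top le_rfl).trans h))

theorem index_prime_of_isCoatom_of_commutator_le {N : Subgroup G} (hN : IsCoatom N)
    (h : _root_.commutator G ≤ N) : N.index.Prime := by
  have := normal_of_commutator_le' h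
  have hc : IsMulCommutative (G ⧸ N) := Normal.quotient_commutative_iff_commutator_le.mpr h
  have hb := isCoatom_map_mk' hN le_rfl
  rw [map_mk'_eq_bot_iff.mpr le_rfl] at hb
  have : Nontrivial (G ⧸ N) := (nontrivial_iff (G := G ⧸ N)).mp ⟨⟨⊥, ⊤, hb.1⟩⟩
  rw [index_eq_card, ← Group.is_simple_iff_prime_card]
  exact ⟨fun K _ => (eq_or_ne K ⊥).imp_right fun h => hb.2 K (bot_lt_iff_ne_bot.mpr h)⟩

theorem exists_coatom_normal_index_prime [Finite G] [Nontrivial G] [Group.IsSolvable G] :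
    ∃ N : Subgroup G, IsCoatom N ∧ N.Normal ∧ _root_.commutator G ≤ N ∧ N.index.Prime := by
  obtain ⟨N, hN, h⟩ := exists_coatom_ge (Group.IsSolvable.commutator_lt_top_of_nontrivial G).ne
  exact ⟨N, hN, normal_of_commutator_le' h, h, index_prime_of_isCoatom_of_commutator_le hN h⟩

theorem le_centralizer_of_isNilpotent_of_coprime [Finite G] {A B L : Subgroup G}
    (hL : Group.IsNilpotent L) (hA : A ≤ L) (hB : B ≤ L)
    (hc : (Nat.card A).Coprime (Nat.card B)) : A ≤ centralizer (B : Set G) := by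
  have h1 : A.subgroupOf L ≤ piCore {p | p ∣ Nat.card B}ᶜ L :=
    le_piCore_of_isSubnormal (isSubnormal_of_isNilpotent _)
      (by rw [card_subgroupOf_of_le hA]; exact isPiNum_compl_primes_dvd_iff.mpr hc)
  have h2 : B.subgroupOf L ≤ piCore {p | p ∣ Nat.card B} L :=
    le_piCore_of_isSubnormal (isSubnormal_of_isNilpotent _)
      (by rw [card_subgroupOf_of_le hB]; exact isPiNum_primes_dvd _)
  have h3 := (h1.trans (le_centralizer_of_coprime
    ((piCore_isPiNum _).coprime (piCore_isPiNum _)).symm)).trans (centralizer_anti h2)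
  rw [centralizer_subgroupOf hB] at h3
  exact le_of_subgroupOf_le hA h3

theorem le_normalizer_of_isPiHallOf_of_isNilpotent [Finite G] {π : Set ℕ} {H L : Subgroup G}
    (hL : Group.IsNilpotent L) (hH : IsPiHallOf π H L) : L ≤ normalizer (H : Set G) := by
  have h := (isPiHallOf_iff_subgroupOf hH.1).mp hH
  have : H.subgroupOf L = piCore π L := le_antisymm
    (le_piCore_of_isSubnormal (isSubnormal_of_isNilpotent _) (isPiHall_iff.mp h).1)
    (piCore_le_of_isPiHall h)
  have : (H.subgroupOf L).Normal := this ▸ inferInstance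
  exact le_normalizer_of_normal_subgroupOf hH.1

theorem le_of_isPiHallOf_of_le_normalizer [Finite G] {π : Set ℕ} {H U L : Subgroup G}
    (hH : IsPiHallOf π H L) (hU : IsPiNum π (Nat.card U)) (hUL : U ≤ L)
    (h : H ≤ normalizer (U : Set G) ∨ U ≤ normalizer (H : Set G)) : U ≤ H := by
  have h1 : IsPiNum π (Nat.card ↥(H ⊔ U)) := by
    rcases h with h | h
    · exact isPiNum_card_sup h (isPiHallOf_iff.mp hH).2.1 hU
    · rw [sup_comm]; exact isPiNum_card_sup h hU (isPiHallOf_iff.mp hH).2.1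
  rw [← eq_of_isPiHallOf_of_le hH h1 (sup_le hH.1 hUL) le_sup_left]
  exact le_sup_right

theorem le_of_isPiHallOf_of_isNilpotent [Finite G] {π : Set ℕ} {H U L : Subgroup G}
    (hL : Group.IsNilpotent L) (hH : IsPiHallOf π H L) (hU : IsPiNum π (Nat.card U))
    (hUL : U ≤ L) : U ≤ H :=
  le_of_isPiHallOf_of_le_normalizer hH hU hUL
    (Or.inr (hUL.trans (le_normalizer_of_isPiHallOf_of_isNilpotent hL hH)))

theorem isMulCommutative_of_zpowers_eq_top {x : G} (h : zpowers x = ⊤) : IsMulCommutative G :=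
  have := isCyclic_iff_exists_zpowers_eq_top.mpr ⟨x, h⟩
  inferInstance

/-- Schmidt's theorem. -/
theorem isSolvable_of_forall_ne_top_isNilpotent [Finite G]
    (h : ∀ H : Subgroup G, H ≠ ⊤ → Group.IsNilpotent H) : Group.IsSolvable G := by
  induction G, ‹Group G›, ‹Finite G› using card_induction' with | _ G ih => ?_
  by_contra hG
  have hsimple : ∀ N : Subgroup G, N.Normal → N ≠ ⊥ → N = ⊤ := fun N hN h1 => by
    by_contra h2
    have := h N h2
    refine hG (isSolvable_of_normal_of_quotient N inferInstance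
      (ih _ (card_quotient_lt h1) fun K hK => ?_))
    rw [← map_comap_mk' N K]
    refine isNilpotent_map (h _ fun e => hK ?_) _
    rw [← map_comap_mk' N K, e, map_top_of_surjective _ (QuotientGroup.mk'_surjective N)]
  have hint : ∀ D : Subgroup G, D ≠ ⊥ → ∀ M₁ M₂, IsCoatom M₁ → IsCoatom M₂ → D ≤ M₁ → D ≤ M₂ →
      M₁ = M₂ := by
    intro D
    induction D using WellFoundedGT.induction with
    | ind D ihD =>
    intro hD M₁ M₂ h₁ h₂ d₁ d₂
    obtain ⟨M₃, h₃, d₃⟩ := exists_coatom_ge (H := normalizer (D : Set G)) fun e =>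
      h₁.1 (top_le_iff.mp (hsimple D (normalizer_eq_top_iff.mp e) hD ▸ d₁))
    have key : ∀ M, IsCoatom M → D ≤ M → M = M₃ := fun M hM d => by
      rcases d.eq_or_lt with rfl | d'
      · exact (hM.le_iff_eq h₃.1).mp (le_normalizer.trans d₃) |>.symm
      · have := lt_inf_normalizer_of_isNilpotent (h M hM.1) d'
        exact ihD _ this (ne_bot_of_gt this) M M₃ hM h₃ inf_le_left (inf_le_right.trans d₃)
    rw [key M₁ h₁ d₁, key M₂ h₂ d₂]
  have hz : ∀ x : G, zpowers x ≠ ⊤ := fun x e =>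
    hG (isSolvable_of_comm' (isMulCommutative_of_zpowers_eq_top e))
  have hfrob : ∀ M : Subgroup G, IsCoatom M → IsFrobeniusComplement M := fun M hM => by
    have h1 : M ≠ ⊥ := by
      rintro rfl
      obtain ⟨⟨x, _⟩, hx⟩ := ne_bot_iff_exists_ne_one.mp hM.1.symm
      exact hz x (hM.2 _ (bot_lt_iff_ne_bot.mpr fun e => hx (Subtype.ext (zpowers_eq_bot.mp e))))
    refine ⟨h1, hM.1, fun g hg => ?_⟩
    by_contra h2
    have h3 := hint _ h2 _ _ hM (isCoatom_conj hM g) inf_le_left inf_le_right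
    have h4 := hM.2 _ (lt_of_le_of_ne le_normalizer fun e => hg (e ▸ conj_smul_eq_iff.mp h3.symm))
    exact hM.1 (hsimple M (normalizer_eq_top_iff.mp h4) h1)
  obtain ⟨M, hM, -⟩ := exists_coatom_ge (hz 1)
  obtain ⟨y, -, hy1, hy⟩ := frob_exists_mem_kernel (U := ⊤) (hfrob M hM)
    (by rw [top_inf_eq]; exact (hfrob M hM).1) fun g e => (isCoatom_conj hM g).1 (top_le_iff.mp e)
  obtain ⟨M', hM', hyM⟩ := exists_coatom_ge (hz y)
  obtain ⟨g, hg⟩ := frob_exists_inf_ne_bot (hfrob M' hM') (hfrob M hM)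
  rw [hint _ hg _ _ hM' (isCoatom_conj hM g) inf_le_left inf_le_right] at hyM
  exact hy.elim hy1 fun h => h g (hyM (mem_zpowers y))

theorem map_subtype_lt {K : Subgroup G} {H : Subgroup K} (h : H ≠ ⊤) : H.map K.subtype < K :=
  lt_of_le_of_ne (map_subtype_le H) fun e => h (by
    rw [← map_subtype_subgroupOf H, e, subgroupOf_self])

theorem isNilpotent_of_map_subtype {K : Subgroup G} {H : Subgroup K}
    (h : Group.IsNilpotent (H.map K.subtype)) : Group.IsNilpotent H :=
  isNilpotent_of_injective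
    (f := (H.equivMapOfInjective K.subtype K.subtype_injective).toMonoidHom) (MulEquiv.injective _)

theorem isNilpotent_of_top (h : Group.IsNilpotent (⊤ : Subgroup G)) : Group.IsNilpotent G :=
  isNilpotent_of_injective (f := (topEquiv (G := G)).symm.toMonoidHom) (MulEquiv.injective _)

theorem isSolvable_of_forall_lt_isNilpotent [Finite G] {K : Subgroup G}
    (h : ∀ H : Subgroup G, H < K → Group.IsNilpotent H) : Group.IsSolvable K :=
  isSolvable_of_forall_ne_top_isNilpotent fun _ hH =>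
    isNilpotent_of_map_subtype (h _ (map_subtype_lt hH))

theorem minimal_nonnilpotent_structure [Finite G] (hG : ¬ Group.IsNilpotent G)
    (h : ∀ H : Subgroup G, H ≠ ⊤ → Group.IsNilpotent H) :
    ∃ (p q : ℕ) (x : G) (Q : Subgroup G), p.Prime ∧ q.Prime ∧ p ≠ q ∧
      IsSylowIn p (zpowers x) ⊤ ∧ IsSylowIn q Q ⊤ ∧ Q.Normal ∧ zpowers x ⊔ Q = ⊤ ∧
      x ∉ centralizer (Q : Set G) := by
  have := isSolvable_of_forall_ne_top_isNilpotent h
  have : Nontrivial G := by
    by_contra h1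
    rw [not_nontrivial_iff_subsingleton] at h1
    exact hG inferInstance
  obtain ⟨N, hN, hNn, -, hp⟩ := exists_coatom_normal_index_prime (G := G)
  generalize hpe : N.index = p at hp
  have := Fact.mk hp
  have hq : ∀ (q : ℕ) [Fact q.Prime], q ≠ p → ∃ Q : Subgroup G, IsSylowIn q Q ⊤ ∧ Q.Normal := by
    intro q hq hqp
    obtain ⟨Q, hQ⟩ := exists_isSylowIn q N
    refine ⟨Q, hQ.trans le_top ?_, normal_iff_top_le_normalizer.mpr (le_normalizer_of_normal.trans
      (hQ.normalizer_le (hQ.le_normalizer_of_isNilpotent (h N hN.1))))⟩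
    rw [relIndex_top_right, hpe]
    exact fun e => hqp ((Nat.prime_dvd_prime_iff_eq hq.out hp).mp e)
  obtain ⟨P, hP⟩ := exists_isSylowIn p (⊤ : Subgroup G)
  by_contra hcon
  apply hG
  refine isNilpotent_of_top (isNilpotent_of_forall_isSylowIn fun q hq' => ?_)
  by_cases e : q = p
  · subst e
    refine ⟨P, hP, le_of_forall_isSylowIn_le fun r hr => ?_⟩
    by_cases e : r = q
    · subst e; exact ⟨P, hP, le_normalizer⟩
    obtain ⟨Q, hQ, hQn⟩ := hq r e
    refine ⟨Q, hQ, le_trans (le_centralizer_iff.mpr fun x hx => ?_) (centralizer_le_normalizer _)⟩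
    by_contra hx'
    have hz : IsPGroup q (zpowers x) := hP.2.1.to_le (zpowers_le.mpr hx)
    have hc : (Nat.card (zpowers x)).Coprime (Nat.card Q) :=
      IsPGroup.coprime_card_of_ne q r (Ne.symm e) _ _ hz hQ.2.1
    have hsup : zpowers x ⊔ Q = ⊤ := by
      by_contra h1
      exact hx' (le_centralizer_of_isNilpotent_of_coprime (h _ h1) le_sup_left le_sup_right hc
        (mem_zpowers x))
    refine hcon ⟨q, r, x, Q, hp, hr.out, Ne.symm e, ⟨le_top, hz, fun d => ?_⟩, hQ, hQn, hsup, hx'⟩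
    have h2 := (isProd_sup_of_le_normalizer (H := zpowers x) (K := Q)
      le_normalizer_of_normal).relIndex_dvd
    rw [hsup] at h2
    exact hp.one_lt.ne' (Nat.eq_one_of_dvd_coprimes (IsPGroup_coprime_card hQ.2.1
      ((Nat.coprime_primes hp hr.out).mpr (Ne.symm e))) (d.trans h2) dvd_rfl)
  · obtain ⟨Q, hQ, hQn⟩ := hq q e
    exact ⟨Q, hQ, le_normalizer_of_normal⟩

theorem exists_normal_isSylowIn_of_forall_lt [Finite G] {K : Subgroup G} (hK : K ≠ ⊥)
    (h : ∀ H : Subgroup G, H < K → Group.IsNilpotent H) :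
    ∃ (q : ℕ) (Q : Subgroup G), q.Prime ∧ IsSylowIn q Q K ∧ Q ≠ ⊥ ∧ K ≤ normalizer (Q : Set G) := by
  by_cases hn : Group.IsNilpotent K
  · obtain ⟨q, hq, hd⟩ := exists_prime_dvd_card hK
    have := Fact.mk hq
    obtain ⟨Q, hQ⟩ := exists_isSylowIn q K
    exact ⟨q, Q, hq, hQ, hQ.ne_bot hd, hQ.le_normalizer_of_isNilpotent hn⟩
  obtain ⟨-, q, x, Q, -, hq, -, -, hQ, hQn, -, hx⟩ := minimal_nonnilpotent_structure hn fun H hH =>
    isNilpotent_of_map_subtype (h _ (map_subtype_lt hH))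
  have := Fact.mk hq
  obtain ⟨Q, rfl⟩ := hQ.exists_sylow_top
  refine ⟨q, _, hq, isSylowIn_map_subtype Q, fun e => hx ?_, le_normalizer_map_subtype_of_normal _⟩
  rw [map_eq_bot_iff_of_injective _ K.subtype_injective] at e
  rw [e]; simp [mem_centralizer_iff]

/-- Wielandt: a nilpotent Hall `π`-subgroup contains a conjugate of every `π`-subgroup. -/
theorem exists_le_conj_of_isNilpotent_of_isPiHallOf [Finite G] {π : Set ℕ} {H K L : Subgroup G}
    (hH : Group.IsNilpotent H) (hHL : IsPiHallOf π H L) (hK : K ≤ L)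
    (πK : IsPiNum π (Nat.card K)) : ∃ g ∈ L, K ≤ MulAut.conj g • H := by
  induction K using WellFoundedLT.induction generalizing π H L with
  | ind K ih =>
  by_cases hK1 : K = ⊥
  · exact ⟨1, L.one_mem, hK1 ▸ bot_le⟩
  obtain ⟨q, Q, hq, hQ, hQ1, hQn⟩ := exists_normal_isSylowIn_of_forall_lt hK1 fun M hM => by
    obtain ⟨g, -, hg⟩ := ih M hM hH hHL (hM.le.trans hK) (isPiNum_card_of_le πK hM.le)
    exact isNilpotent_of_le (isNilpotent_map hH _) hg
  have := Fact.mk hq
  have hqπ : q ∈ π := πK q hq ((dvd_card_of_isPGroup_of_ne_bot hQ.2.1 hQ1).trans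
    (card_dvd_of_le hQ.1))
  obtain ⟨C, hCK, hsup, hinf, hcard⟩ := exists_complement_in hQ.1 hQn
    (IsPGroup_coprime_card hQ.2.1 (hq.coprime_iff_not_dvd.mpr hQ.2.2).symm)
  obtain ⟨H₁, hH₁⟩ := exists_isSylowIn q H
  obtain ⟨g, hg, hQg⟩ := (hH₁.trans hHL.1 fun d =>
    (isPiHallOf_iff.mp hHL).2.2 q hq d hqπ).exists_le_conj (hQ.1.trans hK) hQ.2.1
  replace hQg := hQg.trans (pointwise_smul_le_pointwise_smul_iff.mpr hH₁.1)
  have hH' : Group.IsNilpotent ↥(MulAut.conj g • H) := isNilpotent_map hH _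
  have hHL' := isPiHallOf_iff.mp (isPiHallOf_conj_of_mem_normalizer hHL (le_normalizer hg))
  suffices ∃ y ∈ L, K ≤ MulAut.conj y • MulAut.conj g • H by
    obtain ⟨y, hy, h⟩ := this
    exact ⟨y * g, L.mul_mem hy hg, by rwa [← conj_smul_conj_smul]⟩
  generalize MulAut.conj g • H = H' at hQg hH' hHL'
  obtain ⟨H₂, hH₂⟩ := exists_isPiHallOf ({q} : Set ℕ)ᶜ (M := H') inferInstance
  have hH₂' := isPiHallOf_iff.mp hH₂
  have h1 : H₂ ≤ centralizer (Q : Set G) := le_centralizer_of_isNilpotent_of_coprime hH' hH₂.1 hQg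
    (IsPGroup_coprime_card hQ.2.1 ((isPiNum_compl_singleton_iff hq).mp hH₂'.2.1)).symm
  have h2 : IsPiHallOf (π ∩ {q}ᶜ) H₂ L := by
    refine isPiHallOf_iff.mpr ⟨hH₂.1.trans hHL'.1, fun r hr d =>
      ⟨hHL'.2.1 r hr (d.trans (card_dvd_of_le hH₂.1)), hH₂'.2.1 r hr d⟩, fun r hr d h => ?_⟩
    rw [← relIndex_mul_relIndex H₂ H' L hH₂.1 hHL'.1] at d
    rcases hr.dvd_mul.mp d with d | d
    · exact hH₂'.2.2 r hr d h.2
    · exact hHL'.2.2 r hr d h.1
  obtain ⟨y, hy, hCy⟩ := ih C (lt_of_le_of_ne hCK fun e => hQ1 (by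
      rw [← hinf, e, inf_eq_right.mpr hQ.1])) (isNilpotent_of_le hH' hH₂.1)
    (isPiHallOf_of_le h2 (le_inf h2.1 (h1.trans (centralizer_le_normalizer _))) inf_le_left)
    (le_inf (hCK.trans hK) (hCK.trans hQn))
    (fun r hr d => ⟨πK r hr (d.trans (card_dvd_of_le hCK)), fun e => hQ.2.2 (by
      rw [Set.mem_singleton_iff] at e; rwa [← hcard, ← e])⟩)
  refine ⟨y, hy.1, hsup ▸ sup_le (hCy.trans (pointwise_smul_le_pointwise_smul_iff.mpr hH₂.1)) ?_⟩
  rw [← conj_smul_eq_of_mem_normalizer hy.2]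
  exact pointwise_smul_le_pointwise_smul_iff.mpr hQg

theorem focalSubgroup_mono {H K : Subgroup G} (h : H ≤ K) : H.focalSubgroup ≤ K.focalSubgroup :=
  closure_mono fun _ ⟨h1, x, hx, u, e⟩ => ⟨h h1, x, h hx, u, e⟩

theorem map_focalSubgroup_le (H : Subgroup G) (f : G →* G') :
    H.focalSubgroup.map f ≤ (H.map f).focalSubgroup := by
  rw [focalSubgroup_def, MonoidHom.map_closure]
  refine closure_mono ?_
  rintro _ ⟨g, ⟨h1, x, hx, u, rfl⟩, rfl⟩
  exact ⟨mem_map_of_mem f h1, f x, mem_map_of_mem f hx, f u, map_commutatorElement f x u⟩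

theorem IsSylowIn.inf_commutator_le_focal [Finite G] {p : ℕ} [Fact p.Prime] {P N : Subgroup G}
    (hP : IsSylowIn p P N) : P ⊓ ⁅N, N⁆ ≤ P.focalSubgroup := by
  obtain ⟨Q, rfl⟩ := hP.exists_sylow
  rw [← map_subtype_commutator, ← map_inf _ _ _ N.subtype_injective, inf_comm,
    commutator_inf_eq_focalSubgroup]
  exact map_focalSubgroup_le _ _

theorem exists_normal_complement_of_focal [Finite G] {H : Subgroup G}
    (hc : (Nat.card H).Coprime H.index)
    (h : ∀ (p : ℕ) [Fact p.Prime] (P : Subgroup G), P ≤ H → IsPGroup p P → P ≤ P.focalSubgroup →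
      P = ⊥) : ∃ N : Subgroup G, N.Normal ∧ IsComplement' N H := by
  have hH := isPiHall_of_coprime hc
  obtain ⟨N, -, ⟨hN, hi⟩, hm⟩ := exists_minimal_le
    (P := fun N : Subgroup G => N.Normal ∧ IsPiNum {p | p ∣ Nat.card H} N.index) (H := ⊤)
    ⟨inferInstance, by rw [index_top]; exact isPiNum_one _⟩
  refine ⟨N, hN, isComplement'_of_coprime_of_sup (Nat.coprime_of_dvd fun p hp d1 d2 => ?_)
    (isProd_top_of_coprime (hi.coprime (isPiHall_iff.mp hH).2)).sup_eq⟩
  have := Fact.mk hp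
  obtain ⟨P, hP⟩ := exists_isSylowIn p (H ⊓ N)
  have h1 := isPiHallOf_iff.mp (isPiHallOf_inf_of_normalizer (isPiHallOf_top.mpr hH) (N := N)
    le_top le_normalizer_of_normal)
  have hP' : IsSylowIn p P N := hP.trans inf_le_right fun d => h1.2.2 p hp d d2
  have h2 : PLoc.pResOf p N = N := by
    refine hm _ ⟨inferInstance, ?_⟩ (PLoc.pResOf_le N)
    obtain ⟨k, hk⟩ := PLoc.relIndex_pResOf (p := p) N
    rw [← relIndex_mul_index (PLoc.pResOf_le N), hk]
    exact ((isPiNum_prime (π := {p | p ∣ Nat.card H}) hp d2).pow k).mul hi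
  refine hP'.ne_bot d1 (h p P (hP.1.trans inf_le_left) hP.2.1
    (le_trans (le_inf le_rfl ?_) hP'.inf_commutator_le_focal))
  exact (le_inf le_rfl (h2.symm ▸ hP'.1)).trans (PLoc.inf_pResOf_le_commutator hP.2.1)

/-- A nilpotent Hall subgroup controlling fusion of its prime power order elements has a normal
complement. -/
theorem exists_normal_complement_of_fusion [Finite G] {H : Subgroup G} (hn : Group.IsNilpotent H)
    (hc : (Nat.card H).Coprime H.index)
    (h : ∀ (p : ℕ) [Fact p.Prime] (x : G), x ∈ H → IsPGroup p (zpowers x) → ∀ g : G,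
      g * x * g⁻¹ ∈ H → ∃ k ∈ H, k * x * k⁻¹ = g * x * g⁻¹) :
    ∃ N : Subgroup G, N.Normal ∧ IsComplement' N H := by
  refine exists_normal_complement_of_focal hc fun p _ P hPH hP hf => ?_
  by_contra hne
  refine not_le_commutator_of_isNilpotent hn hPH le_rfl hne (hf.trans ?_)
  rw [focalSubgroup_def, closure_le]
  rintro _ ⟨h1, x, hx, u, rfl⟩
  obtain ⟨k, hk, e⟩ := h p x⁻¹ (H.inv_mem (hPH hx)) (hP.to_le (zpowers_le.mpr (P.inv_mem hx))) u
    (by simpa [commutatorElement_def, mul_assoc] using H.mul_mem (H.inv_mem (hPH hx)) (hPH h1))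
  have : ⁅x, u⁆ = ⁅x, k⁆ := by
    rw [commutatorElement_def, commutatorElement_def, mul_assoc, mul_assoc, ← mul_assoc u, ← e]
    group
  rw [this]
  exact commutator_mem_commutator hx hk

/-- Wielandt's normal complement theorem (a non-primary subgroup which is the normalizer of each
of its Sylow subgroups). -/
theorem exists_normal_complement_of_normalizer_eq [Finite G] {H : Subgroup G}
    (hnot : ∀ (p : ℕ) [Fact p.Prime], ¬ IsPGroup p H)
    (h : ∀ (p : ℕ) [Fact p.Prime] (P : Subgroup G), IsSylowIn p P H → P ≠ ⊥ →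
      normalizer (P : Set G) = H) : ∃ N : Subgroup G, N.Normal ∧ IsComplement' N H := by
  have hsyl : ∀ (p : ℕ) [Fact p.Prime] (P : Subgroup G), IsSylowIn p P H → P ≠ ⊥ →
      IsSylowIn p P ⊤ := fun p _ P hP h1 =>
    isSylowIn_of_isSylowIn_normalizer (by rwa [top_inf_eq, h p P hP h1])
  have hn : Group.IsNilpotent H := isNilpotent_of_forall_isSylowIn fun p _ => by
    obtain ⟨P, hP⟩ := exists_isSylowIn p H
    refine ⟨P, hP, ?_⟩
    by_cases h1 : P = ⊥
    · subst h1; exact le_normalizer_of_normal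
    · exact (h p P hP h1).ge
  refine exists_normal_complement_of_fusion hn (Nat.coprime_of_dvd fun p hp d1 d2 => ?_)
    fun p hp x hx hxp g hg => ?_
  · have := Fact.mk hp
    obtain ⟨P, hP⟩ := exists_isSylowIn p H
    exact (hsyl p P hP (hP.ne_bot d1)).2.2
      (by rw [relIndex_top_right]; exact d2.trans (index_dvd_of_le hP.1))
  obtain ⟨r, hr, dr, hrp⟩ : ∃ r, r.Prime ∧ r ∣ Nat.card H ∧ r ∉ ({p} : Set ℕ) := by
    by_contra h'; push Not at h'
    exact hnot p (isPiNum_singleton_card_iff.mp h')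
  have := Fact.mk hr
  obtain ⟨R, hR⟩ := exists_isSylowIn r H
  have hR' := hsyl r R hR (hR.ne_bot dr)
  have hcent : ∀ y ∈ H, IsPGroup p (zpowers y) → R ≤ centralizer {y} := fun y hy hyp => by
    rw [← centralizer_zpowers]
    exact le_centralizer_of_isNilpotent_of_coprime hn hR.1 (zpowers_le.mpr hy)
      (IsPGroup.coprime_card_of_ne r p hrp _ _ hR.2.1 hyp)
  have h1 : R ≤ centralizer {g * x * g⁻¹} := hcent _ hg (by
    have := isPGroup_smul hxp (MulAut.conj g)
    rwa [conj_smul_eq_map, MonoidHom.map_zpowers] at this)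
  have h2 : MulAut.conj g • R ≤ centralizer {g * x * g⁻¹} := by
    refine conj_smul_le_iff.mpr fun y hy => ?_
    have := mem_centralizer_singleton_iff.mp (hcent x hx hxp hy)
    rw [mem_centralizer_singleton_iff]
    calc g * y * g⁻¹ * (g * x * g⁻¹) = g * (y * x) * g⁻¹ := by group
      _ = _ := by rw [this]; group
  obtain ⟨c, hc, e⟩ := ((hR'.conj_of_mem_normalizer (le_normalizer (mem_top g))).of_le h2
    le_top).exists_conj (hR'.of_le h1 le_top)
  rw [conj_smul_conj_smul, conj_smul_eq_iff, h r R hR (hR.ne_bot dr)] at e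
  refine ⟨c * g, e, ?_⟩
  have := mem_centralizer_singleton_iff.mp hc
  calc c * g * x * (c * g)⁻¹ = c * (g * x * g⁻¹) * c⁻¹ := by group
    _ = _ := by rw [this]; group

end Cfsg.Agent.Core
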