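import Cfsg.Agent.Core.Primitive
import Cfsg.Prelude.Def_SolvableStructure
import Mathlib.GroupTheory.IndexNormal
import Mathlib.LinearAlgebra.Eigenspace.Minpoly
import Mathlib.FieldTheory.Finite.GaloisField
import Mathlib.Algebra.Module.ZMod

/-! Supersolvable groups. -/

set_option autoImplicit false

namespace Cfsg.Agent.Core

open Subgroup
open scoped Pointwise commutatorElement

universe u v

variable {G : Type u} [Group G] {G' : Type v} [Group G']

/-- A normal subgroup reached from `⊥` by a chain of normal subgroups with cyclic steps. -/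
inductive SSUp : Subgroup G → Prop
  | bot : SSUp ⊥
  | step (N : Subgroup G) (g : G) : SSUp N → (N ⊔ zpowers g).Normal → SSUp (N ⊔ zpowers g)

theorem SSUp.normal {N : Subgroup G} (h : SSUp N) : N.Normal := by
  cases h with
  | bot => infer_instance
  | step _ _ _ h => exact h

theorem SSUp.exists_chain {N : Subgroup G} (h : SSUp N) :
    ∃ (n : ℕ) (H : Fin (n + 1) → Subgroup G),
      H 0 = ⊥ ∧ H (Fin.last n) = N ∧ (∀ i, (H i).Normal) ∧
        ∀ i : Fin n, ∃ g : G, H i.succ = H i.castSucc ⊔ zpowers g := by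
  induction h with
  | bot => exact ⟨0, fun _ => ⊥, rfl, rfl, fun _ => inferInstance, fun i => i.elim0⟩
  | step N g _ hn ih =>
    obtain ⟨n, H, h0, hl, hN, hs⟩ := ih
    refine ⟨n + 1, Fin.snoc H (N ⊔ zpowers g), ?_, by simp, ?_, ?_⟩
    · rw [← h0, ← Fin.castSucc_zero, Fin.snoc_castSucc]
    · intro i
      refine Fin.lastCases ?_ (fun j => ?_) i
      · simpa using hn
      · simpa using hN j
    · intro i
      refine Fin.lastCases ?_ (fun j => ?_) i
      · exact ⟨g, by simp [hl]⟩
      · obtain ⟨x, hx⟩ := hs j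
        exact ⟨x, by rw [Fin.succ_castSucc, Fin.snoc_castSucc, Fin.snoc_castSucc, hx]⟩

theorem isSupersolvable_iff : IsSupersolvable G ↔ SSUp (⊤ : Subgroup G) := by
  refine ⟨?_, fun h => h.exists_chain⟩
  rintro ⟨n, H, h0, hl, hN, hs⟩
  have : ∀ i, SSUp (H i) := by
    intro i
    induction i using Fin.induction with
    | zero => rw [h0]; exact SSUp.bot
    | succ i ih =>
      obtain ⟨g, hg⟩ := hs i
      have := hN i.succ
      rw [hg] at this ⊢
      exact SSUp.step _ _ ih this
  exact hl ▸ this _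

theorem exists_inf_eq_sup_zpowers (K L : Subgroup G) [K.Normal] (g : G) :
    ∃ h : G, (K ⊔ zpowers g) ⊓ L = (K ⊓ L) ⊔ zpowers h := by
  set A := (K ⊔ zpowers g) ⊓ L with hA
  have hle : A.map (QuotientGroup.mk' K) ≤ zpowers (QuotientGroup.mk' K g) := by
    rw [← MonoidHom.map_zpowers, map_mk'_le_map_mk'_iff, sup_comm]
    exact inf_le_left
  have hc : IsCyclic (A.map (QuotientGroup.mk' K)) := Subgroup.isCyclic_of_le hle
  obtain ⟨⟨y, hy⟩, hgen⟩ := hc.exists_generator
  obtain ⟨h, hh, rfl⟩ := hy
  refine ⟨h, le_antisymm (fun a ha => ?_) (sup_le (inf_le_inf_right _ le_sup_left)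
    (zpowers_le.mpr hh))⟩
  obtain ⟨k, hk⟩ := mem_zpowers_iff.mp (hgen ⟨QuotientGroup.mk' K a, mem_map_of_mem _ ha⟩)
  have hk' : QuotientGroup.mk' K (h ^ k) = QuotientGroup.mk' K a := by
    rw [map_zpow]; exact congrArg Subtype.val hk
  rw [QuotientGroup.mk'_apply, QuotientGroup.mk'_apply, QuotientGroup.eq] at hk'
  have : a = h ^ k * ((h ^ k)⁻¹ * a) := by simp
  rw [this]
  exact mul_mem (mem_sup_right (zpow_mem_zpowers _ k))
    (mem_sup_left (mem_inf.mpr ⟨hk', L.mul_mem (L.inv_mem (L.zpow_mem hh.2 k)) ha.2⟩))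

theorem SSUp.map {N : Subgroup G} (h : SSUp N) (f : G →* G')
    (hf : ∀ K : Subgroup G, K.Normal → (K.map f).Normal) : SSUp (N.map f) := by
  induction h with
  | bot => rw [Subgroup.map_bot]; exact SSUp.bot
  | step N g _ hn ih =>
    have := hf _ hn
    rw [Subgroup.map_sup, MonoidHom.map_zpowers] at this ⊢
    exact SSUp.step _ _ ih this

theorem SSUp.map_of_surjective {N : Subgroup G} (h : SSUp N) {f : G →* G'}
    (hf : Function.Surjective f) : SSUp (N.map f) := h.map f fun _ hK => hK.map f hf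

theorem SSUp.inf {N : Subgroup G} (h : SSUp N) (L : Subgroup G) [L.Normal] : SSUp (N ⊓ L) := by
  induction h with
  | bot => rw [bot_inf_eq]; exact SSUp.bot
  | step N g hN hn ih =>
    have := hN.normal
    obtain ⟨x, hx⟩ := exists_inf_eq_sup_zpowers N L g
    have h2 : ((N ⊔ zpowers g) ⊓ L).Normal := inferInstance
    rw [hx] at h2 ⊢
    exact SSUp.step _ _ ih h2

theorem SSUp.of_le {N : Subgroup G} (h : SSUp N) {L : Subgroup G} [L.Normal] (hL : L ≤ N) :
    SSUp L := by
  have := h.inf L
  rwa [inf_eq_right.mpr hL] at this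

theorem SSUp.subgroupOf {N : Subgroup G} (h : SSUp N) (L : Subgroup G) :
    SSUp (N.subgroupOf L) := by
  induction h with
  | bot => rw [bot_subgroupOf]; exact SSUp.bot
  | step N g hN hn ih =>
    have := hN.normal
    obtain ⟨x, hx⟩ := exists_inf_eq_sup_zpowers N L g
    have hxL : x ∈ L := (hx ▸ mem_sup_right (mem_zpowers x) : x ∈ (N ⊔ zpowers g) ⊓ L).2
    have h2 : ((N ⊔ zpowers g).subgroupOf L).Normal := inferInstance
    have e : (N ⊔ zpowers g).subgroupOf L = N.subgroupOf L ⊔ zpowers (⟨x, hxL⟩ : L) := by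
      apply map_injective L.subtype_injective
      rw [Subgroup.map_sup, subgroupOf_map_subtype, subgroupOf_map_subtype, hx,
        MonoidHom.map_zpowers]
      rfl
    rw [e] at h2 ⊢
    exact SSUp.step _ _ ih h2

theorem SSUp.sup {A B : Subgroup G} (hA : SSUp A) (hB : SSUp B) : SSUp (A ⊔ B) := by
  induction hB with
  | bot => rw [sup_bot_eq]; exact hA
  | step N g _ hn ih =>
    have := hA.normal
    have h2 : (A ⊔ (N ⊔ zpowers g)).Normal := inferInstance
    rw [← sup_assoc] at h2 ⊢
    exact SSUp.step _ _ ih h2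

theorem SSUp.comap_mk' {N : Subgroup G} [N.Normal] (hN : SSUp N) {K : Subgroup (G ⧸ N)}
    (h : SSUp K) : SSUp (K.comap (QuotientGroup.mk' N)) := by
  induction h with
  | bot => rw [MonoidHom.comap_bot, QuotientGroup.ker_mk']; exact hN
  | step K g _ hn ih =>
    obtain ⟨g, rfl⟩ := QuotientGroup.mk'_surjective N g
    have h2 : ((K ⊔ zpowers (QuotientGroup.mk' N g)).comap (QuotientGroup.mk' N)).Normal :=
      inferInstance
    have e : (K ⊔ zpowers (QuotientGroup.mk' N g)).comap (QuotientGroup.mk' N) =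
        K.comap (QuotientGroup.mk' N) ⊔ zpowers g := by
      conv_lhs => rw [← map_comap_mk' N K, ← MonoidHom.map_zpowers, ← Subgroup.map_sup,
        comap_map_mk'']
      exact sup_eq_left.mpr ((le_comap_mk' N K).trans le_sup_left)
    rw [e] at h2 ⊢
    exact SSUp.step _ _ ih h2

theorem ssUp_of_isCyclic (N : Subgroup G) [hN : N.Normal] [IsCyclic N] : SSUp N := by
  obtain ⟨g, rfl⟩ := (Subgroup.isCyclic_iff_exists_zpowers_eq_top N).mp inferInstance
  have := SSUp.step ⊥ g SSUp.bot (by rwa [bot_sup_eq])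
  rwa [bot_sup_eq] at this

theorem SSUp.exists_zpowers_normal {N : Subgroup G} (h : SSUp N) (hne : N ≠ ⊥) :
    ∃ x ∈ N, x ≠ 1 ∧ (zpowers x).Normal := by
  induction h with
  | bot => exact absurd rfl hne
  | step N g _ hn ih =>
    by_cases h1 : N = ⊥
    · subst h1
      rw [bot_sup_eq] at hn hne ⊢
      exact ⟨g, mem_zpowers g, fun e => hne (by simp [e]), hn⟩
    · obtain ⟨x, hx, h2⟩ := ih h1
      exact ⟨x, mem_sup_left hx, h2⟩

theorem SSUp.exists_prime_normal [Finite G] {N : Subgroup G} (h : SSUp N) (hne : N ≠ ⊥) :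
    ∃ M : Subgroup G, M ≤ N ∧ M.Normal ∧ (Nat.card M).Prime := by
  obtain ⟨x, hx, h1, hn⟩ := h.exists_zpowers_normal hne
  obtain ⟨y, hy, hp⟩ := exists_pow_prime_orderOf h1
  refine ⟨zpowers y, (zpowers_le.mpr hy).trans (zpowers_le.mpr hx), ?_, by rwa [Nat.card_zpowers]⟩
  rw [normal_iff_top_le_normalizer] at hn ⊢
  exact hn.trans (normalizer_le_normalizer_of_isCyclic inferInstance (zpowers_le.mpr hy))

theorem isSupersolvable_of_surjective {f : G →* G'} (hf : Function.Surjective f)
    (h : IsSupersolvable G) : IsSupersolvable G' := by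
  rw [isSupersolvable_iff] at h ⊢
  have := h.map_of_surjective hf
  rwa [map_top_of_surjective _ hf] at this

theorem isSupersolvable_quotient (h : IsSupersolvable G) (N : Subgroup G) [N.Normal] :
    IsSupersolvable (G ⧸ N) := isSupersolvable_of_surjective (QuotientGroup.mk'_surjective N) h

theorem isSupersolvable_of_mulEquiv (e : G ≃* G') (h : IsSupersolvable G) : IsSupersolvable G' :=
  isSupersolvable_of_surjective (f := (e : G →* G')) e.surjective h

theorem isSupersolvable_subgroup (h : IsSupersolvable G) (H : Subgroup G) :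
    IsSupersolvable H := by
  rw [isSupersolvable_iff] at h ⊢
  have := h.subgroupOf H
  rwa [top_subgroupOf] at this

theorem isSupersolvable_of_injective {f : G →* G'} (hf : Function.Injective f)
    (h : IsSupersolvable G') : IsSupersolvable G :=
  isSupersolvable_of_mulEquiv (MonoidHom.ofInjective hf).symm (isSupersolvable_subgroup h _)

theorem isSupersolvable_of_le {H K : Subgroup G} (h : IsSupersolvable K) (hle : H ≤ K) :
    IsSupersolvable H := isSupersolvable_of_injective (inclusion_injective hle) h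

theorem isSupersolvable_map {H : Subgroup G} (h : IsSupersolvable H) (f : G →* G') :
    IsSupersolvable (H.map f) := isSupersolvable_of_surjective (f.subgroupMap_surjective H) h

theorem isSupersolvable_subgroupOf {H : Subgroup G} (h : IsSupersolvable H) (L : Subgroup G) :
    IsSupersolvable (H.subgroupOf L) :=
  isSupersolvable_of_mulEquiv (subgroupOfEquivOfLe (inf_le_right : H ⊓ L ≤ L)).symm
    (isSupersolvable_of_le h inf_le_left) |> fun h' => by rwa [inf_subgroupOf_right] at h'

theorem isSupersolvable_of_top (h : IsSupersolvable (⊤ : Subgroup G)) : IsSupersolvable G :=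
  isSupersolvable_of_mulEquiv topEquiv h

theorem isSupersolvable_of_ssUp_of_quotient {N : Subgroup G} [N.Normal] (hN : SSUp N)
    (h : IsSupersolvable (G ⧸ N)) : IsSupersolvable G := by
  rw [isSupersolvable_iff] at h ⊢
  have := hN.comap_mk' h
  rwa [comap_top] at this

theorem isSupersolvable_of_isCyclic_of_quotient (N : Subgroup G) [N.Normal] [IsCyclic N]
    (h : IsSupersolvable (G ⧸ N)) : IsSupersolvable G :=
  isSupersolvable_of_ssUp_of_quotient (ssUp_of_isCyclic N) h

theorem isSupersolvable_of_isCyclic [IsCyclic G] : IsSupersolvable G :=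
  isSupersolvable_iff.mpr (ssUp_of_isCyclic ⊤)

theorem isSupersolvable_of_subsingleton [Subsingleton G] : IsSupersolvable G :=
  isSupersolvable_of_isCyclic

theorem map_inl_eq (K : Subgroup G) : K.map (MonoidHom.inl G G') = K.prod ⊥ :=
  toSubmonoid_injective (Submonoid.map_inl K.toSubmonoid)

theorem map_inr_eq (K : Subgroup G') : K.map (MonoidHom.inr G G') = (⊥ : Subgroup G).prod K :=
  toSubmonoid_injective (Submonoid.map_inr K.toSubmonoid)

theorem prod_bot_sup_bot_prod' (H : Subgroup G) (K : Subgroup G') :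
    H.prod (⊥ : Subgroup G') ⊔ (⊥ : Subgroup G).prod K = H.prod K := by
  refine le_antisymm (sup_le (prod_mono le_rfl bot_le) (prod_mono bot_le le_rfl)) ?_
  rintro ⟨a, b⟩ ⟨ha, hb⟩
  have : (a, b) = (a, 1) * (1, b) := by simp
  rw [this]
  exact mul_mem (mem_sup_left ⟨ha, rfl⟩) (mem_sup_right ⟨rfl, hb⟩)

theorem map_commutator_of_surjective {f : G →* G'} (hf : Function.Surjective f) :
    (_root_.commutator G).map f = _root_.commutator G' := by
  rw [map_commutator_eq, f.range_eq_top.mpr hf, _root_.commutator]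

theorem isSupersolvable_prod (h : IsSupersolvable G) (h' : IsSupersolvable G') :
    IsSupersolvable (G × G') := by
  rw [isSupersolvable_iff] at h h' ⊢
  have h1 := h.map (MonoidHom.inl G G') fun K hK => by
    rw [map_inl_eq]; infer_instance
  have h2 := h'.map (MonoidHom.inr G G') fun K hK => by
    rw [map_inr_eq]; infer_instance
  have := h1.sup h2
  rwa [map_inl_eq, map_inr_eq, prod_bot_sup_bot_prod', top_prod_top] at this

theorem isSupersolvable_of_inf_eq_bot {M N : Subgroup G} [M.Normal] [N.Normal] (h : M ⊓ N = ⊥)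
    (hM : IsSupersolvable (G ⧸ M)) (hN : IsSupersolvable (G ⧸ N)) : IsSupersolvable G := by
  refine isSupersolvable_of_injective
    (f := (QuotientGroup.mk' M).prod (QuotientGroup.mk' N)) ?_ (isSupersolvable_prod hM hN)
  rw [← MonoidHom.ker_eq_bot_iff, MonoidHom.ker_prod, QuotientGroup.ker_mk', QuotientGroup.ker_mk',
    h]

theorem isSupersolvable_quotient_of_sup_eq_top {H N : Subgroup G} [N.Normal] (h : H ⊔ N = ⊤)
    (hH : IsSupersolvable H) : IsSupersolvable (G ⧸ N) := by
  have := isSupersolvable_map hH (QuotientGroup.mk' N)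
  rw [map_mk'_eq_top_iff.mpr h] at this
  exact isSupersolvable_of_top this

theorem ssUp_of_isSupersolvable (h : IsSupersolvable G) (N : Subgroup G) [N.Normal] : SSUp N :=
  (isSupersolvable_iff.mp h).of_le le_top

theorem exists_prime_normal_le [Finite G] (h : IsSupersolvable G) {N : Subgroup G} [N.Normal]
    (hne : N ≠ ⊥) : ∃ M : Subgroup G, M ≤ N ∧ M.Normal ∧ (Nat.card M).Prime :=
  (ssUp_of_isSupersolvable h N).exists_prime_normal hne

theorem exists_prime_normal [Finite G] [Nontrivial G] (h : IsSupersolvable G) :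
    ∃ M : Subgroup G, M.Normal ∧ (Nat.card M).Prime := by
  obtain ⟨M, -, h1⟩ := exists_prime_normal_le h (N := ⊤) top_ne_bot
  exact ⟨M, h1⟩

theorem IsMinNormal.card_prime_of_isSupersolvable [Finite G] (h : IsSupersolvable G)
    {N : Subgroup G} (hN : IsMinNormal N) : (Nat.card N).Prime := by
  have := hN.1
  obtain ⟨M, h1, h2, h3⟩ := exists_prime_normal_le h hN.2.1
  rwa [← hN.eq_of_le h1 (fun e => by simp [e, Nat.not_prime_one] at h3)]

theorem ne_bot_of_card_prime {M : Subgroup G} (h : (Nat.card M).Prime) : M ≠ ⊥ :=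
  fun e => by simp [e, Nat.not_prime_one] at h

theorem isCyclic_of_card_prime {M : Subgroup G} (h : (Nat.card M).Prime) : IsCyclic M :=
  have := Fact.mk h
  isCyclic_of_prime_card rfl

/-- Relative form: a subgroup normalized by a supersolvable subgroup containing it. -/
theorem exists_zpowers_le_normalizer {H N : Subgroup G} (h : IsSupersolvable H) (hNH : N ≤ H)
    (hn : H ≤ normalizer (N : Set G)) (hne : N ≠ ⊥) :
    ∃ x ∈ N, x ≠ 1 ∧ H ≤ normalizer ((zpowers x : Subgroup G) : Set G) := by
  have := (normal_subgroupOf_iff_le_normalizer hNH).mpr hn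
  obtain ⟨x, hx, h1, h2⟩ := (ssUp_of_isSupersolvable h (N.subgroupOf H)).exists_zpowers_normal
    (by rwa [Ne, subgroupOf_eq_bot_iff_of_le hNH])
  refine ⟨x, hx, fun e => h1 (Subtype.ext e), ?_⟩
  have := le_normalizer_map_subtype_of_normal (zpowers x)
  rwa [MonoidHom.map_zpowers] at this

theorem isSolvable_of_isSupersolvable [Finite G] (h : IsSupersolvable G) : Group.IsSolvable G := by
  induction G, ‹Group G›, ‹Finite G› using card_induction' with | _ G ih => ?_
  rcases subsingleton_or_nontrivial G with hG | hG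
  · infer_instance
  obtain ⟨M, h1, h2⟩ := exists_prime_normal h
  have := isCyclic_of_card_prime h2
  exact isSolvable_of_normal_of_quotient M (isSolvable_of_comm' inferInstance)
    (ih _ (card_quotient_lt (ne_bot_of_card_prime h2)) (isSupersolvable_quotient h M))

theorem isNilpotent_commutator_of_isSupersolvable [Finite G] (h : IsSupersolvable G) :
    Group.IsNilpotent (_root_.commutator G) := by
  induction G, ‹Group G›, ‹Finite G› using card_induction' with | _ G ih => ?_
  rcases subsingleton_or_nontrivial G with hG | hG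
  · infer_instance
  obtain ⟨M, h1, h2⟩ := exists_prime_normal h
  have := isCyclic_of_card_prime h2
  have h3 := ih _ (card_quotient_lt (ne_bot_of_card_prime h2)) (isSupersolvable_quotient h M)
  rw [← map_commutator_of_surjective (QuotientGroup.mk'_surjective M)] at h3
  refine Subgroup.isNilpotent_of_ker_le_center
    ((QuotientGroup.mk' M).subgroupMap (_root_.commutator G)) ?_
  intro x hx
  have hx' : (x : G) ∈ M := by
    have := congrArg Subtype.val (MonoidHom.mem_ker.mp hx)
    exact (QuotientGroup.eq_one_iff _).mp this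
  rw [mem_center_iff]
  intro y
  exact Subtype.ext (commutator_le_centralizer_of_isCyclic M y.2 x hx').symm

theorem index_prime_of_isSupersolvable [Finite G] (h : IsSupersolvable G) {M : Subgroup G}
    (hM : IsCoatom M) : M.index.Prime := by
  induction G, ‹Group G›, ‹Finite G› using card_induction' with | _ G ih => ?_
  rcases subsingleton_or_nontrivial G with hG | hG
  · exact absurd (Subsingleton.elim _ _) hM.1
  obtain ⟨N, h1, h2⟩ := exists_prime_normal h
  by_cases hNM : N ≤ M
  · have := ih _ (card_quotient_lt (ne_bot_of_card_prime h2)) (isSupersolvable_quotient h N)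
      (isCoatom_map_mk' hM hNM)
    rwa [index_map_mk', sup_eq_left.mpr hNM] at this
  · have h3 : N ⊓ M = ⊥ :=
      (eq_bot_or_eq_of_card_prime h2 rfl inf_le_left).resolve_right fun e => hNM (inf_eq_left.mp e)
    have h4 := isComplement'_of_normal h3 (by rw [sup_comm]; exact sup_eq_top_of_isCoatom hM hNM)
    rwa [h4.index_eq_card]

theorem IsSylowIn.relIndex_normalizer_modEq [Finite G] {p : ℕ} [Fact p.Prime] {P K : Subgroup G}
    (hP : IsSylowIn p P K) : (normalizer (P : Set G)).relIndex K ≡ 1 [MOD p] := by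
  obtain ⟨Q, hQ⟩ := hP.exists_sylow'
  have h1 := card_sylow_modEq_one p K
  rw [Q.card_eq_index_normalizer] at h1
  rwa [relIndex, subgroupOf_normalizer_eq hP.1, ← hQ]

theorem IsSylowIn.le_normalizer_of_relIndex_le [Finite G] {p : ℕ} [hp : Fact p.Prime]
    {P K : Subgroup G} (hP : IsSylowIn p P K) (h : P.relIndex K ≤ p) :
    K ≤ normalizer (P : Set G) := by
  have h1 := hP.relIndex_normalizer_modEq
  have h2 : (normalizer (P : Set G)).relIndex K ≤ p :=
    (Nat.le_of_dvd (relIndex_pos _ _) (relIndex_dvd_of_le_left K le_normalizer)).trans h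
  have h3 := relIndex_pos (normalizer (P : Set G)) K
  rw [← relIndex_eq_one]
  rcases h2.lt_or_eq with h2 | h2
  · exact Nat.ModEq.eq_of_lt_of_lt h1 h2 hp.out.one_lt
  · rw [h2] at h1
    exact absurd ((Nat.modEq_iff_dvd' hp.out.one_le).mp h1.symm)
      (Nat.not_dvd_of_pos_of_lt (by have := hp.out.two_le; omega) (by omega))

theorem IsSylowIn.normal_of_le_normalizer [Finite G] {p : ℕ} [Fact p.Prime] {P K : Subgroup G}
    [K.Normal] (hP : IsSylowIn p P K) (hn : K ≤ normalizer (P : Set G)) : P.Normal := by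
  rw [normal_iff_top_le_normalizer]
  refine le_trans ?_ (hP.normalizer_le hn)
  rw [normalizer_eq_top]

theorem exists_normal_card_eq_of_isSupersolvable [Finite G] (h : IsSupersolvable G) {p : ℕ}
    (hp : p.Prime) (hd : p ∣ Nat.card G) (hmax : ∀ q : ℕ, q.Prime → q ∣ Nat.card G → q ≤ p) :
    ∃ N : Subgroup G, N.Normal ∧ Nat.card N = p := by
  induction G, ‹Group G›, ‹Finite G› using card_induction' with | _ G ih => ?_
  rcases subsingleton_or_nontrivial G with hG | hG
  · rw [Nat.card_unique] at hd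
    exact absurd (Nat.dvd_one.mp hd) hp.ne_one
  obtain ⟨N, h1, h2⟩ := exists_prime_normal h
  by_cases hNp : Nat.card N = p
  · exact ⟨N, h1, hNp⟩
  have := Fact.mk hp
  have hc := card_eq_card_quotient_mul_card_subgroup N
  have hd' : p ∣ Nat.card (G ⧸ N) :=
    ((hp.dvd_mul.mp (hc ▸ hd)).resolve_right fun e =>
      hNp ((Nat.prime_dvd_prime_iff_eq hp h2).mp e).symm)
  obtain ⟨M, hM1, hM2⟩ := ih _ (card_quotient_lt (ne_bot_of_card_prime h2))
    (isSupersolvable_quotient h N) hd' fun q hq hqd => hmax q hq (hc ▸ hqd.mul_right _)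
  set L := M.comap (QuotientGroup.mk' N)
  have hL : Nat.card L = p * Nat.card N := by rw [card_comap_mk', hM2]
  obtain ⟨P, hP⟩ := exists_isSylowIn p L
  have hcP := card_mul_relIndex hP.1
  have hPp : Nat.card P = p := by
    obtain ⟨k, hk⟩ := hP.2.1.exists_card_eq
    have h3 : p ^ k ∣ p * Nat.card N := hL ▸ hk ▸ card_dvd_of_le hP.1
    have h4 : (p ^ k).Coprime (Nat.card N) :=
      ((Nat.coprime_primes hp h2).mpr fun e => hNp e.symm).pow_left k
    have h5 := h4.dvd_of_dvd_mul_right h3
    rcases (Nat.dvd_prime hp).mp h5 with h6 | h6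
    · exact absurd (card_eq_one.mp (hk.trans h6)) (hP.ne_bot (hL ▸ dvd_mul_right _ _))
    · exact hk.trans h6
  have hi : P.relIndex L = Nat.card N := by
    rw [hPp, hL] at hcP
    exact Nat.eq_of_mul_eq_mul_left hp.pos hcP
  exact ⟨P, hP.normal_of_le_normalizer (hP.le_normalizer_of_relIndex_le
    (hi ▸ hmax _ h2 (card_subgroup_dvd_card N))), hPp⟩

theorem exists_max_prime_dvd {n : ℕ} (h0 : n ≠ 0) (h1 : n ≠ 1) :
    ∃ p : ℕ, p.Prime ∧ p ∣ n ∧ ∀ q : ℕ, q.Prime → q ∣ n → q ≤ p := by
  have hne : n.primeFactors.Nonempty := Nat.nonempty_primeFactors.mpr (by omega)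
  have := n.primeFactors.max'_mem hne
  rw [Nat.mem_primeFactors] at this
  exact ⟨_, this.1, this.2.1, fun q hq hd =>
    n.primeFactors.le_max' q (Nat.mem_primeFactors.mpr ⟨hq, hd, h0⟩)⟩

omit [Group G] in
theorem exists_max_prime_dvd_card [Finite G] [Nontrivial G] :
    ∃ p : ℕ, p.Prime ∧ p ∣ Nat.card G ∧ ∀ q : ℕ, q.Prime → q ∣ Nat.card G → q ≤ p :=
  exists_max_prime_dvd Nat.card_pos.ne' Finite.one_lt_card.ne'

theorem exists_chain_decreasing [Finite G] (hG : IsSupersolvable G) :
    ∃ (n : ℕ) (H : Fin (n + 1) → Subgroup G), H 0 = ⊥ ∧ H (Fin.last n) = ⊤ ∧ (∀ i, (H i).Normal) ∧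
      (∀ i : Fin n, H i.castSucc ≤ H i.succ ∧ ((H i.castSucc).relIndex (H i.succ)).Prime) ∧
      ∀ i j : Fin n, i ≤ j →
        (H j.castSucc).relIndex (H j.succ) ≤ (H i.castSucc).relIndex (H i.succ) := by
  induction G, ‹Group G›, ‹Finite G› using card_induction' with | _ G ih => ?_
  rcases subsingleton_or_nontrivial G with h | h
  · exact ⟨0, fun _ => ⊥, rfl, Subsingleton.elim _ _, fun _ => inferInstance, fun i => i.elim0,
      fun i => i.elim0⟩
  obtain ⟨p, hp, hd, hmax⟩ := exists_max_prime_dvd_card (G := G)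
  obtain ⟨N, h1, h2⟩ := exists_normal_card_eq_of_isSupersolvable hG hp hd hmax
  obtain ⟨n, H, h0, hl, hN, hs, hm⟩ := ih _ (card_quotient_lt (ne_bot_of_card_prime (h2 ▸ hp)))
    (isSupersolvable_quotient hG N)
  have hr : ∀ A B : Subgroup (G ⧸ N), (A.comap (QuotientGroup.mk' N)).relIndex
      (B.comap (QuotientGroup.mk' N)) = A.relIndex B := fun A B => by
    rw [relIndex_comap, map_comap_mk']
  have e0 : (H 0).comap (QuotientGroup.mk' N) = N := by
    rw [h0, MonoidHom.comap_bot, QuotientGroup.ker_mk']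
  refine ⟨n + 1, Fin.cons ⊥ fun i => (H i).comap (QuotientGroup.mk' N), rfl, ?_, ?_, ?_, ?_⟩
  · rw [← Fin.succ_last, Fin.cons_succ, hl, comap_top]
  · intro i
    refine Fin.cases ?_ (fun j => ?_) i
    · rw [Fin.cons_zero]; infer_instance
    · rw [Fin.cons_succ]; have := hN j; infer_instance
  · intro i
    refine Fin.cases ?_ (fun j => ?_) i
    · rw [Fin.castSucc_zero, Fin.cons_zero, Fin.cons_succ, e0, relIndex_bot_left, h2]
      exact ⟨bot_le, hp⟩
    · rw [← Fin.succ_castSucc, Fin.cons_succ, Fin.cons_succ, hr]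
      exact ⟨comap_mono (hs j).1, (hs j).2⟩
  · intro i j hij
    induction j using Fin.cases with
    | zero => rw [Fin.le_zero_iff.mp hij]
    | succ j =>
      induction i using Fin.cases with
      | zero =>
        rw [Fin.castSucc_zero, Fin.cons_zero, Fin.cons_succ, Fin.cons_succ, e0, relIndex_bot_left,
          h2, ← Fin.succ_castSucc, Fin.cons_succ, hr]
        refine hmax _ (hs j).2 ?_
        exact ((relIndex_dvd_card _ _).trans (card_subgroup_dvd_card _)).trans
          (card_quotient_dvd_card N)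
      | succ i =>
        rw [← Fin.succ_castSucc, ← Fin.succ_castSucc, Fin.cons_succ, Fin.cons_succ, Fin.cons_succ,
          Fin.cons_succ, hr, hr]
        exact hm i j (Fin.succ_le_succ_iff.mp hij)

theorem isSupersolvable_of_index_dvd_two [Finite G] (N : Subgroup G) [N.Normal]
    (hN : Group.IsNilpotent N) (hi : N.index ∣ 2) : IsSupersolvable G := by
  induction G, ‹Group G›, ‹Finite G› using card_induction' with | _ G ih => ?_
  by_cases h1 : N = ⊥
  · subst h1
    rw [index_bot] at hi
    have : IsCyclic G := isCyclic_of_card_dvd_prime hi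
    exact isSupersolvable_of_isCyclic
  suffices ∃ y : G, y ≠ 1 ∧ (zpowers y).Normal by
    obtain ⟨y, hy, hn⟩ := this
    refine isSupersolvable_of_isCyclic_of_quotient (zpowers y) ?_
    have := map_mk'_normal N (zpowers y)
    refine ih _ (card_quotient_lt (by simpa using hy)) (N.map (QuotientGroup.mk' _))
      (isNilpotent_map hN _) ?_
    exact (index_map_dvd _ (QuotientGroup.mk'_surjective _)).trans hi
  obtain ⟨⟨x, hx, hxc⟩, hx1⟩ := ne_bot_iff_exists_ne_one.mp
    (inf_centralizer_ne_bot hN le_rfl le_normalizer h1)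
  replace hx1 : x ≠ 1 := fun e => hx1 (Subtype.ext e)
  have key : ∀ y ∈ centralizer (N : Set G), N ≤ normalizer ((zpowers y : Subgroup G) : Set G) :=
    fun y hy => le_trans (by rwa [centralizer_zpowers, le_centralizer_singleton_iff])
      (centralizer_le_normalizer _)
  rcases (Nat.dvd_prime Nat.prime_two).mp hi with h2 | h2
  · rw [index_eq_one] at h2
    exact ⟨x, hx1, normal_iff_top_le_normalizer.mpr (h2 ▸ key x hxc)⟩
  have hc : IsCoatom N := isCoatom_of_index_prime (h2 ▸ Nat.prime_two)
  obtain ⟨t, ht⟩ : ∃ t, t ∉ N := by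
    by_contra! h
    exact hc.1 ((eq_top_iff' N).mpr h)
  have hs : N ⊔ zpowers t = ⊤ := sup_eq_top_of_isCoatom hc (by rwa [zpowers_le])
  have ht2 : t * t ∈ N := mul_self_mem_of_index_two h2 t
  have hx' : t * x * t⁻¹ ∈ centralizer (N : Set G) := Normal.conj_mem inferInstance x hxc t
  have hx'N : t * x * t⁻¹ ∈ N := Normal.conj_mem inferInstance x hx t
  have e1 : t * (t * x * t⁻¹) * t⁻¹ = x := by
    have := hxc _ ht2
    calc t * (t * x * t⁻¹) * t⁻¹ = (t * t * x) * (t * t)⁻¹ := by group
      _ = x := by rw [this]; group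
  have fin : ∀ y ∈ centralizer (N : Set G), t * y * t⁻¹ ∈ zpowers y → (zpowers y).Normal :=
    fun y hy h => normal_of_sup_eq_top hs (key y hy) (zpowers_le_normalizer
      (mem_normalizer_of_conj_mem fun z hz => by
        obtain ⟨k, rfl⟩ := mem_zpowers_iff.mp hz
        rw [← conj_zpow]; exact zpow_mem h k))
  by_cases h3 : x * (t * x * t⁻¹) = 1
  · exact ⟨x, hx1, fin x hxc (by rw [eq_inv_of_mul_eq_one_right h3]; exact inv_mem (mem_zpowers x))⟩
  · refine ⟨_, h3, fin _ (mul_mem hxc hx') ?_⟩
    have : t * (x * (t * x * t⁻¹)) * t⁻¹ = x * (t * x * t⁻¹) := by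
      calc t * (x * (t * x * t⁻¹)) * t⁻¹ = (t * x * t⁻¹) * (t * (t * x * t⁻¹) * t⁻¹) := by group
        _ = _ := by rw [e1]; exact hxc _ hx'N
    rw [this]; exact mem_zpowers _

theorem isSupersolvable_of_isNilpotent [Finite G] (h : Group.IsNilpotent G) :
    IsSupersolvable G :=
  isSupersolvable_of_index_dvd_two ⊤ inferInstance (by simp)

theorem isSupersolvable_of_card_eq_two_mul [Finite G] {p n : ℕ} (hp : p.Prime)
    (hG : Nat.card G = 2 * p ^ n) : IsSupersolvable G := by
  have := Fact.mk hp
  obtain ⟨P, hP⟩ := Sylow.exists_subgroup_card_pow_prime p (n := n) (hG ▸ dvd_mul_left _ _)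
  have hi : P.index = 2 := by
    have := P.index_mul_card
    rw [hP, hG] at this
    exact Nat.eq_of_mul_eq_mul_right (pow_pos hp.pos n) this
  have := normal_of_index_eq_two hi
  exact isSupersolvable_of_index_dvd_two P (IsPGroup.of_card hP).isNilpotent (hi ▸ dvd_rfl)

theorem hasSubgroupOfEveryOrder_of_isSupersolvable [Finite G] (h : IsSupersolvable G) :
    HasSubgroupOfEveryOrder G := by
  induction G, ‹Group G›, ‹Finite G› using card_induction' with | _ G ih => ?_
  intro d hd
  rcases subsingleton_or_nontrivial G with hG | hG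
  · rw [Nat.card_unique, Nat.dvd_one] at hd
    exact ⟨⊥, by simp [hd]⟩
  obtain ⟨N, h1, h2⟩ := exists_prime_normal h
  have hq := ih _ (card_quotient_lt (ne_bot_of_card_prime h2)) (isSupersolvable_quotient h N)
  have hc := card_eq_card_quotient_mul_card_subgroup N
  by_cases hp : Nat.card N ∣ d
  · obtain ⟨e, rfl⟩ := hp
    rw [hc, mul_comm] at hd
    obtain ⟨K, hK⟩ := hq e (Nat.dvd_of_mul_dvd_mul_right h2.pos hd)
    exact ⟨K.comap (QuotientGroup.mk' N), by rw [card_comap_mk', hK, mul_comm]⟩
  · have hcop : (Nat.card N).Coprime d := (Nat.Prime.coprime_iff_not_dvd h2).mpr hp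
    obtain ⟨K, hK⟩ := hq d (hcop.symm.dvd_of_dvd_mul_right (hc ▸ hd))
    have hr : N.relIndex (K.comap (QuotientGroup.mk' N)) = d := by
      rw [← card_map_mk', map_comap_mk', hK]
    obtain ⟨H, -, -, -, h3⟩ := exists_complement_in (le_comap_mk' N K) le_normalizer_of_normal
      (hr ▸ hcop)
    exact ⟨H, h3.trans hr⟩

theorem hasSubgroupOfEveryOrder_of_mulEquiv (e : G ≃* G') (h : HasSubgroupOfEveryOrder G) :
    HasSubgroupOfEveryOrder G' := by
  intro d hd
  obtain ⟨H, hH⟩ := h d (Nat.card_congr e.toEquiv ▸ hd)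
  exact ⟨H.map (e : G →* G'), by rw [card_map_of_injective e.injective, hH]⟩

theorem hereditary_clt_subgroup (h : ∀ H : Subgroup G, HasSubgroupOfEveryOrder H)
    (K : Subgroup G) (H : Subgroup K) : HasSubgroupOfEveryOrder H :=
  hasSubgroupOfEveryOrder_of_mulEquiv (equivMapOfInjective H K.subtype K.subtype_injective).symm
    (h _)

theorem exists_index_eq_of_clt [Finite G] (h : HasSubgroupOfEveryOrder G) {d : ℕ}
    (hd : d ∣ Nat.card G) : ∃ H : Subgroup G, H.index = d := by
  obtain ⟨e, he⟩ := hd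
  obtain ⟨H, hH⟩ := h e (he ▸ dvd_mul_left _ _)
  refine ⟨H, ?_⟩
  have := H.index_mul_card
  rw [he, ← hH] at this
  exact Nat.eq_of_mul_eq_mul_right Nat.card_pos this

theorem sylow_normal_of_hereditary_clt [Finite G]
    (h : ∀ H : Subgroup G, HasSubgroupOfEveryOrder H) (p : ℕ) [hp : Fact p.Prime]
    (hmax : ∀ q : ℕ, q.Prime → q ∣ Nat.card G → q ≤ p) {P : Subgroup G} (hP : IsSylowIn p P ⊤) :
    P.Normal := by
  induction G, ‹Group G›, ‹Finite G› using card_induction' with | _ G ih => ?_
  rcases subsingleton_or_nontrivial G with hG | hG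
  · infer_instance
  have hq : (Nat.card G).minFac.Prime := Nat.minFac_prime Finite.one_lt_card.ne'
  by_cases hqp : (Nat.card G).minFac = p
  · have hG : IsPGroup p G := by
      rw [← isPiNum_singleton_card_iff]
      intro q hq' hd
      exact le_antisymm (hmax q hq' hd) (hqp ▸ Nat.minFac_le_of_dvd hq'.two_le hd)
    rw [← hP.eq_of_le (hG.to_subgroup ⊤) le_rfl le_top]
    infer_instance
  obtain ⟨H, hH⟩ := exists_index_eq_of_clt (hasSubgroupOfEveryOrder_of_mulEquiv topEquiv (h ⊤))
    (Nat.minFac_dvd (Nat.card G))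
  have := normal_of_index_eq_minFac_card hH
  have hPH : P ≤ H := le_of_coprime_index (IsPGroup_coprime_card hP.2.1
    (hH ▸ (Nat.coprime_primes hq hp.out).mpr hqp))
  have hP' := hP.of_le hPH le_top
  have h2 := ih H (card_lt_of_ne_top fun e => hq.ne_one (by rw [← hH, e, index_top]))
    (hereditary_clt_subgroup h H) (fun q hq hd => hmax q hq (hd.trans (card_subgroup_dvd_card H)))
    (P := P.subgroupOf H) (by simpa using hP'.subgroupOf le_rfl)
  exact hP'.normal_of_le_normalizer ((normal_subgroupOf_iff_le_normalizer hPH).mp h2)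

theorem sylow_normal_of_isSupersolvable [Finite G] (h : IsSupersolvable G) (p : ℕ) [Fact p.Prime]
    (hmax : ∀ q : ℕ, q.Prime → q ∣ Nat.card G → q ≤ p) {P : Subgroup G} (hP : IsSylowIn p P ⊤) :
    P.Normal :=
  sylow_normal_of_hereditary_clt (fun H => hasSubgroupOfEveryOrder_of_isSupersolvable
    (isSupersolvable_subgroup h H)) p hmax hP

theorem IsSylowIn.le_normalizer_of_isSupersolvable [Finite G] {H P : Subgroup G}
    (h : IsSupersolvable H) {p : ℕ} [Fact p.Prime]
    (hmax : ∀ q : ℕ, q.Prime → q ∣ Nat.card H → q ≤ p) (hP : IsSylowIn p P H) :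
    H ≤ normalizer (P : Set G) :=
  (normal_subgroupOf_iff_le_normalizer hP.1).mp
    (sylow_normal_of_isSupersolvable h p hmax (by simpa using hP.subgroupOf le_rfl))

theorem isSupersolvable_of_relIndex_dvd [Finite G] {p : ℕ} [hp : Fact p.Prime] (P H : Subgroup G)
    [P.Normal] (hP : IsPGroup p P) (hH : IsSupersolvable H) (hs : H ⊔ P = ⊤)
    (hi : H.relIndex P ∣ p) : IsSupersolvable G := by
  induction G, ‹Group G›, ‹Finite G› using card_induction' with | _ G ih => ?_
  by_cases h1 : H ⊓ P = ⊥
  · have := card_inf_mul_relIndex H P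
    rw [h1, card_bot, one_mul] at this
    have : IsCyclic P := isCyclic_of_card_dvd_prime (this ▸ hi)
    exact isSupersolvable_of_isCyclic_of_quotient P (isSupersolvable_quotient_of_sup_eq_top hs hH)
  have hn : P ≤ normalizer ((H ⊓ P : Subgroup G) : Set G) := by
    rw [← normal_subgroupOf_iff_le_normalizer inf_le_right, inf_subgroupOf_right]
    rcases (Nat.dvd_prime hp.out).mp hi with h2 | h2
    · rw [relIndex, index_eq_one] at h2
      rw [h2]; infer_instance
    · have := hP.isNilpotent
      exact isNilpotent_iff_coatom_normal.mp this _ (isCoatom_of_index_prime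
        (by rw [← relIndex, h2]; exact hp.out))
  have h2 := inf_centralizer_ne_bot hP.isNilpotent inf_le_right hn h1
  obtain ⟨x, hx, hx1, hxn⟩ := exists_zpowers_le_normalizer hH (inf_le_left.trans inf_le_left)
    (le_normalizer_inf (le_normalizer_inf le_normalizer le_normalizer_of_normal)
      le_normalizer_of_normal) h2
  have : (zpowers x).Normal := normal_of_sup_eq_top hs hxn
    (le_trans (by rw [centralizer_zpowers, le_centralizer_singleton_iff]; exact hx.2)
      (centralizer_le_normalizer _))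
  refine isSupersolvable_of_isCyclic_of_quotient (zpowers x) ?_
  have := map_mk'_normal P (zpowers x)
  refine ih _ (card_quotient_lt (by simpa using hx1)) (P.map (QuotientGroup.mk' _))
    (H.map (QuotientGroup.mk' _)) (hP.map _) (isSupersolvable_map hH _) (map_mk'_sup_eq_top _ hs)
    (dvd_trans ?_ hi)
  rw [← relIndex_comap, comap_map_mk'']
  exact relIndex_dvd_of_le_left _ le_sup_left

theorem isSupersolvable_of_hereditary_clt [Finite G]
    (h : ∀ H : Subgroup G, HasSubgroupOfEveryOrder H) : IsSupersolvable G := by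
  induction G, ‹Group G›, ‹Finite G› using card_induction' with | _ G ih => ?_
  rcases subsingleton_or_nontrivial G with hG | hG
  · exact isSupersolvable_of_subsingleton
  obtain ⟨p, hp, hd, hmax⟩ := exists_max_prime_dvd_card (G := G)
  have := Fact.mk hp
  obtain ⟨P, hP⟩ := exists_isSylowIn p (⊤ : Subgroup G)
  have := sylow_normal_of_hereditary_clt h p hmax hP
  obtain ⟨H, hH⟩ := exists_index_eq_of_clt (hasSubgroupOfEveryOrder_of_mulEquiv topEquiv (h ⊤)) hd
  have hne : H ≠ ⊤ := fun e => hp.ne_one (by rw [← hH, e, index_top])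
  have hs : H ⊔ P = ⊤ := sup_eq_top_of_isCoatom (isCoatom_of_index_prime (hH ▸ hp)) fun hle =>
    hP.2.2 (by rw [relIndex_top_right, ← hH]; exact index_dvd_of_le hle)
  refine isSupersolvable_of_relIndex_dvd P H hP.2.1
    (ih H (card_lt_of_ne_top hne) (hereditary_clt_subgroup h H)) hs ?_
  rw [← hH, ← relIndex_top_right, ← hs, (isProd_sup_of_le_normalizer
    (H := H) (K := P) le_normalizer_of_normal).relIndex_eq]

theorem hasSubgroupOfEveryOrder_prod [Finite G] [Finite G'] [Group.IsSolvable G]
    (hA : HasSubgroupOfEveryOrder G')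
    (hexp : ∀ p : ℕ, p.Prime → (Nat.card G).factorization p ≤ (Nat.card G').factorization p + 1) :
    HasSubgroupOfEveryOrder (G × G') := by
  intro d hd
  rw [Nat.card_prod] at hd
  have hG : Nat.card G ≠ 0 := Nat.card_pos.ne'
  have hG' : Nat.card G' ≠ 0 := Nat.card_pos.ne'
  have hd0 : d ≠ 0 := ne_zero_of_dvd_ne_zero (mul_ne_zero hG hG') hd
  obtain ⟨H, hH⟩ := exists_isPiHall (G := G) {p | (Nat.card G').factorization p < d.factorization p}
  rw [isPiHall_iff] at hH
  have hH0 : Nat.card H ≠ 0 := Nat.card_pos.ne'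
  have hi0 : H.index ≠ 0 := (index_pos H).ne'
  have hf : ∀ p, (Nat.card G).factorization p =
      H.index.factorization p + (Nat.card H).factorization p := fun p => by
    rw [← H.index_mul_card, Nat.factorization_mul hi0 hH0]; rfl
  have hle := (Nat.factorization_le_iff_dvd hd0 (mul_ne_zero hG hG')).mpr hd
  rw [Nat.factorization_mul hG hG'] at hle
  have key : ∀ p, p.Prime → (Nat.card H).factorization p ≤ d.factorization p ∧
      d.factorization p ≤ (Nat.card H).factorization p + (Nat.card G').factorization p := by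
    intro p hp
    have h1 := hf p
    have h2 := hexp p hp
    have h3 : d.factorization p ≤ (Nat.card G).factorization p + (Nat.card G').factorization p :=
      hle p
    by_cases hπ : (Nat.card G').factorization p < d.factorization p
    · have : H.index.factorization p = 0 :=
        Nat.factorization_eq_zero_of_not_dvd fun h => hH.2 p hp h hπ
      omega
    · have : (Nat.card H).factorization p = 0 :=
        Nat.factorization_eq_zero_of_not_dvd fun h => hπ (hH.1 p hp h)
      omega
  obtain ⟨e, rfl⟩ : Nat.card H ∣ d :=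
    (Nat.factorization_prime_le_iff_dvd hH0 hd0).mp fun p hp => (key p hp).1
  have he0 : e ≠ 0 := right_ne_zero_of_mul hd0
  obtain ⟨K, hK⟩ := hA e ((Nat.factorization_prime_le_iff_dvd he0 hG').mp fun p hp => by
    have := (key p hp).2
    rw [Nat.factorization_mul hH0 he0, Finsupp.add_apply] at this
    omega)
  exact ⟨H.prod K, by rw [Nat.card_congr (prodEquiv H K).toEquiv, Nat.card_prod, hK]⟩

theorem coatom_index_prime_quotient (h : ∀ M : Subgroup G, IsCoatom M → M.index.Prime)
    (N : Subgroup G) [N.Normal] : ∀ M : Subgroup (G ⧸ N), IsCoatom M → M.index.Prime := by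
  intro M hM
  have := h _ (isCoatom_comap_mk' hM)
  rwa [index_comap_of_surjective _ (QuotientGroup.mk'_surjective N)] at this

theorem sylow_normal_of_coatom_index_prime [Finite G]
    (h : ∀ M : Subgroup G, IsCoatom M → M.index.Prime) {p : ℕ} [hp : Fact p.Prime]
    (hmax : ∀ q : ℕ, q.Prime → q ∣ Nat.card G → q ≤ p) {P : Subgroup G} (hP : IsSylowIn p P ⊤) :
    P.Normal := by
  rw [← normalizer_eq_top_iff]
  by_contra hne
  obtain ⟨M, hM, hle⟩ := exists_coatom_ge hne
  have h1 := hP.relIndex_normalizer_modEq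
  have h2 := (hP.of_le (le_normalizer.trans hle) le_top).relIndex_normalizer_modEq
  rw [relIndex_top_right, ← relIndex_mul_index hle] at h1
  have h3 : M.index ≡ 1 [MOD p] := by
    have := (h2.mul_right M.index).symm.trans h1
    rwa [one_mul] at this
  have h4 := hmax _ (h M hM) M.index_dvd_card
  rcases h4.lt_or_eq with h4 | h4
  · exact (h M hM).ne_one (Nat.ModEq.eq_of_lt_of_lt h3 h4 hp.out.one_lt)
  · rw [h4] at h3
    exact absurd ((Nat.modEq_iff_dvd' hp.out.one_le).mp h3.symm)
      (Nat.not_dvd_of_pos_of_lt (by have := hp.out.two_le; omega) (by have := hp.out.two_le; omega))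

theorem isSolvable_of_coatom_index_prime [Finite G]
    (h : ∀ M : Subgroup G, IsCoatom M → M.index.Prime) : Group.IsSolvable G := by
  induction G, ‹Group G›, ‹Finite G› using card_induction' with | _ G ih => ?_
  rcases subsingleton_or_nontrivial G with hG | hG
  · infer_instance
  obtain ⟨p, hp, hd, hmax⟩ := exists_max_prime_dvd_card (G := G)
  have := Fact.mk hp
  obtain ⟨P, hP⟩ := exists_isSylowIn p (⊤ : Subgroup G)
  have := sylow_normal_of_coatom_index_prime h hmax hP
  exact isSolvable_of_normal_of_quotient P (isSolvable_of_isPGroup hP.2.1)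
    (ih _ (card_quotient_lt (hP.ne_bot (by rwa [card_top]))) (coatom_index_prime_quotient h P))

theorem exists_eigenvector_add {V : Type u} [AddCommGroup V] [Finite V] [Nontrivial V] {p : ℕ}
    [hp : Fact p.Prime] [Module (ZMod p) V] (f : Module.End (ZMod p) V) (hφ : f ^ p = f) :
    ∃ v : V, v ≠ 0 ∧ ∃ k : ℕ, f v = k • v := by
  have hf : Polynomial.aeval f (Polynomial.X ^ p - Polynomial.X : Polynomial (ZMod p)) = 0 := by
    rw [map_sub, map_pow, Polynomial.aeval_X, sub_eq_zero, hφ]
  have hs := FiniteField.splits_X_pow_card_sub_X (p := p) (K := ZMod p)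
  rw [Algebra.algebraMap_self, Polynomial.map_id, ZMod.card] at hs
  have hs' := hs.of_dvd (FiniteField.X_pow_card_sub_X_ne_zero _ hp.out.one_lt)
    (minpoly.dvd (ZMod p) f hf)
  obtain ⟨μ, hμ⟩ := hs'.exists_eval_eq_zero
    (minpoly.degree_pos (Algebra.IsIntegral.isIntegral f)).ne'
  obtain ⟨v, hv⟩ := (Module.End.hasEigenvalue_of_isRoot hμ).exists_hasEigenvector
  refine ⟨v, hv.2, μ.val, ?_⟩
  have := hv.apply_eq_smul
  rwa [← ZMod.natCast_zmod_val μ, Nat.cast_smul_eq_nsmul] at this

theorem exists_eigenvector {V : Type u} [CommGroup V] [Finite V] [Nontrivial V] {p : ℕ}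
    [hp : Fact p.Prime] (hV : ∀ v : V, v ^ p = 1) (φ : V →* V) (hφ : ∀ v, φ^[p] v = φ v) :
    ∃ v : V, v ≠ 1 ∧ ∃ k : ℕ, φ v = v ^ k := by
  let _ : Module (ZMod p) (Additive V) := AddCommGroup.zmodModule fun x => hV x.toMul
  obtain ⟨v, hv, k, hk⟩ := exists_eigenvector_add (p := p)
    ((MonoidHom.toAdditive φ).toZModLinearMap p) (by
      ext v
      rw [Module.End.pow_apply]
      exact hφ v.toMul)
  exact ⟨v.toMul, hv, k, hk⟩

/-- An abelian group of exponent dividing `p - 1` normalizing a nontrivial elementary abelian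
`p`-group normalizes a subgroup of order `p`. -/
theorem exists_zpowers_le_normalizer_of_pow [Finite G] {p : ℕ} [hp : Fact p.Prime]
    {Q V : Subgroup G} (hV : IsMulCommutative V) (hVp : ∀ v ∈ V, v ^ p = 1) (hne : V ≠ ⊥)
    (hQV : Q ≤ normalizer (V : Set G)) (hQ : ⁅Q, Q⁆ ≤ centralizer (V : Set G))
    (hQp : ∀ y ∈ Q, y ^ (p - 1) ∈ centralizer (V : Set G)) :
    ∃ x ∈ V, x ≠ 1 ∧ Q ≤ normalizer ((zpowers x : Subgroup G) : Set G) := by
  obtain ⟨W, hWV, ⟨hW1, hW2⟩, hmin⟩ := exists_minimal_le
    (P := fun W : Subgroup G => W ≠ ⊥ ∧ Q ≤ normalizer (W : Set G)) ⟨hne, hQV⟩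
  have hW := isMulCommutative_of_le hV hWV
  have key : ∀ y ∈ Q, ∃ k : ℕ, ∀ w ∈ W, y * w * y⁻¹ = w ^ k := by
    intro y hy
    let _ : CommGroup W := IsMulCommutative.instCommGroup
    have : Nontrivial W := (nontrivial_iff_ne_bot W).mpr hW1
    have hit : ∀ (n : ℕ) (v : W),
        (((W.normalizerMonoidHom ⟨y, hW2 hy⟩).toMonoidHom^[n] v : W) : G) =
          y ^ n * v * (y ^ n)⁻¹ := by
      intro n v
      induction n with
      | zero => simp
      | succ n ih =>
        rw [Function.iterate_succ_apply']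
        change y * _ * y⁻¹ = _
        rw [ih, pow_succ']; group
    obtain ⟨v, hv, k, hk⟩ := exists_eigenvector (V := W) (p := p)
      (fun v => Subtype.ext (hVp v (hWV v.2))) (W.normalizerMonoidHom ⟨y, hW2 hy⟩).toMonoidHom
      (fun v => Subtype.ext (by
        rw [hit]
        change _ = y * v * y⁻¹
        have h1 := hQp y hy v (hWV v.2)
        have h2 : y ^ p = y * y ^ (p - 1) := by
          rw [← pow_succ', Nat.sub_add_cancel hp.out.one_le]
        rw [h2, mul_assoc y, ← h1]; group))
    have hk' : y * v * y⁻¹ = (v : G) ^ k := congrArg Subtype.val hk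
    let E : Subgroup G :=
      { carrier := {w | w ∈ W ∧ y * w * y⁻¹ = w ^ k}
        one_mem' := ⟨one_mem _, by simp⟩
        mul_mem' := fun {a b} ha hb => ⟨mul_mem ha.1 hb.1, by
          rw [(Commute.mul_pow (isMulCommutative_iff_mem.mp hW a ha.1 b hb.1)), ← ha.2, ← hb.2]
          group⟩
        inv_mem' := fun {a} ha => ⟨inv_mem ha.1, by rw [inv_pow, ← ha.2]; group⟩ }
    have hE : E = W := by
      refine hmin E ⟨fun e => hv (Subtype.ext ?_), fun z hz => mem_normalizer_of_conj_mem ?_⟩
        fun w hw => hw.1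
      · exact mem_bot.mp (e ▸ (⟨v.2, hk'⟩ : (v : G) ∈ E))
      · intro w hw
        refine ⟨conj_mem_of_mem_normalizer (hW2 hz) hw.1, ?_⟩
        have h1 := hQ (commutator_mem_commutator (inv_mem hz) hy)
          (y * w * y⁻¹) (hWV (conj_mem_of_mem_normalizer (hW2 hy) hw.1))
        rw [commutatorElement_def] at h1
        rw [conj_pow, ← hw.2]
        calc y * (z * w * z⁻¹) * y⁻¹
            = z * (z⁻¹ * y * z⁻¹⁻¹ * y⁻¹ * (y * w * y⁻¹)) * (z⁻¹ * y * z⁻¹⁻¹ * y⁻¹)⁻¹ * z⁻¹ := by
              group
          _ = _ := by rw [← h1]; group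
    exact ⟨k, fun w hw => (hE ▸ hw : w ∈ E).2⟩
  obtain ⟨⟨x, hx⟩, hx1⟩ := ne_bot_iff_exists_ne_one.mp hW1
  refine ⟨x, hWV hx, fun e => hx1 (Subtype.ext e), fun y hy => mem_normalizer_of_conj_mem ?_⟩
  obtain ⟨k, hk⟩ := key y hy
  intro z hz
  rw [hk z (zpowers_le.mpr hx hz)]
  exact pow_mem hz k

theorem pow_sub_one_mem_centralizer_of_card_prime {N : Subgroup G} [N.Normal] {p : ℕ}
    (hp : p.Prime) (h : Nat.card N = p) (y : G) : y ^ (p - 1) ∈ centralizer (N : Set G) := by
  have := Fact.mk hp
  have : IsCyclic N := isCyclic_of_prime_card h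
  have : Finite N := Nat.finite_of_card_ne_zero (h ▸ hp.ne_zero)
  have h1 : Nat.card (MulAut N) = p - 1 := by
    rw [IsCyclic.card_mulAut, h, Nat.totient_prime hp]
  have h2 : (MulAut.conjNormal (y ^ (p - 1)) : MulAut N) = 1 := by
    rw [map_pow, ← h1, pow_card_eq_one']
  intro x hx
  have := congrArg (fun f : MulAut N => (f ⟨x, hx⟩ : G)) h2
  simp only [MulAut.conjNormal_apply, MulAut.one_apply] at this
  rw [mul_inv_eq_iff_eq_mul] at this
  exact this.symm

theorem SSUp.mem_centralizer [Finite G] {p : ℕ} [hp : Fact p.Prime] {P : Subgroup G} (h : SSUp P)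
    (hP : IsPGroup p P) {x : G} (hx : (orderOf x).Coprime p)
    (hE : x ∈ _root_.commutator G ∨ ∃ y, x = y ^ (p - 1)) : x ∈ centralizer (P : Set G) := by
  induction G, ‹Group G›, ‹Finite G› using card_induction' with | _ G ih => ?_
  by_cases h1 : P = ⊥
  · subst h1; intro y hy; rw [mem_bot.mp hy]; simp
  obtain ⟨N, hNP, hN, hc⟩ := h.exists_prime_normal h1
  have hNp : Nat.card N = p := ((Nat.prime_dvd_prime_iff_eq hp.out hc).mp
    (dvd_card_of_isPGroup_of_ne_bot (hP.to_le hNP) (ne_bot_of_card_prime hc))).symm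
  have h2 : x ∈ centralizer (N : Set G) := by
    rcases hE with hE | ⟨y, rfl⟩
    · have := isCyclic_of_card_prime hc
      exact commutator_le_centralizer_of_isCyclic N hE
    · exact pow_sub_one_mem_centralizer_of_card_prime hp.out hNp y
  have h3 := ih _ (card_quotient_lt (ne_bot_of_card_prime hc))
    (h.map_of_surjective (QuotientGroup.mk'_surjective N)) (hP.map _)
    (x := QuotientGroup.mk' N x) (hx.coprime_dvd_left (orderOf_map_dvd _ x))
    (hE.imp (fun hE => map_commutator_of_surjective (QuotientGroup.mk'_surjective N) ▸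
      mem_map_of_mem _ hE) fun ⟨y, hy⟩ => ⟨QuotientGroup.mk' N y, by rw [hy, map_pow]⟩)
  rw [← le_centralizer_singleton_iff, ← centralizer_zpowers] at h2 h3 ⊢
  refine le_centralizer_of_commutator_le_of_le_centralizer (N := N)
    (by rwa [Nat.card_zpowers, hNp]) ?_ h2
  rw [← map_mk'_eq_bot_iff, map_commutator, commutator_eq_bot_iff_le_centralizer,
    MonoidHom.map_zpowers]
  exact h3

/-- Huppert's theorem. -/
theorem isSupersolvable_of_coatom_index_prime [Finite G]
    (h : ∀ M : Subgroup G, IsCoatom M → M.index.Prime) : IsSupersolvable G := by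
  induction G, ‹Group G›, ‹Finite G› using card_induction' with | _ G ih => ?_
  rcases subsingleton_or_nontrivial G with hG | hG
  · exact isSupersolvable_of_subsingleton
  have hq : ∀ (N : Subgroup G) [N.Normal], N ≠ ⊥ → IsSupersolvable (G ⧸ N) := fun N _ hN =>
    ih _ (card_quotient_lt hN) (coatom_index_prime_quotient h N)
  have hs := isSolvable_of_coatom_index_prime h
  obtain ⟨p, hp, hd, hmax⟩ := exists_max_prime_dvd_card (G := G)
  have := Fact.mk hp
  obtain ⟨P, hP⟩ := exists_isSylowIn p (⊤ : Subgroup G)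
  have := sylow_normal_of_coatom_index_prime h hmax hP
  have hP1 : P ≠ ⊥ := hP.ne_bot (by rwa [card_top])
  obtain ⟨N, hNP, hN⟩ := exists_minNormal_le hP1
  have := hN.1
  have hNa := hN.isMulCommutative inferInstance
  by_contra hcon
  have huniq : ∀ (K : Subgroup G) [K.Normal], K ≠ ⊥ → N ≤ K := fun K _ hK => by
    by_contra hle
    exact hcon (isSupersolvable_of_inf_eq_bot (hN.inf_eq_bot hle) (hq N hN.2.1) (hq K hK))
  have hcyc : ¬ IsCyclic N := fun hc =>
    hcon (isSupersolvable_of_isCyclic_of_quotient N (hq N hN.2.1))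
  have hNΦ : N ≤ frattini G := by
    rw [le_frattini_iff]
    intro M hM
    by_contra hle
    have := (hN.isComplement'_of_isCoatom hNa hM hle).index_eq_card
    exact hcyc (isCyclic_of_card_prime (this ▸ h M hM))
  have hPi : ¬ p ∣ P.index := by simpa using hP.2.2
  have hcop : (Nat.card P).Coprime P.index :=
    IsPGroup_coprime_card hP.2.1 ((hp.coprime_iff_not_dvd.mpr hPi).symm)
  obtain ⟨Q, hQ⟩ := exists_right_complement'_of_coprime hcop
  have hQc : (Nat.card Q).Coprime p := by
    rw [← hQ.symm.index_eq_card]; exact (hp.coprime_iff_not_dvd.mpr hPi).symm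
  have hNΦ' : N ≤ (frattini P).map P.subtype := by
    refine huniq _ fun e => ?_
    have e' : frattini P = ⊥ := (map_eq_bot_iff_of_injective _ P.subtype_injective).mp e
    obtain ⟨A, hA⟩ := exists_complement_of_inf_frattini_eq_bot (N.subgroupOf P)
      (isMulCommutative_subgroupOf hNa P) (by rw [e', inf_bot_eq])
    rw [isComplement'_iff_of_normal] at hA
    obtain ⟨H, hH⟩ := gaschuetz_exists N P (hcop.coprime_dvd_left (card_dvd_of_le hNP))
      (A.map P.subtype) (by
        rw [← map_subgroupOf_eq_of_le hNP, ← Subgroup.map_inf _ _ _ P.subtype_injective, hA.1,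
          Subgroup.map_bot]) (by
        rw [← map_subgroupOf_eq_of_le hNP, ← Subgroup.map_sup, hA.2, ← MonoidHom.range_eq_map,
          range_subtype])
    exact (hN.exists_complement_iff hNa).mp ⟨H, hH⟩ hNΦ
  have hNP' : P ≤ centralizer (N : Set G) :=
    (le_fitting inferInstance hP.2.1.isNilpotent).trans (fitting_le_centralizer_of_isMinNormal hN)
  have key : ∀ x ∈ Q, (x ∈ _root_.commutator G ∨ ∃ y, x = y ^ (p - 1)) →
      x ∈ centralizer (N : Set G) := by
    intro x hx hE
    have hxc : (orderOf x).Coprime p := hQc.coprime_dvd_left (orderOf_dvd_natCard Q hx)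
    have := map_mk'_normal P N
    have h3 := (ssUp_of_isSupersolvable (hq N hN.2.1) (P.map (QuotientGroup.mk' N))).mem_centralizer
      (hP.2.1.map _) (x := QuotientGroup.mk' N x) (hxc.coprime_dvd_left (orderOf_map_dvd _ x))
      (hE.imp (fun hE => map_commutator_of_surjective (QuotientGroup.mk'_surjective N) ▸
        mem_map_of_mem _ hE) fun ⟨y, hy⟩ => ⟨QuotientGroup.mk' N y, by rw [hy, map_pow]⟩)
    rw [← le_centralizer_singleton_iff, ← centralizer_zpowers, ← MonoidHom.map_zpowers,
      ← commutator_eq_bot_iff_le_centralizer, ← map_commutator, map_mk'_eq_bot_iff] at h3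
    have h4 := le_centralizer_of_commutator_le_frattini (A := zpowers x) (K := P)
      le_normalizer_of_normal (by
        rw [Nat.card_zpowers]
        exact (IsPGroup_coprime_card (hP.2.1.to_subgroup _) hxc).symm) (h3.trans hNΦ')
    exact centralizer_anti hNP (zpowers_le.mp h4)
  obtain ⟨r, hr, hNr⟩ := hN.exists_prime_pow_eq_one hNa
  have hrp : r = p := by
    obtain ⟨⟨x, hx⟩, hx1⟩ := ne_bot_iff_exists_ne_one.mp hN.2.1
    have h1 := orderOf_eq_prime_of_pow_eq_one hr (hNr x hx) fun e => hx1 (Subtype.ext e)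
    obtain ⟨k, hk⟩ := isPGroup_iff_mem.mp hP.2.1 x (hNP hx)
    exact (Nat.prime_dvd_prime_iff_eq hr hp).mp (hr.dvd_of_dvd_pow (h1 ▸ orderOf_dvd_of_pow_eq_one hk))
  subst hrp
  obtain ⟨x, hx, hx1, hxn⟩ := exists_zpowers_le_normalizer_of_pow hNa hNr hN.2.1 (Q := Q)
    le_normalizer_of_normal
    (fun x hx => key x (commutator_le_of_le_normalizer le_normalizer hx) (Or.inl (commutator_mono le_top le_top hx)))
    (fun y hy => key _ (pow_mem hy _) (Or.inr ⟨y, rfl⟩))
  have : (zpowers x).Normal := normal_of_sup_eq_top hQ.sup_eq_top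
    ((hNP'.trans (centralizer_anti (zpowers_le.mpr hx))).trans (centralizer_le_normalizer _)) hxn
  exact hcyc (hN.eq_of_le (zpowers_le.mpr hx) (by simpa using hx1) ▸ inferInstance)

theorem exists_conj_of_isSupersolvable_hall [Finite G] {H K : Subgroup G}
    (hH : IsSupersolvable H) (hK : IsSupersolvable K) (hc : Nat.card H = Nat.card K)
    (hHall : (Nat.card H).Coprime H.index) : ∃ x : G, MulAut.conj x • H = K := by
  induction G, ‹Group G›, ‹Finite G› using card_induction' with | _ G ih => ?_
  by_cases h1 : H = ⊥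
  · subst h1
    rw [card_bot, eq_comm, card_eq_one] at hc
    exact ⟨1, by rw [hc, conj_one_smul]⟩
  have : Nontrivial H := (nontrivial_iff_ne_bot H).mpr h1
  obtain ⟨p, hp, hd, hmax⟩ := exists_max_prime_dvd_card (G := H)
  have := Fact.mk hp
  have hi : K.index = H.index := by
    have h2 := H.index_mul_card
    rw [hc, ← K.index_mul_card] at h2
    exact (Nat.eq_of_mul_eq_mul_right Nat.card_pos h2).symm
  have hpi : ¬ p ∣ H.index := hp.coprime_iff_not_dvd.mp (hHall.coprime_dvd_left hd)
  obtain ⟨P, hP⟩ := exists_isSylowIn p H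
  obtain ⟨R, hR⟩ := exists_isSylowIn p K
  obtain ⟨g, -, hg⟩ := (hP.trans le_top (by simpa using hpi)).exists_conj
    (hR.trans le_top (by simpa [hi] using hpi))
  suffices ∃ x : G, MulAut.conj x • MulAut.conj g • H = K by
    obtain ⟨x, hx⟩ := this
    exact ⟨x * g, by rw [← conj_smul_conj_smul, hx]⟩
  have hH' : IsSupersolvable ↥(MulAut.conj g • H) := isSupersolvable_map hH _
  have hR' : IsSylowIn p R (MulAut.conj g • H) := hg ▸ hP.conj g
  have hc' : Nat.card ↥(MulAut.conj g • H) = Nat.card K := by rw [card_smul, hc]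
  have hHall' : (Nat.card ↥(MulAut.conj g • H)).Coprime (MulAut.conj g • H).index := by
    rwa [card_smul, index_smul]
  have n1 := hR'.le_normalizer_of_isSupersolvable hH' (by rwa [card_smul])
  have n2 := hR.le_normalizer_of_isSupersolvable hK (by rwa [← hc])
  have hR1 : R ≠ ⊥ := hR.ne_bot (hc ▸ hd)
  generalize MulAut.conj g • H = L at *
  by_cases hn : normalizer (R : Set G) = ⊤
  · have := normalizer_eq_top_iff.mp hn
    obtain ⟨x, hx⟩ := ih _ (card_quotient_lt hR1) (isSupersolvable_map hH' (QuotientGroup.mk' R))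
      (isSupersolvable_map hK (QuotientGroup.mk' R)) (by
        have e1 := card_map_mk'_mul L R
        have e2 := card_map_mk'_mul K R
        rw [inf_eq_right.mpr hR'.1] at e1
        rw [inf_eq_right.mpr hR.1, ← hc', ← e1] at e2
        exact (Nat.eq_of_mul_eq_mul_right Nat.card_pos e2).symm)
      ((hHall'.coprime_dvd_left (card_map_dvd _ _)).coprime_dvd_right
        (index_map_dvd _ (QuotientGroup.mk'_surjective R)))
    obtain ⟨x, rfl⟩ := QuotientGroup.mk'_surjective R x
    rw [← map_conj_smul] at hx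
    refine ⟨x, eq_of_map_mk'_eq ?_ hR.1 hx⟩
    rw [le_conj_smul_iff_inv_le]
    rw [conj_smul_eq_of_mem_normalizer (hn ▸ mem_top _)]
    exact hR'.1
  · obtain ⟨x, hx⟩ := ih _ (card_lt_of_ne_top hn) (isSupersolvable_subgroupOf hH' _)
      (isSupersolvable_subgroupOf hK (normalizer (R : Set G)))
      (by rw [card_subgroupOf_of_le n1, card_subgroupOf_of_le n2, hc'])
      ((hHall'.coprime_dvd_left (card_subgroupOf_dvd _ _)).coprime_dvd_right
        (relIndex_dvd_index_of_le n1))
    exact ⟨x, conj_smul_eq_of_subgroupOf n1 n2 x hx⟩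

end Cfsg.Agent.Core
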