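import Cfsg.Agent.Core.Supersolvable

/-! Hall complement systems, system normalizers and Carter subgroups. -/

set_option autoImplicit false

namespace Cfsg.Agent.Core

open Subgroup
open scoped Pointwise commutatorElement

universe u v

variable {G : Type u} [Group G] {G' : Type v} [Group G']

theorem isComplementSystem_iff [Finite G] {K : Nat.Primes → Subgroup G} :
    IsComplementSystem K ↔ ∀ p : Nat.Primes, IsPiHall ({(p : ℕ)} : Set ℕ)ᶜ (K p) :=
  forall_congr' fun p => (isPiHall_compl_singleton_iff p.2).symm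

theorem exists_isComplementSystem [Finite G] [Group.IsSolvable G] :
    ∃ K : Nat.Primes → Subgroup G, IsComplementSystem K := by
  choose K hK using fun p : Nat.Primes => exists_isPiHall (G := G) ({(p : ℕ)} : Set ℕ)ᶜ
  exact ⟨K, isComplementSystem_iff.mpr hK⟩

theorem mem_systemNormalizer {K : Nat.Primes → Subgroup G} {x : G} :
    x ∈ systemNormalizer K ↔ ∀ p, x ∈ normalizer (K p : Set G) := mem_iInf

theorem systemNormalizer_le (K : Nat.Primes → Subgroup G) (p : Nat.Primes) :
    systemNormalizer K ≤ normalizer (K p : Set G) := iInf_le _ p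

theorem eq_top_of_isPiHall_of_not_dvd [Finite G] {p : ℕ} {H : Subgroup G}
    (h : IsPiHall ({p} : Set ℕ)ᶜ H) (hd : ¬ p ∣ Nat.card G) : H = ⊤ :=
  eq_top_of_forall_not_dvd_index fun q hq hqd => by
    have := (isPiHall_iff.mp h).2 q hq hqd
    rw [compl_compl, Set.mem_singleton_iff] at this
    exact hd (this ▸ hqd.trans H.index_dvd_card)

theorem isPiNum_index_biInf [Finite G] {K : Nat.Primes → Subgroup G} (hK : IsComplementSystem K)
    (S : Finset Nat.Primes) : IsPiNum {q | ∃ p ∈ S, (p : ℕ) = q} (⨅ p ∈ S, K p).index := by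
  classical
  induction S using Finset.induction_on with
  | empty => simpa using isPiNum_one _
  | insert p S hp ih =>
    have h1 := (isPiHall_iff.mp (isComplementSystem_iff.mp hK p)).2
    rw [compl_compl] at h1
    rw [Finset.iInf_insert, index_inf_of_coprime' (h1.coprime (ih.mono ?_))]
    · refine (h1.mono fun q hq => ?_).mul (ih.mono fun q ⟨r, hr, e⟩ => ?_)
      · exact ⟨p, Finset.mem_insert_self _ _, hq.symm⟩
      · exact ⟨r, Finset.mem_insert_of_mem hr, e⟩
    · rintro q ⟨r, hr, rfl⟩ e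
      exact hp (Subtype.ext e ▸ hr)

/-- The Hall `π`-subgroup attached to a complement system. -/
def hallOf (K : Nat.Primes → Subgroup G) (π : Set ℕ) : Subgroup G :=
  ⨅ p : Nat.Primes, ⨅ _ : (p : ℕ) ∉ π, K p

theorem mem_hallOf {K : Nat.Primes → Subgroup G} {π : Set ℕ} {x : G} :
    x ∈ hallOf K π ↔ ∀ p : Nat.Primes, (p : ℕ) ∉ π → x ∈ K p := by
  simp [hallOf, mem_iInf]

theorem hallOf_mono (K : Nat.Primes → Subgroup G) {π ρ : Set ℕ} (h : π ⊆ ρ) :
    hallOf K π ≤ hallOf K ρ := fun _ hx =>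
  mem_hallOf.mpr fun p hp => mem_hallOf.mp hx p fun h' => hp (h h')

theorem systemNormalizer_le_normalizer_hallOf (K : Nat.Primes → Subgroup G) (π : Set ℕ) :
    systemNormalizer K ≤ normalizer (hallOf K π : Set G) := by
  intro x hx
  rw [mem_systemNormalizer] at hx
  rw [mem_normalizer_iff]
  intro y
  simp only [mem_hallOf]
  exact forall₂_congr fun p _ => mem_normalizer_iff.mp (hx p) y

open Classical in
theorem exists_finset_primes (n : ℕ) (hn : n ≠ 0) (π : Set ℕ) :
    ∃ S : Finset Nat.Primes, ∀ p : Nat.Primes, p ∈ S ↔ (p : ℕ) ∣ n ∧ (p : ℕ) ∉ π :=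
  ⟨((n.primeFactors.filter (· ∉ π)).subtype Nat.Prime), fun p => by
    refine (Finset.mem_subtype (p := Nat.Prime)).trans ?_
    rw [Finset.mem_filter, Nat.mem_primeFactors]
    exact ⟨fun h => ⟨h.1.2.1, h.2⟩, fun h => ⟨⟨p.2, h.1, hn⟩, h.2⟩⟩⟩

theorem isPiHall_hallOf [Finite G] {K : Nat.Primes → Subgroup G} (hK : IsComplementSystem K)
    (π : Set ℕ) : IsPiHall π (hallOf K π) := by
  rw [isPiHall_iff]
  have hK' := isComplementSystem_iff.mp hK
  constructor
  · intro q hq hd
    by_contra hπ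
    have hle : hallOf K π ≤ K ⟨q, hq⟩ := fun x hx => mem_hallOf.mp hx _ hπ
    exact (isPiHall_iff.mp (hK' ⟨q, hq⟩)).1 q hq (hd.trans (card_dvd_of_le hle)) rfl
  · obtain ⟨S, hS⟩ := exists_finset_primes (Nat.card G) Nat.card_pos.ne' π
    have e : hallOf K π = ⨅ p ∈ S, K p := by
      ext x
      simp only [mem_hallOf, mem_iInf, hS]
      refine ⟨fun h p hp => h p hp.2, fun h p hp => ?_⟩
      by_cases hd : (p : ℕ) ∣ Nat.card G
      · exact h p ⟨hd, hp⟩
      · rw [eq_top_of_isPiHall_of_not_dvd (hK' p) hd]; trivial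
    rw [e]
    exact (isPiNum_index_biInf hK S).mono fun q ⟨p, hp, e⟩ => e ▸ ((hS p).mp hp).2

theorem isSylowIn_hallOf [Finite G] {K : Nat.Primes → Subgroup G} (hK : IsComplementSystem K)
    (p : ℕ) [Fact p.Prime] : IsSylowIn p (hallOf K {p}) ⊤ :=
  isSylowIn_iff_isPiHallOf.mpr (isPiHallOf_top.mpr (isPiHall_hallOf hK _))

theorem isProd_hallOf [Finite G] {K : Nat.Primes → Subgroup G} (hK : IsComplementSystem K)
    (π ρ : Set ℕ) : IsProd (hallOf K (π ∪ ρ)) (hallOf K π) (hallOf K ρ) :=
  have h1 := hallOf_mono K (Set.subset_union_left (s := π) (t := ρ))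
  have h2 := hallOf_mono K (Set.subset_union_right (s := π) (t := ρ))
  isProd_of_isPiNum h1 h2
    ((isPiHall_iff.mp (isPiHall_hallOf hK π)).2.of_dvd (relIndex_dvd_index_of_le h1))
    ((isPiHall_iff.mp (isPiHall_hallOf hK ρ)).2.of_dvd (relIndex_dvd_index_of_le h2))
    (isPiHall_iff.mp (isPiHall_hallOf hK _)).1

theorem isComplementSystem_map [Finite G] [Finite G'] {K : Nat.Primes → Subgroup G}
    (hK : IsComplementSystem K) {f : G →* G'} (hf : Function.Surjective f) :
    IsComplementSystem fun p => (K p).map f :=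
  isComplementSystem_iff.mpr fun p => isPiHall_map (isComplementSystem_iff.mp hK p) hf

theorem isComplementSystem_conj [Finite G] {K : Nat.Primes → Subgroup G}
    (hK : IsComplementSystem K) (g : G) : IsComplementSystem fun p => MulAut.conj g • K p :=
  isComplementSystem_iff.mpr fun p => isPiHall_smul (isComplementSystem_iff.mp hK p) _

theorem systemNormalizer_conj (K : Nat.Primes → Subgroup G) (g : G) :
    systemNormalizer (fun p => MulAut.conj g • K p) = MulAut.conj g • systemNormalizer K := by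
  ext x
  simp only [mem_systemNormalizer, normalizer_conj_smul, mem_conj_smul]

theorem exists_conj_of_isComplementSystem_of_sup [Finite G] [Group.IsSolvable G]
    {K L : Nat.Primes → Subgroup G} (hK : IsComplementSystem K) (hL : IsComplementSystem L)
    (N : Subgroup G) [N.Normal] (h : ∀ p, K p ⊔ N = L p ⊔ N) :
    ∃ n ∈ N, ∀ p, MulAut.conj n • K p = L p := by
  classical
  have hK' := isComplementSystem_iff.mp hK
  have hL' := isComplementSystem_iff.mp hL
  have one : ∀ p, ∃ n ∈ N, MulAut.conj n • K p = L p := by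
    intro p
    obtain ⟨g, hg, e⟩ := exists_conj_eq_of_isPiHallOf (M := K p ⊔ N) inferInstance
      (isPiHallOf_of_le (isPiHallOf_top.mpr (hK' p)) le_sup_left le_top)
      (isPiHallOf_of_le (isPiHallOf_top.mpr (hL' p)) (h p ▸ le_sup_left) le_top)
    rw [sup_comm] at hg
    obtain ⟨n, hn, k, hk, rfl⟩ := (mem_sup_of_le_normalizer_left le_normalizer_of_normal).mp hg
    exact ⟨n, hn, by rw [← e, ← conj_smul_conj_smul,
      conj_smul_eq_of_mem_normalizer (le_normalizer hk)]⟩
  have key : ∀ S : Finset Nat.Primes, ∃ n ∈ N, ∀ p ∈ S, MulAut.conj n • K p = L p := by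
    intro S
    induction S using Finset.induction_on with
    | empty => exact ⟨1, one_mem _, by simp⟩
    | insert p S hp ih =>
      obtain ⟨n, hn, h1⟩ := ih
      obtain ⟨m, hm, h2⟩ := one p
      have i1 := (isPiHall_iff.mp (isPiHall_subgroupOf_of_normal (hK' p) N)).2
      have i2 := (isPiHall_iff.mp (isPiHall_subgroupOf_of_normal (isPiHall_hallOf hK
        {q | ∃ r ∈ S, (r : ℕ) = q}ᶜ) N)).2
      rw [compl_compl] at i1 i2
      have hc := isProd_inf_of_coprime (L := N) (i1.coprime (i2.mono (by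
        rintro q ⟨r, hr, rfl⟩ e
        exact hp (Subtype.ext e ▸ hr))))
      obtain ⟨a, ha, b, hb, e⟩ := hc.exists_mul (m⁻¹ * n) (mul_mem (inv_mem hm) hn)
      refine ⟨m * a, mul_mem hm ha.1, fun r hr => ?_⟩
      rcases Finset.mem_insert.mp hr with rfl | hr
      · rw [← conj_smul_conj_smul, conj_smul_eq_of_mem_normalizer (le_normalizer ha.2), h2]
      · have e' : m * a = n * b⁻¹ := by
          rw [eq_mul_inv_iff_mul_eq, mul_assoc, ← e]; group
        have hb' : b ∈ K r := mem_hallOf.mp hb.2 r fun h => h ⟨r, hr, rfl⟩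
        rw [e', ← conj_smul_conj_smul, conj_smul_eq_of_mem_normalizer (le_normalizer (inv_mem hb')),
          h1 r hr]
  obtain ⟨S, hS⟩ := exists_finset_primes (Nat.card G) Nat.card_pos.ne' ∅
  obtain ⟨n, hn, h1⟩ := key S
  refine ⟨n, hn, fun p => ?_⟩
  by_cases hd : (p : ℕ) ∣ Nat.card G
  · exact h1 p ((hS p).mpr ⟨hd, fun h => h⟩)
  · rw [eq_top_of_isPiHall_of_not_dvd (hK' p) hd, eq_top_of_isPiHall_of_not_dvd (hL' p) hd,
      smul_top']

theorem exists_conj_of_isComplementSystem [Finite G] [Group.IsSolvable G]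
    {K L : Nat.Primes → Subgroup G} (hK : IsComplementSystem K) (hL : IsComplementSystem L) :
    ∃ g : G, ∀ p, MulAut.conj g • K p = L p := by
  obtain ⟨g, -, h⟩ := exists_conj_of_isComplementSystem_of_sup hK hL ⊤ (by simp)
  exact ⟨g, h⟩

theorem exists_conj_systemNormalizer [Finite G] [Group.IsSolvable G]
    {K L : Nat.Primes → Subgroup G} (hK : IsComplementSystem K) (hL : IsComplementSystem L) :
    ∃ g : G, MulAut.conj g • systemNormalizer K = systemNormalizer L := by
  obtain ⟨g, h⟩ := exists_conj_of_isComplementSystem hK hL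
  exact ⟨g, by rw [← systemNormalizer_conj, funext h]⟩

theorem systemNormalizer_map_mk' [Finite G] [Group.IsSolvable G] {K : Nat.Primes → Subgroup G}
    (hK : IsComplementSystem K) (N : Subgroup G) [N.Normal] :
    systemNormalizer (fun p => (K p).map (QuotientGroup.mk' N)) =
      (systemNormalizer K).map (QuotientGroup.mk' N) := by
  refine le_antisymm (fun x hx => ?_) (le_iInf fun p =>
    map_le_normalizer_map (systemNormalizer_le K p) _)
  obtain ⟨x, rfl⟩ := QuotientGroup.mk'_surjective N x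
  obtain ⟨n, hn, h⟩ := exists_conj_of_isComplementSystem_of_sup (isComplementSystem_conj hK x) hK N
    fun p => by
      rw [← map_mk'_eq_map_mk'_iff, map_conj_smul]
      exact conj_smul_eq_of_mem_normalizer (mem_systemNormalizer.mp hx p)
  refine ⟨n * x, mem_systemNormalizer.mpr fun p => ?_, ?_⟩
  · rw [← conj_smul_eq_iff, ← conj_smul_conj_smul, h p]
  · rw [map_mul, QuotientGroup.mk'_apply N n, (QuotientGroup.eq_one_iff n).mpr hn, one_mul]

theorem isNilpotent_systemNormalizer [Finite G] {K : Nat.Primes → Subgroup G}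
    (hK : IsComplementSystem K) : Group.IsNilpotent (systemNormalizer K) := by
  refine isNilpotent_of_forall_isSylowIn fun p _ => ?_
  have h1 := systemNormalizer_le_normalizer_hallOf K {p}
  have h2 := isSylowIn_hallOf hK p
  obtain ⟨P, hP⟩ := exists_isSylowIn p (systemNormalizer K)
  have h3 : P ≤ hallOf K {p} := h2.le_of_le_normalizer hP.2.1 le_top (Or.inr (hP.1.trans h1))
  refine ⟨P, hP, ?_⟩
  rw [← hP.eq_of_le (h2.2.1.to_le inf_le_right) inf_le_left (le_inf hP.1 h3)]
  exact le_normalizer_inf le_normalizer h1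

theorem normalClosure_systemNormalizer [Finite G] [Group.IsSolvable G]
    {K : Nat.Primes → Subgroup G} (hK : IsComplementSystem K) :
    normalClosure (systemNormalizer K : Set G) = ⊤ := by
  set X := normalClosure (systemNormalizer K : Set G)
  by_contra hX
  have : Nontrivial (G ⧸ X) := (QuotientGroup.nontrivial_iff).mpr hX
  obtain ⟨M, hM, -, hc, -⟩ := exists_coatom_normal_index_prime (G := G ⧸ X)
  set N := M.comap (QuotientGroup.mk' X)
  have hcN : _root_.commutator G ≤ N := by
    rw [← map_le_iff_le_comap, map_commutator_of_surjective (QuotientGroup.mk'_surjective X)]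
    exact hc
  have := normal_of_commutator_le' hcN
  have h1 := systemNormalizer_map_mk' hK N
  rw [map_mk'_eq_bot_iff.mpr (le_normalClosure.trans (le_comap_mk' X M))] at h1
  refine (isCoatom_comap_mk' hM).1 ((eq_top_iff' _).mpr fun x => ?_)
  rw [← QuotientGroup.eq_one_iff, ← mem_bot, ← h1, mem_systemNormalizer]
  intro p
  have : ((K p).map (QuotientGroup.mk' N)).Normal := normal_of_commutator_le' (by
    rw [← map_commutator_of_surjective (QuotientGroup.mk'_surjective N), map_mk'_eq_bot_iff.mpr hcN]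
    exact bot_le)
  exact le_normalizer_of_normal (mem_top _)

theorem IsMinNormal.le_centralizer_of_isPGroup_map [Finite G] {p : ℕ} [Fact p.Prime]
    {B M : Subgroup G} (hB : IsMinNormal B) [B.Normal] (hp : IsPGroup p B) [M.Normal]
    (hM : IsPGroup p (M.map (QuotientGroup.mk' (centralizer (B : Set G))))) :
    M ≤ centralizer (B : Set G) := by
  obtain ⟨R, hR⟩ := exists_isSylowIn p M
  have h1 : M ≤ R ⊔ centralizer (B : Set G) := by
    rw [← map_mk'_le_map_mk'_iff, (hR.map _).eq_of_le hM le_rfl (map_mono hR.1)]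
  have h2 := inf_centralizer_ne_bot_of_isPGroup hp hR.2.1 le_normalizer_of_normal hB.2.1
  have h3 : B ⊓ centralizer (M : Set G) = B := hB.eq_of_le inf_le_left fun e => h2 (by
    rw [eq_bot_iff, ← e]
    refine le_inf inf_le_left (le_centralizer_iff.mp (h1.trans (sup_le ?_ ?_)))
    · exact le_centralizer_iff.mp inf_le_right
    · exact centralizer_anti inf_le_left)
  exact le_centralizer_iff.mp (inf_eq_left.mp h3)

theorem IsMinNormal.inf_centralizer_eq_bot_of_isPiHall [Finite G] [Group.IsSolvable G] {p : ℕ}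
    [hp : Fact p.Prime] {B H : Subgroup G} (hB : IsMinNormal B) (hBp : IsPGroup p B)
    (hH : IsPiHall ({p} : Set ℕ)ᶜ H) (hc : ¬ B ≤ center G) : B ⊓ centralizer (H : Set G) = ⊥ := by
  have := hB.1
  have : Nontrivial (G ⧸ centralizer (B : Set G)) := (QuotientGroup.nontrivial_iff).mpr fun e =>
    hc (centralizer_eq_top_iff_subset.mp e)
  obtain ⟨M, r, hM, hr, -, hMr⟩ :=
    exists_minNormal_elementaryAbelian (G := G ⧸ centralizer (B : Set G))
  have := hM.1
  have hnot : ¬ M.comap (QuotientGroup.mk' _) ≤ centralizer (B : Set G) := fun h => hM.2.1 (by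
    rw [← map_comap_mk' _ M, map_mk'_eq_bot_iff]; exact h)
  have hrp : r ≠ p := by
    rintro rfl
    exact hnot (hB.le_centralizer_of_isPGroup_map hBp (by rwa [map_comap_mk']))
  have := Fact.mk hr
  have h1 : M ≤ H.map (QuotientGroup.mk' _) :=
    (le_piCore hM.1 (isPiNum_card_of_isPGroup hMr hrp)).trans
      (piCore_le_of_isPiHall (isPiHall_map hH (QuotientGroup.mk'_surjective _)))
  have h2 : M.comap (QuotientGroup.mk' _) ≤ H ⊔ centralizer (B : Set G) := by
    rw [← comap_map_mk'']; exact comap_mono h1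
  have h3 := (hB.2.2 (B ⊓ centralizer (M.comap (QuotientGroup.mk' _) : Set G)) inferInstance
    inf_le_left).resolve_right fun e => hnot (le_centralizer_iff.mp (inf_eq_left.mp e))
  rw [eq_bot_iff, ← h3]
  refine le_inf inf_le_left (le_centralizer_iff.mp (h2.trans (sup_le ?_ ?_)))
  · exact le_centralizer_iff.mp inf_le_right
  · exact centralizer_anti inf_le_left

theorem IsMinNormal.inf_systemNormalizer_eq_bot [Finite G] [Group.IsSolvable G]
    {K : Nat.Primes → Subgroup G} (hK : IsComplementSystem K) {B : Subgroup G}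
    (hB : IsMinNormal B) (hc : ¬ B ≤ center G) : B ⊓ systemNormalizer K = ⊥ := by
  obtain ⟨p, hp, hBp⟩ := hB.exists_isPGroup inferInstance
  have := Fact.mk hp
  have := hB.1
  have hH := isComplementSystem_iff.mp hK ⟨p, hp⟩
  rw [eq_bot_iff, ← hB.inf_centralizer_eq_bot_of_isPiHall hBp hH hc,
    ← inf_normalizer_eq_inf_centralizer le_normalizer_of_normal (inf_eq_bot_of_coprime'
      (IsPGroup_coprime_card hBp ((isPiNum_compl_singleton_iff hp).mp
        (isPiHall_iff.mp hH).1)).symm)]
  exact inf_le_inf_left _ (systemNormalizer_le K _)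

theorem center_le_systemNormalizer (K : Nat.Primes → Subgroup G) :
    center G ≤ systemNormalizer K := le_iInf fun _ => center_le_normalizer _

theorem isMinNormal_map_mk'_of_chief {A B : Subgroup G} [A.Normal] [B.Normal] (hAB : A < B)
    (h : ∀ N : Subgroup G, N.Normal → A ≤ N → N ≤ B → N = A ∨ N = B) :
    IsMinNormal (B.map (QuotientGroup.mk' A)) := by
  refine ⟨map_mk'_normal B A, fun e => hAB.not_ge (map_mk'_eq_bot_iff.mp e), fun N hN hle => ?_⟩
  rw [← map_comap_mk' A N]
  refine (h (N.comap (QuotientGroup.mk' A)) inferInstance (le_comap_mk' A N) ?_).imp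
    (fun e => by rw [e, map_mk'_eq_bot_iff]) fun e => by rw [e]
  have := comap_mono (f := QuotientGroup.mk' A) hle
  rwa [comap_map_mk'', sup_eq_left.mpr hAB.le] at this

theorem map_mk'_le_center_iff {A B : Subgroup G} [A.Normal] :
    B.map (QuotientGroup.mk' A) ≤ center (G ⧸ A) ↔ ⁅B, (⊤ : Subgroup G)⁆ ≤ A := by
  rw [← map_mk'_eq_bot_iff (N := A), map_commutator, map_top_of_surjective _ (QuotientGroup.mk'_surjective A),
    commutator_eq_bot_iff_le_centralizer, coe_top, centralizer_univ]

theorem systemNormalizer_cover_avoid [Finite G] [Group.IsSolvable G]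
    {K : Nat.Primes → Subgroup G} (hK : IsComplementSystem K) {A B : Subgroup G} [A.Normal]
    [B.Normal] (hAB : A < B) (h : ∀ N : Subgroup G, N.Normal → A ≤ N → N ≤ B → N = A ∨ N = B) :
    (⁅B, (⊤ : Subgroup G)⁆ ≤ A → B ≤ A ⊔ systemNormalizer K) ∧
      (¬ ⁅B, (⊤ : Subgroup G)⁆ ≤ A → B ⊓ systemNormalizer K ≤ A) := by
  rw [← map_mk'_le_center_iff]
  constructor
  · intro hc
    rw [sup_comm, ← map_mk'_le_map_mk'_iff, ← systemNormalizer_map_mk' hK]
    exact hc.trans (center_le_systemNormalizer _)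
  · intro hc
    have := (isMinNormal_map_mk'_of_chief hAB h).inf_systemNormalizer_eq_bot
      (isComplementSystem_map hK (QuotientGroup.mk'_surjective A)) hc
    rw [systemNormalizer_map_mk' hK] at this
    rw [← map_mk'_eq_bot_iff, eq_bot_iff, ← this]
    exact map_inf_le _ _ _

theorem isPiHallOf_subgroupOf_iff {π : Set ℕ} {H M L : Subgroup G} (h : M ≤ L) :
    IsPiHallOf π H M ↔ H ≤ L ∧ IsPiHallOf π (H.subgroupOf L) (M.subgroupOf L) := by
  simp only [isPiHallOf_iff]
  constructor
  · rintro ⟨h1, h2, h3⟩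
    exact ⟨h1.trans h, subgroupOf_mono L h1, by rwa [card_subgroupOf_of_le (h1.trans h)],
      by rwa [relIndex_subgroupOf h]⟩
  · rintro ⟨h0, h1, h2, h3⟩
    exact ⟨le_of_subgroupOf_le h0 h1, by rwa [card_subgroupOf_of_le h0] at h2,
      by rwa [relIndex_subgroupOf h] at h3⟩

/-! ### Carter subgroups -/

theorem IsCarterSubgroup.eq_of_isNilpotent {C U : Subgroup G} (hC : IsCarterSubgroup C)
    (hU : Group.IsNilpotent U) (h : C ≤ U) : C = U := by
  by_contra hne
  have := lt_inf_normalizer_of_isNilpotent hU (lt_of_le_of_ne h hne)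
  rw [hC.2] at this
  exact this.not_ge inf_le_right

theorem IsCarterSubgroup.eq_top [Group.IsNilpotent G] {C : Subgroup G} (hC : IsCarterSubgroup C) :
    C = ⊤ := IsCarterSubgroup.eq_of_isNilpotent hC inferInstance le_top

theorem IsCarterSubgroup.conj {C : Subgroup G} (hC : IsCarterSubgroup C) (g : G) :
    IsCarterSubgroup (MulAut.conj g • C) :=
  ⟨isNilpotent_map hC.1 _, by rw [normalizer_conj_smul, hC.2]⟩

theorem IsCarterSubgroup.subgroupOf {C U : Subgroup G} (hC : IsCarterSubgroup C) (h : C ≤ U) :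
    IsCarterSubgroup (C.subgroupOf U) :=
  ⟨isNilpotent_subgroupOf hC.1 U, by rw [← subgroupOf_normalizer_eq h, hC.2]⟩

theorem normalizer_map_mk'_of_le {U N : Subgroup G} [N.Normal] (h : N ≤ U) :
    normalizer ((U.map (QuotientGroup.mk' N) : Subgroup (G ⧸ N)) : Set (G ⧸ N)) =
      (normalizer (U : Set G)).map (QuotientGroup.mk' N) := by
  refine le_antisymm ?_ (map_le_normalizer_map le_rfl _)
  have := comap_le_normalizer_comap (A := normalizer
    ((U.map (QuotientGroup.mk' N) : Subgroup (G ⧸ N)) : Set (G ⧸ N))) le_rfl (QuotientGroup.mk' N)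
  rw [comap_map_mk'', sup_eq_left.mpr h] at this
  rw [← map_comap_mk' N (normalizer _)]
  exact map_mono this

private theorem carter_normalizer_of_conj {C U : Subgroup G} (hC : IsCarterSubgroup C) (h : C ≤ U)
    (hU : ∀ D : Subgroup G, IsCarterSubgroup D → D ≤ U → ∃ u ∈ U, MulAut.conj u • C = D) :
    normalizer (U : Set G) = U := by
  refine le_antisymm (fun x hx => ?_) le_normalizer
  obtain ⟨l, hl, n, hn, rfl⟩ := frattini_argument_of_conj (A := normalizer (U : Set G)) (L := U)
    (H := C) (fun a ha => by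
      obtain ⟨u, hu, e⟩ := hU _ (IsCarterSubgroup.conj hC a) (by
        rw [← conj_smul_eq_of_mem_normalizer ha]; exact pointwise_smul_le_pointwise_smul_iff.mpr h)
      exact ⟨u, hu, e.symm⟩) x hx
  exact mul_mem hl (h (hC.2 ▸ hn))

private theorem carter_map_of_normalizer {C N : Subgroup G} [N.Normal] (hC : IsCarterSubgroup C)
    (h : normalizer ((C ⊔ N : Subgroup G) : Set G) = C ⊔ N) :
    IsCarterSubgroup (C.map (QuotientGroup.mk' N)) := by
  refine ⟨isNilpotent_map hC.1 _, ?_⟩
  have e : C.map (QuotientGroup.mk' N) = (C ⊔ N).map (QuotientGroup.mk' N) := by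
    rw [map_mk'_eq_map_mk'_iff, sup_assoc, sup_idem]
  rw [e, normalizer_map_mk'_of_le le_sup_right, h]

theorem IsMinNormal.isCoatom_of_sup_eq_top {N C : Subgroup G} (hN : IsMinNormal N)
    (ha : IsMulCommutative N) (h : C ⊔ N = ⊤) (hle : ¬ N ≤ C) : C ⊓ N = ⊥ ∧ IsCoatom C := by
  have := hN.1
  have := inf_normal_of_sup_eq_top ha h
  have h1 : C ⊓ N = ⊥ := (hN.2.2 _ this inf_le_right).resolve_right fun e => hle (inf_eq_right.mp e)
  exact ⟨h1, hN.isCoatom_of_isComplement' ha
    (isComplement'_of_normal (by rwa [inf_comm]) (by rwa [sup_comm]))⟩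

theorem exists_conj_of_isCarterSubgroup [Finite G] [hs : Group.IsSolvable G] {C D : Subgroup G}
    (hC : IsCarterSubgroup C) (hD : IsCarterSubgroup D) : ∃ g : G, MulAut.conj g • C = D := by
  revert hs
  induction G, ‹Group G›, ‹Finite G› using card_induction' with | _ G ih => ?_
  intro hs
  rcases subsingleton_or_nontrivial G with hG | hG
  · exact ⟨1, Subsingleton.elim _ _⟩
  have sub : ∀ U : Subgroup G, U ≠ ⊤ → ∀ C D : Subgroup G, IsCarterSubgroup C →
      IsCarterSubgroup D → C ≤ U → D ≤ U → ∃ u ∈ U, MulAut.conj u • C = D := by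
    intro U hU C D hC hD h1 h2
    obtain ⟨u, hu⟩ := ih U (card_lt_of_ne_top hU) (IsCarterSubgroup.subgroupOf hC h1)
      (IsCarterSubgroup.subgroupOf hD h2)
    exact ⟨u, u.2, conj_smul_eq_of_subgroupOf h1 h2 u hu⟩
  have quo : ∀ (N : Subgroup G) [N.Normal] (C : Subgroup G), IsCarterSubgroup C →
      IsCarterSubgroup (C.map (QuotientGroup.mk' N)) := by
    intro N _ C hC
    refine carter_map_of_normalizer hC ?_
    by_cases h : C ⊔ N = ⊤
    · rw [h]; exact normalizer_eq_top _
    · exact carter_normalizer_of_conj hC le_sup_left fun D hD h2 =>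
        sub _ h C D hC hD le_sup_left h2
  by_contra hcon
  have key : ∀ (N : Subgroup G) [N.Normal], N ≠ ⊥ → C ⊔ N = ⊤ ∧ D ⊔ N = ⊤ := by
    intro N _ hN
    obtain ⟨g, hg⟩ := ih _ (card_quotient_lt hN) (quo N C hC) (quo N D hD)
    obtain ⟨g, rfl⟩ := QuotientGroup.mk'_surjective N g
    rw [← map_conj_smul, map_mk'_eq_map_mk'_iff] at hg
    have h1 : D ⊔ N = ⊤ := by
      by_contra h
      obtain ⟨u, -, hu⟩ := sub _ h _ D (IsCarterSubgroup.conj hC g) hD (hg ▸ le_sup_left)
        le_sup_left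
      exact hcon ⟨u * g, by rw [← conj_smul_conj_smul, hu]⟩
    refine ⟨?_, h1⟩
    rw [h1] at hg
    rw [← smul_eq_top_iff (MulAut.conj g), smul_sup, hg.symm]
    congr 1
    exact conj_smul_eq_of_mem_normalizer (le_normalizer_of_normal (mem_top g))
  have hnil : ¬ Group.IsNilpotent G := fun h =>
    hcon ⟨1, by rw [IsCarterSubgroup.eq_top hC, IsCarterSubgroup.eq_top hD, smul_top']⟩
  have hC1 : C ≠ ⊤ := fun e => hnil (isNilpotent_of_top (e ▸ hC.1))
  have hD1 : D ≠ ⊤ := fun e => hnil (isNilpotent_of_top (e ▸ hD.1))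
  have hCc : C.normalCore = ⊥ := by
    by_contra h
    exact hC1 (sup_eq_left.mpr C.normalCore_le ▸ (key _ h).1)
  have hDc : D.normalCore = ⊥ := by
    by_contra h
    exact hD1 (sup_eq_left.mpr D.normalCore_le ▸ (key _ h).2)
  obtain ⟨N, hN⟩ := exists_minNormal (G := G)
  have := hN.1
  have ha := hN.isMulCommutative inferInstance
  obtain ⟨h1, h2⟩ := key N hN.2.1
  exact hcon (corefree_conj_of_isSolvable
    (hN.isCoatom_of_sup_eq_top ha h1 fun h => hN.2.1 (corefree_eq_bot hCc h)).2
    (hN.isCoatom_of_sup_eq_top ha h2 fun h => hN.2.1 (corefree_eq_bot hDc h)).2 hCc hDc)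

theorem exists_conj_of_isCarterSubgroup_of_le [Finite G] {C D U : Subgroup G}
    (hU : Group.IsSolvable U) (hC : IsCarterSubgroup C) (hD : IsCarterSubgroup D) (h1 : C ≤ U)
    (h2 : D ≤ U) : ∃ u ∈ U, MulAut.conj u • C = D := by
  obtain ⟨u, hu⟩ := exists_conj_of_isCarterSubgroup (IsCarterSubgroup.subgroupOf hC h1)
    (IsCarterSubgroup.subgroupOf hD h2)
  exact ⟨u, u.2, conj_smul_eq_of_subgroupOf h1 h2 u hu⟩

theorem IsCarterSubgroup.normalizer_eq_of_le [Finite G] {C U : Subgroup G}
    (hC : IsCarterSubgroup C) (hU : Group.IsSolvable U) (h : C ≤ U) :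
    normalizer (U : Set G) = U :=
  carter_normalizer_of_conj hC h fun _ hD h2 => exists_conj_of_isCarterSubgroup_of_le hU hC hD h h2

theorem IsCarterSubgroup.map_mk' [Finite G] [Group.IsSolvable G] {C : Subgroup G}
    (hC : IsCarterSubgroup C) (N : Subgroup G) [N.Normal] :
    IsCarterSubgroup (C.map (QuotientGroup.mk' N)) :=
  carter_map_of_normalizer hC (IsCarterSubgroup.normalizer_eq_of_le hC inferInstance le_sup_left)

theorem IsCarterSubgroup.sup_eq_top [Finite G] [Group.IsSolvable G] {C : Subgroup G}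
    (hC : IsCarterSubgroup C) (N : Subgroup G) [N.Normal] (h : Group.IsNilpotent (G ⧸ N)) :
    C ⊔ N = ⊤ := map_mk'_eq_top_iff.mp (IsCarterSubgroup.eq_top (IsCarterSubgroup.map_mk' hC N))

theorem isNilpotent_sup_of_le_normalizer [Finite G] {A B : Subgroup G} (h1 : Group.IsNilpotent A)
    (h2 : Group.IsNilpotent B) (hA : A ≤ normalizer (B : Set G)) (hB : B ≤ normalizer (A : Set G)) :
    Group.IsNilpotent ↥(A ⊔ B) := by
  have := (normal_subgroupOf_iff_le_normalizer (le_sup_left : A ≤ A ⊔ B)).mpr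
    (sup_le le_normalizer hB)
  have := (normal_subgroupOf_iff_le_normalizer (le_sup_right : B ≤ A ⊔ B)).mpr
    (sup_le hA le_normalizer)
  have h := isNilpotent_sup_of_normal (isNilpotent_subgroupOf h1 (A ⊔ B))
    (isNilpotent_subgroupOf h2 (A ⊔ B))
  rw [← subgroupOf_sup le_sup_left le_sup_right, subgroupOf_self] at h
  exact isNilpotent_of_top h

theorem exists_isCarterSubgroup [Finite G] [hs : Group.IsSolvable G] :
    ∃ C : Subgroup G, IsCarterSubgroup C := by
  revert hs
  induction G, ‹Group G›, ‹Finite G› using card_induction' with | _ G ih => ?_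
  intro hs
  rcases subsingleton_or_nontrivial G with hG | hG
  · exact ⟨⊤, inferInstance, Subsingleton.elim _ _⟩
  obtain ⟨N, p, hN, hp, -, hNp⟩ := exists_minNormal_elementaryAbelian (G := G)
  have := hN.1
  have := Fact.mk hp
  obtain ⟨D, hD⟩ := ih (G ⧸ N) (card_quotient_lt hN.2.1)
  set U := D.comap (QuotientGroup.mk' N) with hUd
  have hNU : N ≤ U := le_comap_mk' N D
  by_cases hU : U = ⊤
  · have hq : Group.IsNilpotent (G ⧸ N) := by
      have : D = ⊤ := by rw [← map_comap_mk' N D, ← hUd, hU, map_mk'_eq_top_iff, top_sup_eq]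
      exact isNilpotent_of_top (this ▸ hD.1)
    obtain ⟨Q, hQ⟩ := exists_isPiHall (G := G) ({p} : Set ℕ)ᶜ
    have hQ' := isPiHall_iff.mp hQ
    have hc : (Nat.card Q).Coprime (Nat.card N) :=
      (IsPGroup_coprime_card hNp ((isPiNum_compl_singleton_iff hp).mp hQ'.1)).symm
    have hQn : Group.IsNilpotent Q := by
      obtain ⟨e⟩ := nonempty_mulEquiv_map_of_inf_ker (X := Q) (QuotientGroup.mk' N)
        (by rw [QuotientGroup.ker_mk']; exact inf_eq_bot_of_coprime' hc)
      exact isNilpotent_of_injective (f := e.toMonoidHom) e.injective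
    set R := (pCore p (G ⧸ N)).comap (QuotientGroup.mk' N)
    have hR : IsSylowIn p R ⊤ := ⟨le_top, isPGroup_comap_mk' hNp (pCore_isPGroup p), by
      rw [relIndex_top_right, index_comap_of_surjective _ (QuotientGroup.mk'_surjective N)]
      exact not_dvd_index_pCore_of_isNilpotent p⟩
    have hRQ : IsProd ⊤ Q R := isProd_top_of_coprime (by
      rw [compl_compl] at hQ'
      exact hQ'.2.coprime ((isPiNum_compl_singleton_iff hp).mpr
        (hp.coprime_iff_not_dvd.mpr (by simpa using hR.2.2)).symm))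
    refine ⟨normalizer (Q : Set G), ?_, le_antisymm (fun x hx => ?_) le_normalizer⟩
    · rw [← (hRQ.of_le_left le_normalizer le_top).sup_eq]
      exact isNilpotent_sup_of_le_normalizer hQn (hR.2.1.to_le inf_le_right).isNilpotent
        (le_normalizer_inf (le_normalizer.trans le_normalizer) le_normalizer_of_normal) inf_le_left
    · have h1 := isPiHallOf_of_le (isPiHallOf_top.mpr hQ) le_normalizer le_top
      have h2 := isPiHallOf_conj_of_mem_normalizer h1 hx
      rw [← conj_smul_eq_iff]
      exact conj_smul_eq_of_le (le_of_isPiHallOf_of_le_normalizer h1 (isPiHallOf_iff.mp h2).2.1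
        (isPiHallOf_iff.mp h2).1 (Or.inr (isPiHallOf_iff.mp h2).1))
  · obtain ⟨C, hC⟩ := ih U (card_lt_of_ne_top hU)
    have h0 : Group.IsNilpotent (U.map (QuotientGroup.mk' N)) := by
      rw [hUd, map_comap_mk']; exact hD.1
    have h1 : C ⊔ N.subgroupOf U = ⊤ := IsCarterSubgroup.sup_eq_top hC _
      (isNilpotent_of_injective (f := (quotientSubgroupOfEquivMap U N).toMonoidHom)
        (quotientSubgroupOfEquivMap U N).injective)
    have h2 : C.map U.subtype ⊔ N = U := by
      rw [← map_subgroupOf_eq_of_le hNU, ← Subgroup.map_sup, h1, ← MonoidHom.range_eq_map,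
        range_subtype]
    have h3 : normalizer (U : Set G) = U := by
      refine eq_of_map_mk'_eq (hNU.trans le_normalizer) hNU ?_
      rw [← normalizer_map_mk'_of_le hNU, hUd, map_comap_mk', hD.2]
    refine ⟨C.map U.subtype, isNilpotent_map hC.1 _, le_antisymm (fun x hx => ?_) le_normalizer⟩
    have hxU : x ∈ U := by
      rw [← h3, ← h2]
      exact le_normalizer_sup le_rfl le_normalizer_of_normal hx
    have : (⟨x, hxU⟩ : U) ∈ normalizer (C : Set U) := by
      rw [← map_subtype_subgroupOf C, ← subgroupOf_normalizer_eq (map_subtype_le C)]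
      exact hx
    exact ⟨_, hC.2 ▸ this, rfl⟩

theorem isPiHallOf_sup [Finite G] {π : Set ℕ} {A B X Y : Subgroup G}
    (hA : A ≤ normalizer (B : Set G)) (hX : IsPiHallOf π X A) (hY : IsPiHallOf π Y B)
    (hXY : X ≤ normalizer (Y : Set G)) : IsPiHallOf π (X ⊔ Y) (A ⊔ B) := by
  rw [isPiHallOf_iff] at hX hY ⊢
  have hle := sup_le_sup hX.1 hY.1
  refine ⟨hle, isPiNum_card_sup hXY hX.2.1 hY.2.1, (hX.2.2.mul hY.2.2).of_dvd ?_⟩
  have e1 := card_sup_mul_card_inf hA
  have e2 := card_sup_mul_card_inf hXY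
  rw [← card_mul_relIndex hle, ← card_mul_relIndex hX.1, ← card_mul_relIndex hY.1,
    ← card_mul_relIndex (inf_le_inf hX.1 hY.1)] at e1
  refine ⟨(X ⊓ Y).relIndex (A ⊓ B), Nat.eq_of_mul_eq_mul_left
    (Nat.mul_pos (Nat.card_pos (α := X)) (Nat.card_pos (α := Y))) ?_⟩
  calc Nat.card X * Nat.card Y * (X.relIndex A * Y.relIndex B)
      = Nat.card X * X.relIndex A * (Nat.card Y * Y.relIndex B) := by ring
    _ = _ := by rw [← e1, ← e2]; ring

theorem isPiHallOf_inf_of_le [Finite G] {π : Set ℕ} {X H L : Subgroup G} (hX : IsPiHallOf π X L)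
    (hH : IsPiNum π (Nat.card H)) (h : X ≤ H) : H ⊓ L = X :=
  eq_of_isPiHallOf_of_le hX (isPiNum_card_of_le hH inf_le_left) inf_le_right
    (le_inf h (isPiHallOf_iff.mp hX).1)

/-- A complement system reduces into a subgroup. -/
def ReducesInto (K : Nat.Primes → Subgroup G) (U : Subgroup G) : Prop :=
  ∀ p : Nat.Primes, IsPiHallOf ({(p : ℕ)} : Set ℕ)ᶜ (K p ⊓ U) U

theorem exists_reducesInto [Finite G] [Group.IsSolvable G] (U : Subgroup G) :
    ∃ K : Nat.Primes → Subgroup G, IsComplementSystem K ∧ ReducesInto K U := by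
  have : ∀ p : Nat.Primes, ∃ H : Subgroup G, IsPiHall ({(p : ℕ)} : Set ℕ)ᶜ H ∧
      IsPiHallOf ({(p : ℕ)} : Set ℕ)ᶜ (H ⊓ U) U := by
    intro p
    obtain ⟨X, hX⟩ := exists_isPiHallOf ({(p : ℕ)} : Set ℕ)ᶜ (M := U) inferInstance
    obtain ⟨H, hH, h⟩ := exists_isPiHall_ge (isPiHallOf_iff.mp hX).2.1
    exact ⟨H, hH, by rwa [isPiHallOf_inf_of_le hX (isPiHall_iff.mp hH).1 h]⟩
  choose K h1 h2 using this
  exact ⟨K, isComplementSystem_iff.mpr h1, h2⟩

theorem isPiHallOf_inf_of_normal [Finite G] {π : Set ℕ} {H : Subgroup G} (hH : IsPiHall π H)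
    (N : Subgroup G) [N.Normal] : IsPiHallOf π (H ⊓ N) N :=
  isPiHallOf_inf_of_normalizer (isPiHallOf_top.mpr hH) le_top le_normalizer_of_normal

theorem ReducesInto.inf_sup [Finite G] {K : Nat.Primes → Subgroup G} (hK : IsComplementSystem K)
    {U : Subgroup G} (h : ReducesInto K U) (N : Subgroup G) [N.Normal] (p : Nat.Primes) :
    K p ⊓ (U ⊔ N) = (K p ⊓ U) ⊔ (K p ⊓ N) ∧
      IsPiHallOf ({(p : ℕ)} : Set ℕ)ᶜ (K p ⊓ (U ⊔ N)) (U ⊔ N) := by
  have h0 := isComplementSystem_iff.mp hK p
  have h1 := isPiHallOf_sup le_normalizer_of_normal (h p) (isPiHallOf_inf_of_normal h0 N)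
    (le_normalizer_inf (inf_le_left.trans le_normalizer) le_normalizer_of_normal)
  have h2 := isPiHallOf_inf_of_le h1 (isPiHall_iff.mp h0).1 (sup_le inf_le_left inf_le_left)
  exact ⟨h2, h2 ▸ h1⟩

theorem systemNormalizer_le_of_reducesInto [Finite G] [hs : Group.IsSolvable G]
    {K : Nat.Primes → Subgroup G} (hK : IsComplementSystem K) {C : Subgroup G}
    (hC : IsCarterSubgroup C) (h : ReducesInto K C) : systemNormalizer K ≤ C := by
  revert hs
  induction G, ‹Group G›, ‹Finite G› using card_induction' with | _ G ih => ?_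
  intro hs
  rcases subsingleton_or_nontrivial G with hG | hG
  · exact le_of_eq (Subsingleton.elim _ _)
  obtain ⟨N, p, hN, hp, -, hNp⟩ := exists_minNormal_elementaryAbelian (G := G)
  have := hN.1
  have := Fact.mk hp
  have hK' := isComplementSystem_iff.mp hK
  have h1 := ih _ (card_quotient_lt hN.2.1)
    (isComplementSystem_map hK (QuotientGroup.mk'_surjective N)) (IsCarterSubgroup.map_mk' hC N)
    (fun q => by
      have h2 := isPiHallOf_map (h q) (QuotientGroup.mk' N)
      rwa [isPiHallOf_inf_of_le h2 (isPiNum_card_map (isPiHall_iff.mp (hK' q)).1 _)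
        (map_mono inf_le_left)])
  rw [systemNormalizer_map_mk' hK, map_mk'_le_map_mk'_iff] at h1
  by_cases hU : C ⊔ N = ⊤
  · by_cases hNC : N ≤ C
    · rwa [sup_eq_left.mpr hNC] at h1
    obtain ⟨h2, h3⟩ := hN.isCoatom_of_sup_eq_top (hN.isMulCommutative inferInstance) hU hNC
    have h0 := isPiHall_iff.mp (hK' ⟨p, hp⟩)
    have h4 := (h.inf_sup hK N ⟨p, hp⟩).1
    rw [hU, inf_top_eq, inf_eq_bot_of_coprime' (H := K _) (K := N) (IsPGroup_coprime_card hNp
      ((isPiNum_compl_singleton_iff hp).mp h0.1)).symm, sup_bot_eq] at h4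
    have h5 := le_normalizer_of_isPiHallOf_of_isNilpotent hC.1 (h ⟨p, hp⟩)
    rw [← h4] at h5
    rcases h5.lt_or_eq with h6 | h6
    · exfalso
      have := normalizer_eq_top_iff.mp (h3.2 _ h6)
      obtain ⟨P, hP⟩ := exists_isSylowIn p C
      have h7 : IsProd C P (K ⟨p, hp⟩ ⊓ C) := isProd_of_coprime hP.1 inf_le_right
        (((isPiHallOf_iff.mp (isSylowIn_iff_isPiHallOf.mp hP)).2.2).coprime
          (isPiHallOf_iff.mp (h ⟨p, hp⟩)).2.2)
      refine inf_centralizer_ne_bot_of_isPGroup hNp hP.2.1 le_normalizer_of_normal hN.2.1 ?_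
      rw [eq_bot_iff, ← h2, ← hC.2]
      refine le_inf (le_trans ?_ (centralizer_le_normalizer _)) inf_le_left
      rw [le_centralizer_iff, ← h7.sup_eq, ← h4]
      refine sup_le (le_centralizer_iff.mp inf_le_right) (le_trans ?_ (centralizer_anti inf_le_left))
      exact le_centralizer_of_coprime (IsPGroup_coprime_card hNp
        ((isPiNum_compl_singleton_iff hp).mp h0.1)).symm
    · rw [h6]; exact systemNormalizer_le K _
  · have h2 := ih _ (card_lt_of_ne_top hU) (K := fun q => (K q).subgroupOf (C ⊔ N))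
      (isComplementSystem_iff.mpr fun q => by
        rw [← inf_subgroupOf_right, ← isPiHallOf_iff_subgroupOf inf_le_right]
        exact (h.inf_sup hK N q).2)
      (IsCarterSubgroup.subgroupOf hC le_sup_left) (fun q => by
        exact ((isPiHallOf_subgroupOf_iff le_sup_left).mp (h q)).2)
    intro x hx
    exact h2 (x := ⟨x, h1 hx⟩) (mem_systemNormalizer.mpr fun q =>
      subgroupOf_le_normalizer_subgroupOf (systemNormalizer_le K q) _ hx)

theorem exists_isCarterSubgroup_ge_systemNormalizer [Finite G] [Group.IsSolvable G]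
    {K : Nat.Primes → Subgroup G} (hK : IsComplementSystem K) :
    ∃ C : Subgroup G, IsCarterSubgroup C ∧ ReducesInto K C ∧ systemNormalizer K ≤ C := by
  obtain ⟨C, hC⟩ := exists_isCarterSubgroup (G := G)
  obtain ⟨L, hL, h⟩ := exists_reducesInto C
  obtain ⟨g, hg⟩ := exists_conj_of_isComplementSystem hL hK
  have h1 : ReducesInto K (MulAut.conj g • C) := fun p => by
    rw [← hg p, ← smul_inf]; exact isPiHallOf_conj (h p) g
  exact ⟨_, IsCarterSubgroup.conj hC g, h1,
    systemNormalizer_le_of_reducesInto hK (IsCarterSubgroup.conj hC g) h1⟩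

theorem eq_systemNormalizer_of_metanilpotent [Finite G] (F : Subgroup G) [F.Normal]
    (hF : Group.IsNilpotent F) (hGF : Group.IsNilpotent (G ⧸ F)) {K : Nat.Primes → Subgroup G}
    (hK : IsComplementSystem K) {C : Subgroup G} (hC : IsCarterSubgroup C) (h : ReducesInto K C) :
    C = systemNormalizer K := by
  have : Group.IsSolvable G := isSolvable_of_normal_of_quotient F inferInstance inferInstance
  refine le_antisymm (le_iInf fun p => ?_) (systemNormalizer_le_of_reducesInto hK hC h)
  have h1 := (h.inf_sup hK F p).1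
  rw [IsCarterSubgroup.sup_eq_top hC F hGF, inf_top_eq] at h1
  rw [h1]
  refine le_normalizer_sup (le_normalizer_of_isPiHallOf_of_isNilpotent hC.1 (h p)) fun x _ => ?_
  have h2 := isPiHallOf_inf_of_normal (isComplementSystem_iff.mp hK p) F
  have h3 := isPiHallOf_iff.mp
    (isPiHallOf_conj_of_mem_normalizer h2 (le_normalizer_of_normal (mem_top x)))
  rw [← conj_smul_eq_iff]
  exact conj_smul_eq_of_le (le_of_isPiHallOf_of_isNilpotent hF h2 h3.2.1 h3.1)

/-! ### Products of abelian and nilpotent groups -/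

theorem IsProd.eq_top_of_isCarterSubgroup [Finite G] [Group.IsSolvable G] {A B : Subgroup G}
    (h : IsProd ⊤ A B) (hA : IsCarterSubgroup A) (hB : IsCarterSubgroup B) : A = ⊤ := by
  obtain ⟨g, hg⟩ := exists_conj_of_isCarterSubgroup hA hB
  exact h.eq_of_le_conj (mem_top g) hg.ge

theorem IsProd.mem_center {A B : Subgroup G} (h : IsProd ⊤ A B) {x : G}
    (hA : x ∈ centralizer (A : Set G)) (hB : x ∈ centralizer (B : Set G)) : x ∈ center G := by
  rw [← centralizer_univ, ← coe_top, ← h.sup_eq, ← le_centralizer_singleton_iff] 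
  exact sup_le (le_centralizer_singleton_iff.mpr hA) (le_centralizer_singleton_iff.mpr hB)

theorem normal_of_le_center' {N : Subgroup G} (h : N ≤ center G) : N.Normal :=
  ⟨fun n hn g => by rw [mem_center_iff.mp (h hn) g]; simpa using hn⟩

private theorem abelian_prod_aux [Finite G] {A B : Subgroup G} (h : IsProd ⊤ A B)
    (hA : IsMulCommutative A) (hB : IsMulCommutative B) (hZ : center G = ⊥)
    (hAc : A.normalCore = ⊥) (hBc : B.normalCore = ⊥)
    (ih : ∀ X : Subgroup G, X ≠ ⊤ → A ≤ X → ∃ N : Subgroup G, N ≠ ⊥ ∧ N ≤ X ∧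
      X ≤ normalizer (N : Set G) ∧ (N ≤ A ∨ N ≤ B)) : IsCarterSubgroup A := by
  have hC := h.isMulCommutative_commutator hA hB
  have hA' := le_centralizer_iff_isMulCommutative.mpr hA
  have hB' := le_centralizer_iff_isMulCommutative.mpr hB
  have hC' := le_centralizer_iff_isMulCommutative.mpr hC
  have hX : A ⊔ _root_.commutator G = ⊤ := by
    by_contra hX
    have := normal_of_commutator_le' (le_sup_right : _ ≤ A ⊔ _root_.commutator G)
    set X := A ⊔ _root_.commutator G
    have hZX : X ⊓ centralizer (X : Set G) = ⊥ := by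
      refine corefree_eq_bot hAc fun z hz => ?_
      obtain ⟨a, ha, b, hb, rfl⟩ := h.exists_mul z (mem_top z)
      have h1 : b ∈ centralizer (A : Set G) :=
        (mul_mem_cancel_left (hA' ha)).mp (centralizer_anti le_sup_left hz.2)
      have h2 := h.mem_center h1 (hB' hb)
      rw [hZ, mem_bot] at h2
      rwa [h2, mul_one]
    obtain ⟨N, hN1, hNX, hN, hle⟩ := ih X hX le_sup_left
    rcases hle with hle | hle
    · have h1 : N ⊓ _root_.commutator G = ⊥ := by
        rw [eq_bot_iff, ← hZX]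
        refine le_inf (inf_le_left.trans hNX) (le_centralizer_iff.mp (sup_le ?_ ?_))
        · exact hA'.trans (centralizer_anti (inf_le_left.trans hle))
        · exact hC'.trans (centralizer_anti inf_le_right)
      have h2 := le_centralizer_of_normalizes_of_disjoint le_normalizer_of_normal
        (le_sup_right.trans hN) h1
      refine hN1 (eq_bot_iff.mpr (hZX ▸ le_inf hNX (le_centralizer_iff.mp (sup_le ?_ ?_))))
      · exact hA'.trans (centralizer_anti hle)
      · exact le_centralizer_iff.mp h2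
    · have := normal_of_sup_eq_top h.sup_eq (le_sup_left.trans hN)
        ((hB'.trans (centralizer_anti hle)).trans (centralizer_le_normalizer _))
      exact hN1 (corefree_eq_bot hBc hle)
  have key : ∀ x ∈ _root_.commutator G, x ∈ centralizer (A : Set G) → x = 1 := fun x h1 h2 => by
    have := (hX ▸ isProd_sup_of_le_normalizer (H := A) (K := _root_.commutator G)
      le_normalizer_of_normal).mem_center h2 (hC' h1)
    rwa [hZ, mem_bot] at this
  refine ⟨isNilpotent_of_comm hA, le_antisymm (fun x hx => ?_) le_normalizer⟩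
  obtain ⟨a, ha, c, hc, rfl⟩ := (mem_sup_of_le_normalizer_right (H := A)
    (N := _root_.commutator G) le_normalizer_of_normal).mp (hX ▸ mem_top x)
  have h1 : c ∈ normalizer (A : Set G) := (mul_mem_cancel_left (le_normalizer ha)).mp hx
  have h2 := mem_centralizer_of_mem_normalizer_of_disjoint le_normalizer_of_normal
    (eq_bot_iff.mpr fun y hy => key y hy.2 (hA' hy.1)) hc h1
  rwa [key c hc h2, mul_one]

theorem IsProd.exists_normal_le_of_isMulCommutative [Finite G] {A B : Subgroup G}
    (h : IsProd ⊤ A B) (hA : IsMulCommutative A) (hB : IsMulCommutative B) (hG : Nontrivial G) :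
    ∃ N : Subgroup G, N.Normal ∧ N ≠ ⊥ ∧ (N ≤ A ∨ N ≤ B) := by
  induction G, ‹Group G›, ‹Finite G› using card_induction' with | _ G ih => ?_
  by_contra hcon
  have hAc : A.normalCore = ⊥ := by
    by_contra e; exact hcon ⟨_, inferInstance, e, Or.inl A.normalCore_le⟩
  have hBc : B.normalCore = ⊥ := by
    by_contra e; exact hcon ⟨_, inferInstance, e, Or.inr B.normalCore_le⟩
  have hA' := le_centralizer_iff_isMulCommutative.mpr hA
  have hB' := le_centralizer_iff_isMulCommutative.mpr hB
  have hA1 : A ≠ ⊤ := fun e => top_ne_bot (corefree_eq_bot hAc (e ▸ le_rfl))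
  have hB1 : B ≠ ⊤ := fun e => top_ne_bot (corefree_eq_bot hBc (e ▸ le_rfl))
  have hA0 : A ≠ ⊥ := fun e => hB1 (h.symm.eq_of_le (e ▸ bot_le))
  have hB0 : B ≠ ⊥ := fun e => hA1 (h.eq_of_le (e ▸ bot_le))
  have hZ : center G = ⊥ := by
    refine eq_bot_iff.mpr fun z hz => ?_
    obtain ⟨a, ha, b, hb, rfl⟩ := h.exists_mul z (mem_top z)
    have h1 : b ∈ center G := h.mem_center
      ((mul_mem_cancel_left (hA' ha)).mp (center_le_centralizer _ hz)) (hB' hb)
    have h2 : a ∈ center G := (mul_mem_cancel_right h1).mp hz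
    have := normal_of_le_center' (zpowers_le.mpr h1)
    have := normal_of_le_center' (zpowers_le.mpr h2)
    rw [zpowers_eq_bot.mp (corefree_eq_bot hAc (zpowers_le.mpr ha)),
      zpowers_eq_bot.mp (corefree_eq_bot hBc (zpowers_le.mpr hb)), mul_one]
    exact one_mem _
  have step : ∀ {A B : Subgroup G}, IsProd ⊤ A B → IsMulCommutative A → IsMulCommutative B →
      A ≠ ⊥ → ∀ X : Subgroup G, X ≠ ⊤ → A ≤ X → ∃ N : Subgroup G, N ≠ ⊥ ∧ N ≤ X ∧
        X ≤ normalizer (N : Set G) ∧ (N ≤ A ∨ N ≤ B) := by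
    intro A B h hA hB hA0 X hX hAX
    obtain ⟨N, hN, h1, h2⟩ := ih X (card_lt_of_ne_top hX) (h.of_le_left hAX le_top).subgroupOf
      (isMulCommutative_subgroupOf hA X)
      (isMulCommutative_subgroupOf (isMulCommutative_of_le hB inf_le_right) X)
      ((nontrivial_iff_ne_bot X).mpr fun e => hA0 (eq_bot_iff.mpr (e ▸ hAX)))
    refine ⟨N.map X.subtype, by rwa [Ne, map_eq_bot_iff_of_injective _ X.subtype_injective],
      map_subtype_le N, le_normalizer_map_subtype_of_normal N, h2.imp (fun h => ?_) fun h => ?_⟩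
    · exact map_le_iff_le_comap.mpr h
    · exact (map_le_iff_le_comap.mpr h).trans inf_le_right
  have := isSolvable_of_isMulCommutative_commutator (h.isMulCommutative_commutator hA hB)
  exact hA1 (h.eq_top_of_isCarterSubgroup
    (abelian_prod_aux h hA hB hZ hAc hBc (step h hA hB hA0))
    (abelian_prod_aux h.symm hB hA hZ hBc hAc (step h.symm hB hA hB0)))

theorem isCyclic_map {A : Subgroup G} (hA : IsCyclic A) (f : G →* G') : IsCyclic (A.map f) :=
  isCyclic_of_surjective _ (f.subgroupMap_surjective A)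

theorem IsProd.isSupersolvable_of_isCyclic [Finite G] {A B : Subgroup G}
    (h : IsProd ⊤ A B) (hA : IsCyclic A) (hB : IsCyclic B) : IsSupersolvable G := by
  induction G, ‹Group G›, ‹Finite G› using card_induction' with | _ G ih => ?_
  rcases subsingleton_or_nontrivial G with hG | hG
  · exact isSupersolvable_of_subsingleton
  obtain ⟨N, hN, h1, h2⟩ := h.exists_normal_le_of_isMulCommutative inferInstance inferInstance hG
  have : IsCyclic N := h2.elim (fun h => Subgroup.isCyclic_of_le h) fun h => Subgroup.isCyclic_of_le h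
  exact isSupersolvable_of_isCyclic_of_quotient N
    (ih _ (card_quotient_lt h1) (h.map_mk' N) (isCyclic_map hA _) (isCyclic_map hB _))

theorem IsProd.exists_normal_ge_of_isNilpotent [Finite G] (hs : Group.IsSolvable G)
    {A B : Subgroup G} (h : IsProd ⊤ A B) (hA : Group.IsNilpotent A) (hB : Group.IsNilpotent B)
    (hne : A ≠ ⊤ ∨ B ≠ ⊤) : ∃ N : Subgroup G, N.Normal ∧ N ≠ ⊤ ∧ (A ≤ N ∨ B ≤ N) := by
  induction G, ‹Group G›, ‹Finite G› using card_induction' with | _ G ih => ?_
  by_cases hG : Group.IsNilpotent G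
  · rcases hne with hne | hne
    · obtain ⟨M, hM, h1⟩ := exists_coatom_ge hne
      exact ⟨M, isNilpotent_iff_coatom_normal.mp hG M hM, hM.1, Or.inl h1⟩
    · obtain ⟨M, hM, h1⟩ := exists_coatom_ge hne
      exact ⟨M, isNilpotent_iff_coatom_normal.mp hG M hM, hM.1, Or.inr h1⟩
  have hA1 : A ≠ ⊤ := fun e => hG (isNilpotent_of_top (e ▸ hA))
  have hB1 : B ≠ ⊤ := fun e => hG (isNilpotent_of_top (e ▸ hB))
  rcases subsingleton_or_nontrivial G with h0 | h0
  · exact absurd (Subsingleton.elim _ _) hA1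
  obtain ⟨N, hN⟩ := exists_minNormal (G := G)
  have := hN.1
  have ha := hN.isMulCommutative inferInstance
  by_cases h1 : A ⊔ N = ⊤ ∧ B ⊔ N = ⊤
  · have key : ∀ A : Subgroup G, Group.IsNilpotent A → A ≠ ⊤ → A ⊔ N = ⊤ →
        A.Normal ∨ IsCarterSubgroup A := fun A hA hA1 h => by
      have := (hN.isCoatom_of_sup_eq_top ha h fun hle => hA1 (sup_eq_left.mpr hle ▸ h)).2
      rcases (le_normalizer (H := A)).lt_or_eq with h2 | h2
      · exact Or.inl (normalizer_eq_top_iff.mp (this.2 _ h2))
      · exact Or.inr ⟨hA, h2.symm⟩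
    rcases key A hA hA1 h1.1 with h2 | h2
    · exact ⟨A, h2, hA1, Or.inl le_rfl⟩
    rcases key B hB hB1 h1.2 with h3 | h3
    · exact ⟨B, h3, hB1, Or.inr le_rfl⟩
    exact absurd (h.eq_top_of_isCarterSubgroup h2 h3) hA1
  · obtain ⟨M, hM, h2, h3⟩ := ih _ (card_quotient_lt hN.2.1) inferInstance (h.map_mk' N)
      (isNilpotent_map hA _) (isNilpotent_map hB _) (by
        rwa [Ne, Ne, map_mk'_eq_top_iff, map_mk'_eq_top_iff, ← not_and_or])
    refine ⟨M.comap (QuotientGroup.mk' N), inferInstance, fun e => h2 ?_,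
      h3.imp map_le_iff_le_comap.mp map_le_iff_le_comap.mp⟩
    rw [← map_comap_mk' N M, e, map_mk'_eq_top_iff, top_sup_eq]

end Cfsg.Agent.Core
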